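import Cfsg.Agent.Techniques.AbSub.OddShape
import Mathlib.Algebra.Order.BigOperators.Group.Finset

/-!
# The count in odd order

The elements of `G` that are not `p`-elements lie in the conjugates of at most `π(p - 1)` maximal
subgroups `D ⋊ P₂`, and the sets of elements of `P₂` centralising some element of `D#` are small.
-/

set_option autoImplicit false

universe u

namespace CfsgLib.Techniques.AbSub.Odd

open Subgroup CfsgLib.ConjFunctor
open scoped CfsgLib.ConjFunctor commutatorElement Pointwise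

variable {p : ℕ} [hp : Fact p.Prime] {G : Type u} [Group G] [Finite G]
variable {M : Subgroup G}

/-- The elements of `P2` centralising a non-trivial element of `O_{p'}(M)`. -/
def bad (p : ℕ) (M P2 : Subgroup G) : Set G :=
  {a | a ∈ P2 ∧ a ≠ 1 ∧ ∃ d ∈ locD p M, d ≠ 1 ∧ a * d = d * a}

/-- The elements of `M` that are not `p`-elements. -/
def mixed (p : ℕ) (M : Subgroup G) : Set G := {g | g ∈ M ∧ ∀ k : ℕ, g ^ p ^ k ≠ 1}

theorem Loc.exists_decomp (l : Loc p M) (m : OMin p G) {P2 : Subgroup G} (hP : IsSylowIn p P2 M)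
    {g : G} (hg : g ∈ M) : ∃ d ∈ locD p M, ∃ a ∈ P2, g = d * a := by
  let S : Sylow p M := (hP.2.1.comap_subtype (K := M)).toSylow hP.2.2
  set Dm := Cfsg.pPrimeCore p M
  have hq : IsPGroup p (M ⧸ Dm) := by
    intro z
    obtain ⟨y, rfl⟩ := QuotientGroup.mk'_surjective _ z
    obtain ⟨k, hk⟩ := exists_pow_coprime (p := p) (y : G)
    refine ⟨k, ?_⟩
    obtain ⟨w, hw, hwe⟩ := l.mem_locD m (M.pow_mem y.2 _) hk
    rw [← map_pow]
    refine (QuotientGroup.eq_one_iff _).mpr ?_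
    rwa [show w = y ^ p ^ k from Subtype.ext (by rw [Subgroup.coe_pow]; exact hwe)] at hw
  have htop : (S : Subgroup M).map (QuotientGroup.mk' Dm) = ⊤ :=
    ((S.mapSurjective (QuotientGroup.mk'_surjective Dm)).is_maximal'
      (hq.to_subgroup ⊤) le_top).symm
  obtain ⟨s, hs, he⟩ := htop.ge (mem_top (QuotientGroup.mk' Dm ⟨g, hg⟩))
  have hd : (⟨g, hg⟩ : M) * s⁻¹ ∈ Dm := by
    rw [← QuotientGroup.eq_one_iff]
    show QuotientGroup.mk' Dm _ = 1
    rw [map_mul, map_inv, he, mul_inv_cancel]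
  exact ⟨g * (s : G)⁻¹, ⟨_, hd, rfl⟩, s, hs, by group⟩

theorem Loc.card_mixed_mul_le (l : Loc p M) (m : OMin p G) {P2 : Subgroup G} (hP : IsSylowIn p P2 M) :
    Nat.card (mixed p M) * Nat.card P2 ≤ Nat.card M * (Nat.card (bad p M P2) + 1) := by
  have hdec : ∀ g : mixed p M, ∃ x : locD p M × (insert 1 (bad p M P2) : Set G),
      (g : G) = x.1 * x.2 := by
    rintro ⟨g, hgM, hg⟩
    obtain ⟨d, hd, a, ha, he⟩ := l.exists_decomp m hP hgM
    refine ⟨(⟨d, hd⟩, ⟨a, ?_⟩), he⟩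
    rcases eq_or_ne a 1 with ha1 | ha1
    · exact Or.inl ha1
    obtain ⟨k, hk⟩ := exists_pow_coprime (p := p) g
    set x := g ^ p ^ k with hx
    have hxD : x ∈ locD p M := l.mem_locD m (pow_mem hgM _) hk
    refine Or.inr ⟨ha, ha1, x, hxD, hg k, ?_⟩
    have h1 : g * x = x * g := (Commute.self_pow g _).eq
    have h2 : d * x = x * d :=
      Loc.comm_locD m (map_subtype_le _ hd) (coprime_of_mem coprime_locD hd) hxD
    rw [he] at h1
    apply mul_left_cancel (a := d)
    calc d * (a * x) = d * a * x := by group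
      _ = x * (d * a) := h1
      _ = d * (x * a) := by rw [← mul_assoc, ← h2, mul_assoc]
  choose f hf using hdec
  have hinj : Function.Injective f := fun g g' h => Subtype.ext (by rw [hf g, hf g', h])
  have h1 := Nat.card_le_card_of_injective f hinj
  rw [Nat.card_prod] at h1
  have h2 : Nat.card (insert 1 (bad p M P2) : Set G) ≤ Nat.card (bad p M P2) + 1 := by
    rw [Nat.card_coe_set_eq, Nat.card_coe_set_eq]
    exact Set.ncard_insert_le _ _
  have h3 : Nat.card (locD p M) * Nat.card P2 ≤ Nat.card M := by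
    rw [← Nat.card_prod]
    refine Nat.card_le_card_of_injective
      (fun x : locD p M × P2 => (⟨x.1 * x.2, M.mul_mem (map_subtype_le _ x.1.2) (hP.1 x.2.2)⟩ : M)) ?_
    rintro ⟨⟨d, hd⟩, ⟨a, ha⟩⟩ ⟨⟨d', hd'⟩, ⟨a', ha'⟩⟩ h
    have h' : d * a = d' * a' := congrArg Subtype.val h
    have h4 : d'⁻¹ * d = a' * a⁻¹ := by
      calc d'⁻¹ * d = d'⁻¹ * (d * a) * a⁻¹ := by group
        _ = a' * a⁻¹ := by rw [h']; group
    have h5 := eq_one_of_mem_of_mem hP.2.1 coprime_locD
      (h4 ▸ P2.mul_mem ha' (P2.inv_mem ha) : d'⁻¹ * d ∈ P2)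
      ((locD p M).mul_mem ((locD p M).inv_mem hd') hd)
    obtain rfl : d' = d := inv_mul_eq_one.mp h5
    obtain rfl : a = a' := mul_left_cancel h'
    rfl
  calc Nat.card (mixed p M) * Nat.card P2
      ≤ Nat.card (locD p M) * (Nat.card (bad p M P2) + 1) * Nat.card P2 :=
        Nat.mul_le_mul_right _ (h1.trans (Nat.mul_le_mul_left _ h2))
    _ = Nat.card (locD p M) * Nat.card P2 * (Nat.card (bad p M P2) + 1) := by ring
    _ ≤ _ := Nat.mul_le_mul_right _ h3

theorem Loc.cj_eq_of_bad (l : Loc p M) {N : Subgroup G} (l' : Loc p N) (m : OMin p G) {P2 : Subgroup G}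
    (hP : IsSylowIn p P2 M) (hP' : IsSylowIn p P2 N) {a h : G} (hh : h ∈ normalizer (P2 : Set G))
    (ha : a ∈ bad p M P2) (hb : h * a * h⁻¹ ∈ bad p N P2) : h *• M = N := by
  by_contra hne
  obtain ⟨haP, -, d, hd, hd1, had⟩ := ha
  obtain ⟨hbP, hb1, e, he, he1, hbe⟩ := hb
  have hPh : IsSylowIn p P2 (h *• M) := by
    have := hP.cj h; rwa [cj_eq_of_mem_normalizer hh] at this
  refine disjoint_bad (l.cj h) l' m hne hPh hP' hbP hb1 (cj_locD_le h (conj_mem_cj h hd))
    (fun h1 => hd1 (_root_.conj_eq_one_iff.mp h1)) ?_ he he1 hbe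
  calc h * a * h⁻¹ * (h * d * h⁻¹) = h * (a * d) * h⁻¹ := by group
    _ = h * (d * a) * h⁻¹ := by rw [had]
    _ = h * d * h⁻¹ * (h * a * h⁻¹) := by group

/-- If the Sylow `p`-subgroup of `M` is not one of `G`, the bad set is small. -/
theorem Loc.mul_bad_le (l : Loc p M) (m : OMin p G) {P2 : Subgroup G} (hP : IsSylowIn p P2 M)
    (P : Sylow p G) (hlt : Nat.card P2 < Nat.card (P : Subgroup G)) :
    p * Nat.card (bad p M P2) ≤ Nat.card P2 := by
  obtain ⟨P3, hP3⟩ := hP.2.1.exists_le_sylow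
  have hne : P2 ≠ (P3 : Subgroup G) := fun h => by
    rw [h, P3.card_eq_multiplicity, ← P.card_eq_multiplicity] at hlt
    exact lt_irrefl _ hlt
  obtain ⟨g, hg, hg2⟩ := SetLike.exists_of_lt (lt_inf_normalizer P3.isPGroup' (lt_of_le_of_ne hP3 hne))
  have hgM : g ∉ M := fun h => hg2 (by
    rw [← hP.eq_of_le (A := P2 ⊔ zpowers g) le_sup_left (sup_le hP.1 (zpowers_le.mpr h))
      (P3.isPGroup'.to_le (sup_le hP3 (zpowers_le.mpr hg.1)))]
    exact mem_sup_right (mem_zpowers g))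
  obtain ⟨k, hk⟩ := P3.isPGroup' ⟨g, hg.1⟩
  have hgk : g ^ p ^ k = 1 := congrArg Subtype.val hk
  have hgd : ∀ d : ℕ, 0 < d → d < p → g ^ d ∉ M := fun d hd hdp hm => hgM (by
    obtain ⟨j, hj⟩ := exists_pow_eq_self_of_coprime (x := g) (n := d)
      (Nat.Coprime.coprime_dvd_right (orderOf_dvd_of_pow_eq_one hgk)
        ((hp.out.coprime_iff_not_dvd.mpr (Nat.not_dvd_of_pos_of_lt hd hdp)).symm.pow_right k))
    exact hj ▸ M.pow_mem hm j)
  have hc : p * Nat.card (bad p M P2) = Nat.card (Fin p × bad p M P2) := by rw [Nat.card_prod, Nat.card_fin]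
  rw [hc]
  refine Nat.card_le_card_of_injective (fun x : Fin p × bad p M P2 =>
    (⟨g ^ (x.1 : ℕ) * x.2 * (g ^ (x.1 : ℕ))⁻¹, (mem_normalizer_iff.mp (pow_mem hg.2 _) _).mp x.2.2.1⟩ : P2)) ?_
  have key : ∀ (i j : ℕ) (a b : bad p M P2), i < j → j < p →
      g ^ i * (a : G) * (g ^ i)⁻¹ ≠ g ^ j * (b : G) * (g ^ j)⁻¹ := by
    intro i j a b hij hjp he
    have hba : g ^ (j - i) * (b : G) * (g ^ (j - i))⁻¹ = a := by
      have : g ^ j = g ^ i * g ^ (j - i) := by rw [← pow_add]; congr 1; omega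
      rw [this] at he
      calc g ^ (j - i) * (b : G) * (g ^ (j - i))⁻¹
          = (g ^ i)⁻¹ * (g ^ i * g ^ (j - i) * b * (g ^ i * g ^ (j - i))⁻¹) * g ^ i := by group
        _ = a := by rw [← he]; group
    have := l.cj_eq_of_bad l m hP hP (pow_mem hg.2 (j - i)) b.2 (hba.symm ▸ a.2)
    exact hgd (j - i) (by omega) (by omega)
      ((l.normalizer_eq m).le (mem_normalizer_of_cj_le this.le))
  rintro ⟨i, a⟩ ⟨j, b⟩ h
  have he : g ^ (i : ℕ) * (a : G) * (g ^ (i : ℕ))⁻¹ = g ^ (j : ℕ) * (b : G) * (g ^ (j : ℕ))⁻¹ :=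
    congrArg Subtype.val h
  rcases lt_trichotomy (i : ℕ) j with hl | hl | hl
  · exact absurd he (key i j a b hl j.2)
  · obtain rfl : i = j := Fin.ext hl
    obtain rfl : a = b := Subtype.ext (by simpa using he)
    rfl
  · exact absurd he.symm (key j i b a hl i.2)

/-- Representatives: a maximal subgroup for each prime. -/
theorem exists_rep (m : OMin p G) (P : Sylow p G) {q : ℕ} (hq : q.Prime) (hqp : q ≠ p)
    (hd : q ∣ Nat.card G) :
    ∃ M P2 : Subgroup G, Loc p M ∧ IsSylowIn p P2 M ∧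
      (P2 = (P : Subgroup G) ∨ Nat.card P2 < Nat.card (P : Subgroup G)) ∧
      ∀ u : G, orderOf u = q → ∃ h : G, h * u * h⁻¹ ∈ M := by
  haveI := Fact.mk hq
  obtain ⟨v, hv⟩ := exists_prime_orderOf_dvd_card' q hd
  obtain ⟨M, l, hvM⟩ := exists_loc m hqp hv
  have hv1 : v ≠ 1 := fun h => by rw [h, orderOf_one] at hv; exact hq.ne_one hv.symm
  have hvc : (orderOf v).Coprime p := hv ▸ (Nat.coprime_primes hq hp.out).mpr hqp
  have hzp : ∀ u : G, orderOf u = q → IsPGroup q (zpowers u) := fun u hu =>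
    IsPGroup.of_card_dvd_pow (n := 1) (by rw [Nat.card_zpowers, hu, pow_one])
  obtain ⟨R, hR⟩ := (hzp v hv).exists_le_sylow
  have hRc := comm_q m hqp R.isPGroup'
  have hRM : (R : Subgroup G) ≤ M := fun y hy => l.cent_le m hvM hv1 hvc
    (mem_centralizer_singleton_iff.mpr (congrArg Subtype.val
      (hRc.is_comm.comm ⟨y, hy⟩ ⟨v, hR (mem_zpowers v)⟩)))
  have hinto : ∀ (N : Subgroup G) (c : G), c *• (R : Subgroup G) ≤ N → ∀ u : G, orderOf u = q →
      ∃ h : G, h * u * h⁻¹ ∈ N := by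
    intro N c hc u hu
    obtain ⟨a, -, ha⟩ := (isSylowIn_top R).exists_cj_le le_top (hzp u hu)
    exact ⟨c * a, by
      have := hc (conj_mem_cj c (ha (conj_mem_cj a (mem_zpowers u))))
      simpa [mul_assoc] using this⟩
  obtain ⟨P2, -, hP2⟩ := exists_isSylowIn_ge (p := p) (bot_le : (⊥ : Subgroup G) ≤ M) IsPGroup.of_bot
  obtain ⟨P', hP'⟩ := hP2.2.1.exists_le_sylow
  have hle : Nat.card P2 ≤ Nat.card (P : Subgroup G) := by
    rw [P.card_eq_multiplicity, ← P'.card_eq_multiplicity]; exact card_le_of_le hP'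
  rcases hle.lt_or_eq with h | h
  · exact ⟨M, P2, l, hP2, Or.inr h, hinto M 1 (by rw [cj_one]; exact hRM)⟩
  · have heq : P2 = (P' : Subgroup G) := eq_of_le_of_card_ge hP' (by
      rw [P'.card_eq_multiplicity, ← P.card_eq_multiplicity, h])
    obtain ⟨c, -, hc⟩ := (isSylowIn_top P).exists_cj_eq (isSylowIn_top P')
    refine ⟨c *• M, P, l.cj c, ?_, Or.inl rfl, hinto _ c (cj_mono c hRM)⟩
    rw [← hc, ← heq]
    exact hP2.cj c

/-- No counterexample of odd order exists. -/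
theorem false_of_omin (m : OMin p G) : False := by
  classical
  haveI := Fintype.ofFinite G
  have hp5 := m.five
  set n := Nat.card G with hn
  set π : Finset ℕ := n.primeFactors.erase p with hπ
  have hπm : ∀ q ∈ π, q.Prime ∧ q ≠ p ∧ q ∣ n := fun q hq => by
    rw [hπ, Finset.mem_erase] at hq
    exact ⟨Nat.prime_of_mem_primeFactors hq.2, hq.1, Nat.dvd_of_mem_primeFactors hq.2⟩
  let P : Sylow p G := default
  have hPne : (P : Subgroup G) ≠ ⊥ := by
    intro hb
    refine m.nsol (Group.isSolvable_of_comm fun a b => ?_)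
    have hc : (Nat.card (⊤ : Subgroup G)).Coprime p := by
      rw [Subgroup.card_top]
      exact (hp.out.coprime_iff_not_dvd.mpr (by
        have := P.not_dvd_index
        rwa [hb, Subgroup.index_bot] at this)).symm
    exact m.toMin.ab.comm hc (mem_top a) (mem_top b)
  have hp_le : p ≤ Nat.card (P : Subgroup G) := by
    obtain ⟨k, hk⟩ := IsPGroup.iff_card.mp P.isPGroup'
    have hk0 : k ≠ 0 := fun h => hPne (card_eq_one.mp (by rw [hk, h, pow_zero]))
    exact hk ▸ Nat.le_self_pow hk0 p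
  set N := normalizer ((P : Subgroup G) : Set G) with hN
  set PN : Subgroup N := (P : Subgroup G).subgroupOf N with hPN
  have hidx : 3 ≤ PN.index := by
    have hodd : Odd PN.index :=
      (m.odd.of_dvd_nat (card_subgroup_dvd_card N)).of_dvd_nat PN.index_dvd_card
    obtain ⟨-, u, hu, hu1, huc⟩ := m.zj_facts P hPne
    have h1 : PN.index ≠ 1 := fun h => hu1 (by
      rw [index_eq_one] at h
      obtain ⟨k, hk⟩ := P.isPGroup' ⟨u, (h ▸ mem_top (⟨u, hu⟩ : N) : (⟨u, hu⟩ : N) ∈ PN)⟩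
      exact orderOf_eq_one_iff.mp (Nat.eq_one_of_dvd_coprimes (huc.pow_right k) dvd_rfl
        (orderOf_dvd_of_pow_eq_one (congrArg Subtype.val hk))))
    obtain ⟨j, hj⟩ := hodd
    omega
  have hPNcard : Nat.card PN = Nat.card (P : Subgroup G) :=
    Nat.card_congr (subgroupOfEquivOfLe le_normalizer).toEquiv
  -- representatives
  choose Mf P2f hloc hsyl hcase hinto using fun q : π =>
    exists_rep m P (hπm q q.2).1 (hπm q q.2).2.1 (hπm q q.2).2.2
  let Rel : π → π → Prop := fun a b => ∃ h : G, h *• Mf a = Mf b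
  have hRsymm : ∀ a b, Rel a b → Rel b a := fun a b ⟨h, e⟩ => ⟨h⁻¹, by rw [← e, cj_cj, inv_mul_cancel, cj_one]⟩
  have hRtrans : ∀ a b c, Rel a b → Rel b c → Rel a c := fun a b c ⟨h, e⟩ ⟨h', e'⟩ =>
    ⟨h' * h, by rw [← cj_cj, e, e']⟩
  set S : Finset π := Finset.univ.filter fun q => ∀ q' : π, (q' : ℕ) < q → ¬ Rel q' q with hS
  have huniq : ∀ a ∈ S, ∀ b ∈ S, Rel a b → a = b := by
    intro a ha b hb hab
    rw [hS, Finset.mem_filter] at ha hb
    rcases lt_trichotomy (a : ℕ) b with h | h | h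
    · exact absurd hab (hb.2 a h)
    · exact Subtype.ext h
    · exact absurd (hRsymm a b hab) (ha.2 b h)
  set c : π → ℕ := fun q => (Mf q).index * Nat.card (mixed p (Mf q)) with hc
  -- covering
  let pel : Set G := {g | ∃ k : ℕ, g ^ p ^ k = 1}
  have hcover : n ≤ Nat.card pel + ∑ q ∈ S, c q := by
    have h1 : n = Nat.card pel + Nat.card (pelᶜ : Set G) := by
      rw [Nat.card_coe_set_eq, Nat.card_coe_set_eq, Set.ncard_add_ncard_compl]
    rw [h1]
    refine Nat.add_le_add_left ?_ _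
    let T := Σ q : S, (G ⧸ Mf q) × mixed p (Mf q)
    let f : T → G := fun t => t.2.1.out * t.2.2.1 * t.2.1.out⁻¹
    have hsub : (pelᶜ : Set G) ⊆ Set.range f := by
      intro g hg
      obtain ⟨k, hk⟩ := exists_pow_coprime (p := p) g
      set x := g ^ p ^ k
      have hx1 : x ≠ 1 := fun h => hg ⟨k, h⟩
      obtain ⟨r, hr, hrd⟩ := Nat.exists_prime_and_dvd (mt orderOf_eq_one_iff.mp hx1)
      have hrp : r ≠ p := fun h => hr.ne_one (Nat.eq_one_of_dvd_coprimes hk hrd (dvd_of_eq h))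
      set u := x ^ (orderOf x / r)
      have huo : orderOf u = r := orderOf_pow_orderOf_div (orderOf_pos x).ne' hrd
      have hrπ : r ∈ π := by
        rw [hπ, Finset.mem_erase, Nat.mem_primeFactors]
        exact ⟨hrp, hr, huo ▸ orderOf_dvd_natCard u, Nat.card_pos.ne'⟩
      obtain ⟨h, hh⟩ := hinto ⟨r, hrπ⟩ u huo
      have hu1 : u ≠ 1 := fun e => by rw [e, orderOf_one] at huo; exact hr.ne_one huo.symm
      have hgM : h * g * h⁻¹ ∈ Mf ⟨r, hrπ⟩ := by
        refine (hloc ⟨r, hrπ⟩).cent_le m hh (fun e => hu1 (_root_.conj_eq_one_iff.mp e))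
          (by rw [orderOf_conj', huo]; exact (Nat.coprime_primes hr hp.out).mpr hrp)
          (conj_mem_centralizer (mem_centralizer_singleton_iff.mpr ?_))
        exact ((Commute.self_pow g _).pow_right _).eq
      obtain ⟨q, hq, hqmin⟩ := Finset.exists_min_image (Finset.univ.filter fun q' : π => Rel q' ⟨r, hrπ⟩)
        (fun q' => (q' : ℕ)) ⟨⟨r, hrπ⟩, Finset.mem_filter.mpr ⟨Finset.mem_univ _, 1, cj_one _⟩⟩
      rw [Finset.mem_filter] at hq
      have hqS : q ∈ S := by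
        rw [hS, Finset.mem_filter]
        exact ⟨Finset.mem_univ _, fun q' hlt hrel => absurd
          (hqmin q' (Finset.mem_filter.mpr ⟨Finset.mem_univ _, hRtrans _ _ _ hrel hq.2⟩)) (not_le.mpr hlt)⟩
      obtain ⟨h', e'⟩ := hq.2
      set w := h⁻¹ * h' with hw
      have hy : w⁻¹ * g * w ∈ Mf q := by
        rw [← e', mem_cj] at hgM
        rw [hw, show (h⁻¹ * h')⁻¹ * g * (h⁻¹ * h') = h'⁻¹ * (h * g * h⁻¹) * h' by group]
        exact hgM
      obtain ⟨⟨t, ht⟩, hout⟩ := QuotientGroup.mk_out_eq_mul (Mf q) w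
      have hymix : (w * t)⁻¹ * g * (w * t) ∈ mixed p (Mf q) := by
        refine ⟨?_, fun j hj => hg ⟨j, ?_⟩⟩
        · rw [show (w * t)⁻¹ * g * (w * t) = t⁻¹ * (w⁻¹ * g * w) * t by group]
          exact mul_mem (mul_mem (inv_mem ht) hy) ht
        · rw [show (w * t)⁻¹ * g * (w * t) = (w * t)⁻¹ * g * ((w * t)⁻¹)⁻¹ by rw [inv_inv], conj_pow] at hj
          exact _root_.conj_eq_one_iff.mp hj
      refine ⟨⟨⟨q, hqS⟩, (QuotientGroup.mk w, ⟨_, hymix⟩)⟩, ?_⟩
      show (QuotientGroup.mk w : G ⧸ Mf q).out * ((w * t)⁻¹ * g * (w * t)) *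
        (QuotientGroup.mk w : G ⧸ Mf q).out⁻¹ = g
      rw [hout]; group
    calc Nat.card (pelᶜ : Set G) ≤ Nat.card (Set.range f) := Nat.card_mono (Set.toFinite _) hsub
      _ ≤ Nat.card T := Finite.card_range_le f
      _ = ∑ q ∈ S, c q := by
        rw [Nat.card_sigma, ← Finset.sum_coe_sort S]
        refine Finset.sum_congr rfl fun q _ => ?_
        rw [Nat.card_prod]
        rfl
  have hpel : 3 * Nat.card pel ≤ n := by
    let f : (G ⧸ N) × (P : Subgroup G) → G := fun t => t.1.out * t.2 * t.1.out⁻¹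
    have hsub : pel ⊆ Set.range f := by
      rintro g ⟨k, hk⟩
      obtain ⟨a, -, ha⟩ := (isSylowIn_top P).exists_cj_le le_top
        (IsPGroup.of_card_dvd_pow (n := k) (by rw [Nat.card_zpowers]; exact orderOf_dvd_of_pow_eq_one hk) :
          IsPGroup p (zpowers g))
      obtain ⟨⟨t, ht⟩, hout⟩ := QuotientGroup.mk_out_eq_mul N a⁻¹
      have hy : (a⁻¹ * t)⁻¹ * g * (a⁻¹ * t) ∈ (P : Subgroup G) := by
        rw [show (a⁻¹ * t)⁻¹ * g * (a⁻¹ * t) = t⁻¹ * (a * g * a⁻¹) * t by group]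
        exact (mem_normalizer_iff''.mp ht _).mp (ha (conj_mem_cj a (mem_zpowers g)))
      refine ⟨(QuotientGroup.mk a⁻¹, ⟨_, hy⟩), ?_⟩
      show (QuotientGroup.mk a⁻¹ : G ⧸ N).out * ((a⁻¹ * t)⁻¹ * g * (a⁻¹ * t)) *
        (QuotientGroup.mk a⁻¹ : G ⧸ N).out⁻¹ = g
      rw [hout]; group
    have h1 : Nat.card pel ≤ N.index * Nat.card (P : Subgroup G) := by
      refine (Nat.card_mono (Set.toFinite _) hsub).trans ((Finite.card_range_le f).trans_eq ?_)
      rw [Nat.card_prod]; rfl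
    calc 3 * Nat.card pel ≤ 3 * (N.index * Nat.card (P : Subgroup G)) := Nat.mul_le_mul_left _ h1
      _ = N.index * (3 * Nat.card (P : Subgroup G)) := by ring
      _ ≤ N.index * (PN.index * Nat.card (P : Subgroup G)) :=
        Nat.mul_le_mul_left _ (Nat.mul_le_mul_right _ hidx)
      _ = N.index * Nat.card N := by rw [← hPNcard, index_mul_card]
      _ = n := index_mul_card N
  set S1 := S.filter fun q => P2f q = (P : Subgroup G) with hS1
  set S2 := S.filter fun q => ¬ P2f q = (P : Subgroup G) with hS2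
  have hsplit : ∑ q ∈ S, c q = ∑ q ∈ S1, c q + ∑ q ∈ S2, c q :=
    (Finset.sum_filter_add_sum_filter_not S _ _).symm
  have hcq : ∀ q, c q * Nat.card (P2f q) ≤ n * (Nat.card (bad p (Mf q) (P2f q)) + 1) := fun q => by
    calc c q * Nat.card (P2f q) = (Mf q).index * (Nat.card (mixed p (Mf q)) * Nat.card (P2f q)) := by
          rw [hc]; ring
      _ ≤ (Mf q).index * (Nat.card (Mf q) * (Nat.card (bad p (Mf q) (P2f q)) + 1)) :=
          Nat.mul_le_mul_left _ ((hloc q).card_mixed_mul_le m (hsyl q))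
      _ = n * _ := by rw [← mul_assoc, index_mul_card]
  have hB1 : 3 * ∑ q ∈ S1, Nat.card (bad p (Mf q) (P : Subgroup G)) ≤ Nat.card (P : Subgroup G) := by
    refine le_trans (Nat.mul_le_mul_right _ hidx) ?_
    rw [← Finset.sum_coe_sort S1, Finset.mul_sum]
    refine le_trans (le_of_eq ?_) (Nat.card_le_card_of_injective
      (fun t : Σ q : S1, (N ⧸ PN) × bad p (Mf q) (P : Subgroup G) =>
        (⟨(t.2.1.out : G) * t.2.2.1 * (t.2.1.out : G)⁻¹,
          (mem_normalizer_iff.mp t.2.1.out.2 _).mp t.2.2.2.1⟩ : (P : Subgroup G))) ?_)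
    · rw [Nat.card_sigma]
      refine Finset.sum_congr rfl fun q _ => ?_
      rw [Nat.card_prod]; rfl
    rintro ⟨⟨q1, hq1⟩, c1, a1⟩ ⟨⟨q2, hq2⟩, c2, a2⟩ heq
    have he : (c1.out : G) * a1 * (c1.out : G)⁻¹ = (c2.out : G) * a2 * (c2.out : G)⁻¹ :=
      congrArg Subtype.val heq
    set h := (c2.out : G)⁻¹ * c1.out with hh
    have ha2 : h * (a1 : G) * h⁻¹ = a2 := by
      calc h * (a1 : G) * h⁻¹ = (c2.out : G)⁻¹ * ((c1.out : G) * a1 * (c1.out : G)⁻¹) * c2.out := by
            rw [hh]; group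
        _ = a2 := by rw [he]; group
    have hq1' := Finset.mem_filter.mp hq1
    have hq2' := Finset.mem_filter.mp hq2
    have hhN : h ∈ N := N.mul_mem (N.inv_mem c2.out.2) c1.out.2
    have hP1 : IsSylowIn p (P : Subgroup G) (Mf q1) := hq1'.2 ▸ hsyl q1
    have hP2' : IsSylowIn p (P : Subgroup G) (Mf q2) := hq2'.2 ▸ hsyl q2
    have hcj := (hloc q1).cj_eq_of_bad (hloc q2) m hP1 hP2' hhN a1.2 (ha2.symm ▸ a2.2)
    obtain rfl : q1 = q2 := huniq q1 hq1'.1 q2 hq2'.1 ⟨h, hcj⟩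
    have hhM : h ∈ Mf q1 := ((hloc q1).normalizer_eq m).le (mem_normalizer_of_cj_le hcj.le)
    have hhp : IsPGroup p (zpowers h) := by
      obtain ⟨k, hk⟩ := exists_pow_coprime (p := p) h
      refine IsPGroup.of_card_dvd_pow (n := k) ?_
      rw [Nat.card_zpowers]
      exact orderOf_dvd_of_pow_eq_one
        ((hloc q1).eq_one_of_normalizes m hP1 (pow_mem hhM _) (pow_mem hhN _) hk)
    have hhP : h ∈ (P : Subgroup G) := by
      rw [← P.is_maximal' (IsPGroup.to_sup_of_normal_left' P.isPGroup' hhp (zpowers_le.mpr hhN)) le_sup_left]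
      exact mem_sup_right (mem_zpowers h)
    obtain rfl : c1 = c2 := by
      rw [← QuotientGroup.out_eq' c1, ← QuotientGroup.out_eq' c2, eq_comm, QuotientGroup.eq]
      exact hhP
    obtain rfl : a1 = a2 := Subtype.ext (by simpa using he)
    rfl
  have h1 : 3 * p * ∑ q ∈ S1, c q ≤ n * (p + 3 * S1.card) := by
    have hs : (∑ q ∈ S1, c q) * Nat.card (P : Subgroup G) ≤
        n * (∑ q ∈ S1, Nat.card (bad p (Mf q) (P : Subgroup G)) + S1.card) := by
      rw [Finset.sum_mul, Finset.card_eq_sum_ones, ← Finset.sum_add_distrib, Finset.mul_sum]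
      refine Finset.sum_le_sum fun q hq => ?_
      have := hcq q
      rwa [(Finset.mem_filter.mp hq).2] at this
    refine Nat.le_of_mul_le_mul_right ?_ (Nat.card_pos (α := (P : Subgroup G)))
    calc 3 * p * (∑ q ∈ S1, c q) * Nat.card (P : Subgroup G)
        = 3 * p * ((∑ q ∈ S1, c q) * Nat.card (P : Subgroup G)) := by ring
      _ ≤ 3 * p * (n * (∑ q ∈ S1, Nat.card (bad p (Mf q) (P : Subgroup G)) + S1.card)) :=
          Nat.mul_le_mul_left _ hs
      _ = n * (p * (3 * ∑ q ∈ S1, Nat.card (bad p (Mf q) (P : Subgroup G))) + p * (3 * S1.card)) := by ring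
      _ ≤ n * (p * Nat.card (P : Subgroup G) + Nat.card (P : Subgroup G) * (3 * S1.card)) := by gcongr
      _ = _ := by ring
  have h2 : 3 * p * ∑ q ∈ S2, c q ≤ n * (6 * S2.card) := by
    rw [Finset.mul_sum, show n * (6 * S2.card) = ∑ _q ∈ S2, 6 * n by
      rw [Finset.sum_const, smul_eq_mul]; ring]
    refine Finset.sum_le_sum fun q hq => ?_
    have hlt := (hcase q).resolve_left (Finset.mem_filter.mp hq).2
    have hb := (hloc q).mul_bad_le m (hsyl q) P hlt
    have hne := (hloc q).sylowIn_ne_bot m (hsyl q)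
    have hp2 : p ≤ Nat.card (P2f q) := by
      obtain ⟨k, hk⟩ := IsPGroup.iff_card.mp (hsyl q).2.1
      exact hk ▸ Nat.le_self_pow (fun h => hne (card_eq_one.mp (by rw [hk, h, pow_zero]))) p
    refine Nat.le_of_mul_le_mul_right ?_ (Nat.card_pos (α := P2f q))
    calc 3 * p * c q * Nat.card (P2f q) = 3 * p * (c q * Nat.card (P2f q)) := by ring
      _ ≤ 3 * p * (n * (Nat.card (bad p (Mf q) (P2f q)) + 1)) := Nat.mul_le_mul_left _ (hcq q)
      _ = 3 * n * (p * Nat.card (bad p (Mf q) (P2f q)) + p) := by ring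
      _ ≤ 3 * n * (Nat.card (P2f q) + Nat.card (P2f q)) := by gcongr
      _ = _ := by ring
  have hk : S1.card + S2.card ≤ π.card := by
    rw [hS1, hS2, Finset.card_filter_add_card_filter_not]
    exact (Finset.card_le_univ S).trans_eq (Fintype.card_coe π)
  have htot : 3 * p * n ≤ n * (p + (p + 6 * π.card)) := by
    calc 3 * p * n ≤ 3 * p * (Nat.card pel + ∑ q ∈ S, c q) := Nat.mul_le_mul_left _ hcover
      _ = p * (3 * Nat.card pel) + (3 * p * ∑ q ∈ S1, c q + 3 * p * ∑ q ∈ S2, c q) := by rw [hsplit]; ring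
      _ ≤ p * n + (n * (p + 3 * S1.card) + n * (6 * S2.card)) := by gcongr
      _ = n * (p + (p + (3 * S1.card + 6 * S2.card))) := by ring
      _ ≤ _ := Nat.mul_le_mul_left _ (by omega)
  have hpk : 3 * p ≤ p + (p + 6 * π.card) :=
    Nat.le_of_mul_le_mul_left (by rwa [mul_comm n (3 * p)]) Nat.card_pos
  have hprod : ∏ q ∈ insert 2 π, q ∣ p - 1 := by
    refine Finset.prod_primes_dvd _ (fun q hq => Nat.prime_iff.mp ?_) fun q hq => ?_
    · rcases Finset.mem_insert.mp hq with rfl | h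
      exacts [Nat.prime_two, (hπm q h).1]
    · rcases Finset.mem_insert.mp hq with rfl | h
      · exact even_iff_two_dvd.mp (Nat.Odd.sub_odd (hp.out.odd_of_ne_two (by omega)) odd_one)
      · obtain ⟨h1, h2, h3⟩ := hπm q h
        exact (m.prime_facts h1 h2 h3).2.1
  have h2π : 2 ∉ π := fun h => by
    obtain ⟨h1, h2, h3⟩ := hπm 2 h
    exact (m.prime_facts h1 h2 h3).1 rfl
  rw [Finset.prod_insert h2π] at hprod
  have h3 : 3 ^ π.card ≤ ∏ q ∈ π, q := Finset.pow_card_le_prod _ _ _ fun q hq => by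
    obtain ⟨h1, h2, h3⟩ := hπm q hq
    have := (m.prime_facts h1 h2 h3).1
    have := h1.two_le
    omega
  have h4 := Nat.le_of_dvd (by omega) hprod
  have h5 : ∀ j : ℕ, 3 * j ≤ 3 ^ j := by
    intro j
    induction j with
    | zero => simp
    | succ j ih => rw [pow_succ]; rcases j with _ | j <;> [simp; omega]
  have h6 := h5 π.card
  omega

end CfsgLib.Techniques.AbSub.Odd
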