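import Cfsg.Agent.Techniques.AbSub.CaseA
import Cfsg.Agent.Techniques.AbSub.OddCount
import Cfsg.Agent.Characters.Burnside

/-!
# Groups whose subgroups of order prime to `p` are abelian of exponent dividing `p - 1`
-/

set_option autoImplicit false

universe u

namespace CfsgLib.Techniques.AbSub

open Subgroup

variable {p : ℕ} [hp : Fact p.Prime]

/-- The exponent hypothesis. -/
def Expo (p : ℕ) (G : Type*) [Group G] : Prop :=
  ∀ x : G, (orderOf x).Coprime p → x ^ (p - 1) = 1

omit hp in
theorem expo_subgroup {G : Type*} [Group G] (h : Expo p G) (H : Subgroup G) : Expo p H :=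
  fun x hx => Subtype.ext (by
    rw [Subgroup.coe_pow]
    exact h x (by rwa [Subgroup.orderOf_coe]))

theorem expo_quotient {G : Type*} [Group G] [Finite G] (h : Expo p G) (N : Subgroup G) [N.Normal] :
    Expo p (G ⧸ N) := by
  intro x hx
  obtain ⟨y, rfl⟩ := QuotientGroup.mk'_surjective N x
  obtain ⟨k, hk⟩ := exists_pow_coprime (p := p) y
  have h1 := congrArg (QuotientGroup.mk' N) (h _ hk)
  rw [map_one, map_pow, map_pow, ← pow_mul] at h1
  exact orderOf_dvd_iff_pow_eq_one.mp ((hx.pow_right k).dvd_of_dvd_mul_left (orderOf_dvd_of_pow_eq_one h1))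

theorem min_false {G : Type u} [Group G] [Finite G] (m : Min p G) (hexp : Expo p G) : False := by
  haveI : Fact (Nat.Prime 2) := ⟨Nat.prime_two⟩
  let T : Sylow 2 G := default
  by_cases hT : (T : Subgroup G) = ⊥
  · refine Odd.false_of_omin (p := p) (G := G) ⟨m, ?_, hexp⟩
    have h1 := T.not_dvd_index
    rw [hT, Subgroup.index_bot] at h1
    exact Nat.not_even_iff_odd.mp fun he => h1 (even_iff_two_dvd.mp he)
  · obtain ⟨M, hM, hN, hc, hW⟩ := exists_local m T hT
    have e : Emb T M := ⟨hM, hN, hc⟩
    rcases e.le_normalizer_or_odd m with hle | hodd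
    · exact Norm.false ⟨e, hle⟩ m hT
    rcases hW with hle | ⟨W, hW1, hWp, hWM, -⟩
    · exact Norm.false ⟨e, hle⟩ m hT
    · obtain ⟨P, hP⟩ := e.exists_sylow_normalizer_le m hT hW1 hWp hWM hodd
      exact e.false_of_sylow_normalizer_le m hT P hP

theorem isSolvable_of_ab_expo_aux (n : ℕ) :
    ∀ (G : Type u) [Group G] [Finite G], Nat.card G = n → Ab p G → Expo p G → Group.IsSolvable G := by
  induction n using Nat.strongRecOn with | ind n ih => ?_
  intro G _ _ hn hab hexp
  subst hn
  by_cases hp5 : 5 ≤ p
  swap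
  · have hp23 : p = 2 ∨ p = 3 := by
      rcases lt_trichotomy p 4 with h | rfl | h
      · have := hp.out.two_le; omega
      · exact absurd hp.out (by decide)
      · omega
    have hq : ∀ r : ℕ, r.Prime → r ∣ Nat.card G → r = p ∨ r ∣ p - 1 := by
      intro r hr hd
      by_cases hrp : r = p
      · exact Or.inl hrp
      haveI := Fact.mk hr
      obtain ⟨x, hx⟩ := exists_prime_orderOf_dvd_card' r hd
      exact Or.inr (hx ▸ orderOf_dvd_of_pow_eq_one
        (hexp x (hx ▸ (Nat.coprime_primes hr hp.out).mpr hrp)))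
    refine CfsgLib.Characters.isSolvable_of_card_eq_primePow_mul 2 3 (Nat.card G) (Nat.card G)
      Nat.prime_two Nat.prime_three ?_
    have hp' : ∀ r : ℕ, r.Prime → r ∣ Nat.card G → r = 2 ∨ r = 3 := by
      intro r hr hd
      rcases hq r hr hd with rfl | h
      · exact hp23
      · rcases hp23 with rfl | rfl
        · exact absurd (Nat.dvd_one.mp h) hr.ne_one
        · exact Or.inl ((Nat.prime_dvd_prime_iff_eq hr Nat.prime_two).mp h)
    rw [← Nat.factorization_le_iff_dvd Nat.card_pos.ne' (by positivity)]
    intro r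
    by_cases hr : r.Prime ∧ r ∣ Nat.card G
    · rw [Nat.factorization_mul (by positivity) (by positivity), Finsupp.add_apply,
        Nat.factorization_pow, Nat.factorization_pow, Finsupp.smul_apply, Finsupp.smul_apply,
        Nat.prime_two.factorization, Nat.prime_three.factorization]
      have hle := (Nat.factorization_lt r (Nat.card_pos (α := G)).ne').le
      rcases hp' r hr.1 hr.2 with rfl | rfl <;> simp <;> omega
    · rw [not_and] at hr
      by_cases hrp : r.Prime
      · rw [Nat.factorization_eq_zero_of_not_dvd (hr hrp)]; exact Nat.zero_le _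
      · rw [Nat.factorization_eq_zero_of_not_prime _ hrp]; exact Nat.zero_le _
  by_contra hns
  haveI : Nontrivial G := by
    by_contra h
    rw [not_nontrivial_iff_subsingleton] at h
    exact hns (Group.isSolvable_of_comm fun a b => Subsingleton.elim _ _)
  have hproper : ∀ H : Subgroup G, H ≠ ⊤ → Group.IsSolvable H := fun H hH =>
    ih _ (lt_of_le_of_ne (Nat.le_of_dvd Nat.card_pos (card_subgroup_dvd_card H))
      fun h => hH (eq_top_of_card_eq H h)) H rfl (ab_subgroup hab H) (expo_subgroup hexp H)
  have hsimple : IsSimpleGroup G := by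
    refine ⟨fun N hN => ?_⟩
    by_contra! hne
    obtain ⟨hN1, hN2⟩ := hne
    haveI := hproper N hN2
    haveI : Nontrivial N := (nontrivial_iff_ne_bot N).mpr hN1
    obtain ⟨N0, hN0n, hN0, hN01, hN0p⟩ : ∃ N0 : Subgroup G, N0.Normal ∧ N0 ≤ N ∧ N0 ≠ ⊥ ∧
        (IsPGroup p N0 ∨ (Nat.card N0).Coprime p) := by
      rcases CfsgLib.PLocal.pCore_ne_bot_or_of_isPSolvable (G := N) (p := p)
        CfsgLib.PLocal.isPSolvable_of_isSolvable with h | h
      · exact ⟨_, CfsgLib.PLocal.normal_map_subtype N _, map_subtype_le _,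
          fun e => h ((map_eq_bot_iff_of_injective _ N.subtype_injective).mp e),
          Or.inl ((CfsgLib.PLocal.isPGroup_pCore p N).map _)⟩
      · exact ⟨_, CfsgLib.PLocal.normal_map_subtype N _, map_subtype_le _,
          fun e => h ((map_eq_bot_iff_of_injective _ N.subtype_injective).mp e),
          Or.inr (by
            rw [Subgroup.card_map_of_injective N.subtype_injective]
            exact CfsgLib.PLocal.coprime_card_pPrimeCore p N)⟩
    haveI := hN0n
    have hlt : Nat.card (G ⧸ N0) < Nat.card G := by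
      rw [← Subgroup.index_eq_card, ← card_mul_index N0]
      exact lt_mul_of_one_lt_left (Nat.pos_of_ne_zero Subgroup.index_ne_zero_of_finite)
        (Finite.one_lt_card_iff_nontrivial.mpr ((nontrivial_iff_ne_bot N0).mpr hN01))
    haveI := ih _ hlt (G ⧸ N0) rfl (ab_quotient hab N0 hN0p) (expo_quotient hexp N0)
    haveI := hproper N0 fun e => hN2 (eq_top_iff.mpr (e ▸ hN0))
    exact hns (Group.isSolvable_of_ker_le_range N0.subtype (QuotientGroup.mk' N0) (by simp))
  exact min_false ⟨hp5, hab, hsimple, hns, hproper⟩ hexp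

/-- If every subgroup of order prime to `p` is abelian of exponent dividing `p - 1`, the group is solvable. -/
theorem isSolvable_of_ab_expo {G : Type u} [Group G] [Finite G] (hab : Ab p G) (hexp : Expo p G) :
    Group.IsSolvable G :=
  isSolvable_of_ab_expo_aux (p := p) _ G rfl hab hexp

end CfsgLib.Techniques.AbSub
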