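import Cfsg.Agent.S3754
import Cfsg.Agent.PLocal.PSolvable
import Cfsg.Agent.Coprime.Generation
import Cfsg.Agent.Coprime.Abelian
import Mathlib.GroupTheory.SchurZassenhaus
import Mathlib.Tactic

/-!
# Groups in which all subgroups of order prime to `p` are abelian: basic facts
-/

set_option autoImplicit false

namespace CfsgLib.Techniques.AbSub

open Subgroup

variable {p : ℕ} [hp : Fact p.Prime]

/-- Every subgroup of order prime to `p` is abelian. -/
def Ab (p : ℕ) (G : Type*) [Group G] : Prop :=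
  ∀ H : Subgroup G, (Nat.card H).Coprime p → IsMulCommutative H

variable {G : Type*} [Group G]

theorem Ab.comm (h : Ab p G) {H : Subgroup G} (hH : (Nat.card H).Coprime p) {a b : G} (ha : a ∈ H)
    (hb : b ∈ H) : a * b = b * a := by
  haveI := h H hH
  exact congrArg Subtype.val (mul_comm' (⟨a, ha⟩ : H) ⟨b, hb⟩)

omit hp in
theorem ab_subgroup (h : Ab p G) (H : Subgroup G) : Ab p H := by
  intro K hK
  have := h (K.map H.subtype) (by rwa [Subgroup.card_map_of_injective H.subtype_injective])
  exact ⟨⟨fun a b => Subtype.ext (H.subtype_injective (by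
    simpa using congrArg Subtype.val (this.is_comm.comm ⟨_, mem_map_of_mem _ a.2⟩
      ⟨_, mem_map_of_mem _ b.2⟩)))⟩⟩

variable [Finite G]

/-- Quotients by `p`-groups and by `p'`-groups inherit the hypothesis. -/
theorem ab_quotient (h : Ab p G) (N : Subgroup G) [N.Normal]
    (hN : IsPGroup p N ∨ (Nat.card N).Coprime p) : Ab p (G ⧸ N) := by
  intro H hH
  set X := H.comap (QuotientGroup.mk' N) with hX
  have hNX : N ≤ X := fun n hn => by
    rw [hX, mem_comap, QuotientGroup.mk'_apply, (QuotientGroup.eq_one_iff n).mpr hn]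
    exact one_mem H
  have hidx : N.relIndex X = Nat.card H := by
    have := relIndex_ker (K := X) (QuotientGroup.mk' N)
    rwa [QuotientGroup.ker_mk', map_comap_eq_self_of_surjective (QuotientGroup.mk'_surjective N)] at this
  obtain ⟨K, hK, hKH⟩ : ∃ K : Subgroup G, (Nat.card K).Coprime p ∧ K.map (QuotientGroup.mk' N) = H := by
    rcases hN with hN | hN
    · haveI : (N.subgroupOf X).Normal := inferInstance
      obtain ⟨K, hK⟩ := exists_right_complement'_of_coprime (N := N.subgroupOf X) (by
        rw [Nat.card_congr (subgroupOfEquivOfLe hNX).toEquiv, show (N.subgroupOf X).index = Nat.card H from hidx]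
        obtain ⟨k, hk⟩ := IsPGroup.iff_card.mp hN
        rw [hk]
        exact hH.symm.pow_left k)
      refine ⟨K.map X.subtype, ?_, ?_⟩
      · rw [Subgroup.card_map_of_injective X.subtype_injective, ← hK.symm.index_eq_card]
        show ((N.subgroupOf X).index).Coprime p
        rw [show (N.subgroupOf X).index = Nat.card H from hidx]
        exact hH
      · refine le_antisymm ?_ fun y hy => ?_
        · rintro _ ⟨_, ⟨k, -, rfl⟩, rfl⟩
          exact k.2
        · obtain ⟨x, rfl⟩ := QuotientGroup.mk'_surjective N y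
          obtain ⟨⟨⟨n, hn⟩, ⟨k, hk⟩⟩, hnk⟩ := hK.2 ⟨x, hy⟩
          refine ⟨k, mem_map_of_mem _ hk, ?_⟩
          have hnk' : (n : G) * k = x := congrArg Subtype.val hnk
          rw [← hnk', map_mul, show QuotientGroup.mk' N (n : G) = 1 from (QuotientGroup.eq_one_iff _).mpr hn,
            one_mul]
    · refine ⟨X, ?_, map_comap_eq_self_of_surjective (QuotientGroup.mk'_surjective N) H⟩
      rw [← card_mul_index (N.subgroupOf X), Nat.card_congr (subgroupOfEquivOfLe hNX).toEquiv]
      exact Nat.Coprime.mul_left hN (hidx.symm ▸ hH :)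
  refine ⟨⟨fun ⟨a, ha⟩ ⟨b, hb⟩ => Subtype.ext ?_⟩⟩
  rw [← hKH] at ha hb
  obtain ⟨a', ha', rfl⟩ := ha
  obtain ⟨b', hb', rfl⟩ := hb
  show QuotientGroup.mk' N a' * QuotientGroup.mk' N b' = QuotientGroup.mk' N b' * QuotientGroup.mk' N a'
  rw [← map_mul, ← map_mul, h.comm hK ha' hb']

/-- An element of order prime to `p` normalising a subgroup of order prime to `p` centralises it. -/
theorem mem_centralizer (h : Ab p G) {U : Subgroup G} (hU : (Nat.card U).Coprime p) {n : G}
    (hn : (orderOf n).Coprime p) (hnU : n ∈ normalizer (U : Set G)) : n ∈ centralizer (U : Set G) := by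
  set Z := zpowers n
  have hZ : Z ≤ normalizer (U : Set G) := zpowers_le.mpr hnU
  have hco : (Nat.card ↥(U ⊔ Z)).Coprime p := by
    have hdvd : Nat.card ↥(U ⊔ Z) ∣ Nat.card U * Nat.card Z := by
      haveI : (U.subgroupOf (U ⊔ Z)).Normal :=
        (normal_subgroupOf_iff_le_normalizer le_sup_left).mpr (sup_le le_normalizer hZ)
      let f : Z →* ↥(U ⊔ Z) ⧸ U.subgroupOf (U ⊔ Z) :=
        (QuotientGroup.mk' _).comp (Subgroup.inclusion le_sup_right)
      have hf : Function.Surjective f := by
        intro z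
        obtain ⟨⟨z, hz⟩, rfl⟩ := QuotientGroup.mk'_surjective _ z
        obtain ⟨u, hu, a, ha, rfl⟩ := CfsgLib.Coprime.exists_mul_of_mem_sup hZ hz
        refine ⟨⟨a, ha⟩, QuotientGroup.eq.mpr (mem_subgroupOf.mpr ?_)⟩
        show a⁻¹ * (u * a) ∈ U
        rw [← mul_assoc]
        exact (mem_normalizer_iff''.mp (hZ ha) u).mp hu
      have h1 := card_dvd_of_surjective f hf
      rw [← card_mul_index (U.subgroupOf (U ⊔ Z)),
        Nat.card_congr (subgroupOfEquivOfLe (le_sup_left : U ≤ U ⊔ Z)).toEquiv]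
      exact Nat.mul_dvd_mul_left _ h1
    exact (hU.mul_left (by rw [Nat.card_zpowers]; exact hn)).coprime_dvd_left hdvd
  exact mem_centralizer_iff.mpr fun u hu =>
    h.comm hco (mem_sup_left hu) (mem_sup_right (mem_zpowers n))

/-- In a solvable group with `O_p = 1`, every subgroup of order prime to `p` normalised by
`O_{p'}` lies in `O_{p'}`, as does every `2`-subgroup; so Sylow `2`-subgroups are normal. -/
theorem sylow_two_normal [Fact (Nat.Prime 2)] (h : Ab p G) (hp2 : p ≠ 2) [Group.IsSolvable G]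
    (hO : Cfsg.pCore p G = ⊥) (S : Sylow 2 G) :
    (S : Subgroup G).Normal ∧ (S : Subgroup G) ≤ Cfsg.pPrimeCore p G := by
  set F := Cfsg.pPrimeCore p G with hF
  have hFc := CfsgLib.PLocal.coprime_card_pPrimeCore p G
  have hC := Cfsg.Agent.S3754.centralizer_pPrimeCore_le CfsgLib.PLocal.isPSolvable_of_isSolvable hO
  have hS : ∀ T : Sylow 2 G, (T : Subgroup G) ≤ F := by
    intro T t ht
    refine hC ?_
    obtain ⟨k, hk⟩ := T.isPGroup' ⟨t, ht⟩
    exact mem_centralizer h hFc (((Nat.coprime_primes Nat.prime_two hp.out).mpr hp2.symm).pow_left k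
      |>.coprime_dvd_left (orderOf_dvd_of_pow_eq_one (congrArg Subtype.val hk)))
      (by rw [normalizer_eq_top F]; exact mem_top t)
  refine ⟨⟨fun s hs g => ?_⟩, hS S⟩
  have hle : ((g • S : Sylow 2 G) : Subgroup G) ≤ F := hS _
  set A := (S : Subgroup G) ⊔ zpowers (g * s * g⁻¹)
  have hg : g * s * g⁻¹ ∈ F := (inferInstance : F.Normal).conj_mem s (hS S hs) g
  obtain ⟨k, hk⟩ := S.isPGroup' ⟨s, hs⟩
  have hZ : IsPGroup 2 (zpowers (g * s * g⁻¹)) := IsPGroup.of_card_dvd_pow (n := k) (by
    rw [Nat.card_zpowers]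
    refine orderOf_dvd_of_pow_eq_one ?_
    rw [conj_pow, show s ^ 2 ^ k = 1 from congrArg Subtype.val hk, mul_one, mul_inv_cancel])
  have hn : zpowers (g * s * g⁻¹) ≤ normalizer ((S : Subgroup G) : Set G) :=
    zpowers_le.mpr (centralizer_le_normalizer _
      (mem_centralizer_iff.mpr fun x hx => h.comm hFc (hS S hx) hg))
  have h2 := IsPGroup.to_sup_of_normal_left' S.isPGroup' hZ hn
  exact S.is_maximal' h2 le_sup_left ▸ mem_sup_right (mem_zpowers _)

omit hp in
/-- An odd-order element centralising every involution of an abelian `2`-group it normalises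
centralises it. -/
theorem centralizes_of_invol [Fact (Nat.Prime 2)] {S : Subgroup G} [IsMulCommutative S]
    (hS : IsPGroup 2 S) {g : G} (hgS : g ∈ normalizer (S : Set G)) (hg : Odd (orderOf g))
    (hfix : ∀ v ∈ S, orderOf v = 2 → g * v = v * g) : g ∈ centralizer (S : Set G) := by
  obtain ⟨k, hk⟩ := IsPGroup.iff_card.mp hS
  refine CfsgLib.Coprime.le_centralizer_of_forall_prime_order (A := zpowers g)
    (zpowers_le.mpr hgS) ?_ (fun v hv hpr => ?_) (mem_zpowers g)
  · rw [Nat.card_zpowers, hk]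
    exact Nat.Coprime.pow_right _ (Nat.coprime_two_right.mpr hg)
  · obtain ⟨j, hj⟩ := hS ⟨v, hv⟩
    have h2 : orderOf v = 2 := by
      have hd := orderOf_dvd_of_pow_eq_one (congrArg Subtype.val hj : v ^ 2 ^ j = 1)
      exact (Nat.prime_dvd_prime_iff_eq hpr Nat.prime_two).mp (hpr.dvd_of_dvd_pow hd)
    rw [mem_centralizer_iff]
    intro a ha
    obtain ⟨i, rfl⟩ := mem_zpowers_iff.mp ha
    exact ((show Commute g v from hfix v hv h2).zpow_left i).eq

end CfsgLib.Techniques.AbSub
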