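import Cfsg.Agent.Techniques.AbSub.CaseB

/-!
# Counting involution pairs when the local subgroup normalises `E`
-/

set_option autoImplicit false

universe u

namespace CfsgLib.Techniques.AbSub

open Subgroup CfsgLib.ConjFunctor
open scoped CfsgLib.ConjFunctor

variable {p : ℕ} [hp : Fact p.Prime] [h2 : Fact (Nat.Prime 2)] {G : Type u} [Group G] [Finite G]
variable {T : Sylow 2 G} {M : Subgroup G}

omit [Finite G] h2 in
/-- An element of odd order inverted by an involution is a `p`-element. -/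
theorem exists_pow_eq_one_of_inverted [Finite G] (m : Min p G) {t y : G} (ht : orderOf t = 2)
    (hodd : Odd (orderOf y)) (hinv : t * y * t⁻¹ = y⁻¹) : ∃ k : ℕ, y ^ p ^ k = 1 := by
  obtain ⟨k, hk⟩ := exists_pow_coprime (p := p) y
  refine ⟨k, ?_⟩
  set z := y ^ p ^ k with hz
  have hty : t * z * t⁻¹ = z⁻¹ := by rw [hz, ← conj_pow, hinv, inv_pow]
  have htn : t ∈ normalizer (zpowers z : Set G) := by
    refine mem_normalizer_fintype ?_
    rintro _ ⟨i, rfl⟩
    exact ⟨-i, by simp only []; rw [← conj_zpow, hty, inv_zpow, zpow_neg]⟩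
  have hc : t ∈ centralizer (zpowers z : Set G) :=
    mem_centralizer m.ab (by rw [Nat.card_zpowers]; exact hk)
      (by rw [ht]; exact (Nat.coprime_primes Nat.prime_two hp.out).mpr m.two_ne.symm) htn
  rw [← mem_centralizer_iff.mp hc z (mem_zpowers z), mul_inv_cancel_right] at hty
  have hz2 : orderOf z ∣ 2 := orderOf_dvd_of_pow_eq_one (by rw [sq]; exact mul_eq_one_iff_eq_inv.mpr hty)
  exact orderOf_eq_one_iff.mp (Nat.eq_one_of_dvd_coprimes (Nat.coprime_two_right.mpr hodd)
    (orderOf_pow_dvd _) hz2)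

/-- Data of the counting case. -/
structure Norm (T : Sylow 2 G) (M : Subgroup G) : Prop extends Emb T M where
  le_norm : M ≤ normalizer (invSub T : Set G)

theorem Norm.mem_inv (e : Norm T M) (m : Min p G) {u : G} (hu : u ∈ M) (ho : orderOf u = 2) :
    u ∈ invSub T := by
  obtain ⟨h, hh, hE⟩ := e.toEmb.exists_conj_mem m hu ho
  exact (mem_normalizer_iff.mp (e.le_norm hh) u).mpr hE

theorem Norm.invol_comm (e : Norm T M) (m : Min p G) {u v : G} (hu : u ∈ M) (huo : orderOf u = 2)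
    (hv : v ∈ M) (hvo : orderOf v = 2) : Commute u v :=
  T_comm m T (invSub_le T (e.mem_inv m hu huo)) (invSub_le T (e.mem_inv m hv hvo))

/-- The number of involutions of `M` is divisible by `p`. -/
theorem Norm.dvd_card_invol (e : Norm T M) (m : Min p G) (hT : (T : Subgroup G) ≠ ⊥) {t : G}
    (htM : t ∈ M) (ht : orderOf t = 2) :
    p ∣ Nat.card {u : G // u ∈ M ∧ orderOf u = 2} := by
  set C := centralizer ({t} : Set G)
  have hcard : Nat.card {u : G // u ∈ M ∧ orderOf u = 2} = C.relIndex M := by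
    let F : M ⧸ C.subgroupOf M → {u : G // u ∈ M ∧ orderOf u = 2} := fun q => Quotient.liftOn' q
      (fun y => ⟨(y : G) * t * (y : G)⁻¹, M.mul_mem (M.mul_mem y.2 htM) (M.inv_mem y.2),
        orderOf_conj_two _ ht⟩)
      (fun y y' hyy => Subtype.ext (by
        rw [QuotientGroup.leftRel_apply, mem_subgroupOf] at hyy
        have h1 : (y : G)⁻¹ * y' * t = t * ((y : G)⁻¹ * y') := by
          simpa using mem_centralizer_singleton_iff.mp hyy
        calc (y : G) * t * (y : G)⁻¹
            = (y : G) * (t * ((y : G)⁻¹ * y')) * (y' : G)⁻¹ := by group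
          _ = (y : G) * ((y : G)⁻¹ * y' * t) * (y' : G)⁻¹ := by rw [h1]
          _ = (y' : G) * t * (y' : G)⁻¹ := by group))
    refine (Nat.card_congr (Equiv.ofBijective F ⟨?_, ?_⟩)).symm
    · intro q q' hqq
      obtain ⟨y, rfl⟩ := QuotientGroup.mk_surjective q
      obtain ⟨y', rfl⟩ := QuotientGroup.mk_surjective q'
      have h1 : (y : G) * t * (y : G)⁻¹ = (y' : G) * t * (y' : G)⁻¹ := congrArg Subtype.val hqq
      rw [QuotientGroup.eq, mem_subgroupOf]
      refine mem_centralizer_singleton_iff.mpr ?_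
      simp only [Subgroup.coe_mul, Subgroup.coe_inv]
      calc (y : G)⁻¹ * y' * t = (y : G)⁻¹ * ((y' : G) * t * (y' : G)⁻¹) * y' := by group
        _ = (y : G)⁻¹ * ((y : G) * t * (y : G)⁻¹) * y' := by rw [h1]
        _ = t * ((y : G)⁻¹ * y') := by group
    · rintro ⟨v, hv, hvo⟩
      obtain ⟨g, hg, hge⟩ := e.toEmb.exists_conj m htM ht hv hvo
      exact ⟨QuotientGroup.mk ⟨g, hg⟩, Subtype.ext hge⟩
  set K := (centralizer (invSub T : Set G)).subgroupOf M with hK
  haveI : K.Normal := by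
    refine ⟨fun c hc g => mem_subgroupOf.mpr ?_⟩
    rw [Subgroup.coe_mul, Subgroup.coe_mul, Subgroup.coe_inv, mem_centralizer_iff]
    intro a ha
    have ha' := (mem_normalizer_iff''.mp (e.le_norm g.2) a).mp ha
    have h1 := mem_centralizer_iff.mp (mem_subgroupOf.mp hc) _ ha'
    calc a * ((g : G) * c * (g : G)⁻¹) = g * (((g : G)⁻¹ * a * g) * c) * (g : G)⁻¹ := by group
      _ = g * (c * ((g : G)⁻¹ * a * g)) * (g : G)⁻¹ := by rw [h1]
      _ = g * c * (g : G)⁻¹ * a := by group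
  have hKp : IsPGroup p (M ⧸ K) := by
    intro z
    obtain ⟨y, rfl⟩ := QuotientGroup.mk'_surjective _ z
    obtain ⟨k, hk⟩ := exists_pow_coprime (p := p) (y : G)
    refine ⟨k, ?_⟩
    rw [← map_pow]
    refine (QuotientGroup.eq_one_iff _).mpr (mem_subgroupOf.mpr ?_)
    rw [Subgroup.coe_pow]
    exact mem_centralizer m.ab (coprime_two m (T.isPGroup'.to_le (invSub_le T))) hk
      (e.le_norm (M.pow_mem y.2 _))
  have hle : K ≤ C.subgroupOf M := fun c hc => mem_centralizer_singleton_iff.mpr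
    (mem_centralizer_iff.mp (mem_subgroupOf.mp hc) t (e.mem_inv m htM ht)).symm
  obtain ⟨j, hj⟩ := IsPGroup.iff_card.mp hKp
  have hdvd : C.relIndex M ∣ p ^ j := hj ▸ index_dvd_of_le hle
  obtain ⟨i, -, hi⟩ := (Nat.dvd_prime_pow hp.out).mp hdvd
  rw [hcard, hi]
  refine dvd_pow_self p fun h0 => ?_
  rw [h0, pow_zero, ← hcard, Nat.card_eq_one_iff_unique] at hi
  obtain ⟨hsub, -⟩ := hi
  obtain ⟨a, b, ha, hb, hao, hbo, hab⟩ := exists_two_invol m T hT
  exact hab (congrArg Subtype.val (hsub.elim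
    (⟨a, e.norm (le_normalizer (invSub_le T ha)), hao⟩ : {u : G // u ∈ M ∧ orderOf u = 2})
    ⟨b, e.norm (le_normalizer (invSub_le T hb)), hbo⟩))

/-- Nothing non-trivial centralises both an involution of `M` and an element outside `M`. -/
theorem Norm.eq_one_of_centralizes (e : Norm T M) (m : Min p G) (hT : (T : Subgroup G) ≠ ⊥) {t c y : G}
    (htM : t ∈ M) (ht : orderOf t = 2) (hct : Commute c t) (hcy : Commute c y) (hy : y ∉ M) :
    c = 1 := by
  classical
  by_contra hc
  obtain ⟨r, hr, hrd⟩ := Nat.exists_prime_and_dvd (mt orderOf_eq_one_iff.mp hc : orderOf c ≠ 1)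
  haveI := Fact.mk hr
  set d := c ^ (orderOf c / r) with hd
  have hdo : orderOf d = r := orderOf_pow_orderOf_div (orderOf_pos c).ne' hrd
  have hdt : Commute d t := hct.pow_left _
  have hdy : Commute d y := hcy.pow_left _
  have hdM : d ∈ M := e.toEmb.cent_le m htM ht (mem_centralizer_singleton_iff.mpr hdt.eq)
  have hd1 : d ≠ 1 := fun h => by rw [h, orderOf_one] at hdo; exact hr.ne_one hdo.symm
  rcases eq_or_ne r 2 with rfl | hr2
  · exact hy (e.toEmb.cent_le m hdM hdo (mem_centralizer_singleton_iff.mpr hdy.eq.symm))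
  obtain ⟨v, hvM, hvo, hvt, hdv⟩ : ∃ v, v ∈ M ∧ orderOf v = 2 ∧ v ≠ t ∧ Commute d v := by
    by_cases hrp : r = p
    · subst hrp
      let Ω := {u : G // u ∈ M ∧ orderOf u = 2}
      letI : MulAction (zpowers d) Ω :=
        { smul := fun a u => ⟨(a : G) * u * (a : G)⁻¹,
            M.mul_mem (M.mul_mem (zpowers_le.mpr hdM a.2) u.2.1) (M.inv_mem (zpowers_le.mpr hdM a.2)),
            orderOf_conj_two _ u.2.2⟩
          one_smul := fun u => Subtype.ext (by show ((1 : zpowers d) : G) * u * ((1 : zpowers d) : G)⁻¹ = u; simp)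
          mul_smul := fun a b u => Subtype.ext (by
            show ((a * b : zpowers d) : G) * u * ((a * b : zpowers d) : G)⁻¹ =
              (a : G) * ((b : G) * u * (b : G)⁻¹) * (a : G)⁻¹
            simp [mul_assoc]) }
      have hpd : IsPGroup r (zpowers d) := IsPGroup.of_card_dvd_pow (n := 1) (by rw [Nat.card_zpowers, hdo, pow_one])
      obtain ⟨w, hw, hwne⟩ := hpd.exists_fixed_point_of_prime_dvd_card_of_fixed_point Ω
        (e.dvd_card_invol m hT htM ht) (a := (⟨t, htM, ht⟩ : Ω)) (fun a => by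
          obtain ⟨i, hi⟩ := mem_zpowers_iff.mp a.2
          refine Subtype.ext ?_
          show (a : G) * t * (a : G)⁻¹ = t
          rw [← hi, (hdt.zpow_left i).eq, mul_inv_cancel_right])
      refine ⟨w.1, w.2.1, w.2.2, fun h => hwne (Subtype.ext h.symm), ?_⟩
      have h1 : d * w.1 * d⁻¹ = w.1 := congrArg Subtype.val (hw ⟨d, mem_zpowers d⟩)
      exact mul_inv_eq_iff_eq_mul.mp h1
    · obtain ⟨a, b, ha, hb, hao, hbo, hab⟩ := exists_two_invol m T hT
      have hcen := mem_centralizer m.ab (coprime_two m (T.isPGroup'.to_le (invSub_le T)))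
        (by rw [hdo]; exact (Nat.coprime_primes hr hp.out).mpr hrp) (e.le_norm hdM)
      by_cases hat : a = t
      · exact ⟨b, e.norm (le_normalizer (invSub_le T hb)), hbo, fun h => hab (hat.trans h.symm),
          (mem_centralizer_iff.mp hcen b hb).symm⟩
      · exact ⟨a, e.norm (le_normalizer (invSub_le T ha)), hao, hat,
          (mem_centralizer_iff.mp hcen a ha).symm⟩
  exact hy (e.toEmb.le_of_four m (m.centralizer_ne_top hd1)
    (mem_centralizer_singleton_iff.mpr hdt.eq.symm) htM ht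
    (mem_centralizer_singleton_iff.mpr hdv.eq.symm) hvM hvo hvt.symm (e.invol_comm m htM ht hvM hvo).eq
    (mem_centralizer_singleton_iff.mpr hdy.eq.symm))

/-- The centraliser of an element outside `M` inverted by `t` is inverted by `t`, meets `M` trivially and
consists of `p`-elements. -/
theorem Norm.centralizer_inverted (e : Norm T M) (m : Min p G) (hT : (T : Subgroup G) ≠ ⊥) {t y : G}
    (htM : t ∈ M) (ht : orderOf t = 2) (hy : y ∉ M) (hinv : t * y * t⁻¹ = y⁻¹) :
    ∀ c ∈ centralizer ({y} : Set G),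
      t * c * t⁻¹ = c⁻¹ ∧ (c ∈ M → c = 1) ∧ ∃ k : ℕ, c ^ p ^ k = 1 := by
  set C := centralizer ({y} : Set G) with hC
  have hti : t⁻¹ = t := inv_eq_of_mul_eq_one_right (mul_self_of_order_two ht)
  have ht2 := mul_self_of_order_two ht
  have hstab : ∀ a ∈ C, t * a * t⁻¹ ∈ C := by
    intro a ha
    rw [hC, mem_centralizer_singleton_iff] at ha ⊢
    have h1 : t * y⁻¹ * t⁻¹ = y := by
      rw [show t * y⁻¹ * t⁻¹ = (t * y * t⁻¹)⁻¹ by group, hinv, inv_inv]
    have h2 : a * y⁻¹ = y⁻¹ * a := (Commute.inv_right ha).eq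
    calc t * a * t⁻¹ * y = t * a * t⁻¹ * (t * y⁻¹ * t⁻¹) := by rw [h1]
      _ = t * (a * y⁻¹) * t⁻¹ := by group
      _ = t * (y⁻¹ * a) * t⁻¹ := by rw [h2]
      _ = (t * y⁻¹ * t⁻¹) * (t * a * t⁻¹) := by group
      _ = y * (t * a * t⁻¹) := by rw [h1]
  let φ : C → C := fun a => ⟨(a : G)⁻¹ * (t * a * t⁻¹), C.mul_mem (C.inv_mem a.2) (hstab a a.2)⟩
  have hinj : Function.Injective φ := by
    intro a b hab
    have h1 : (a : G)⁻¹ * (t * a * t⁻¹) = (b : G)⁻¹ * (t * b * t⁻¹) := congrArg Subtype.val hab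
    have h2 : Commute ((b : G) * (a : G)⁻¹) t := by
      show (b : G) * (a : G)⁻¹ * t = t * (b * (a : G)⁻¹)
      calc (b : G) * (a : G)⁻¹ * t = b * ((a : G)⁻¹ * (t * a * t⁻¹)) * t * (a : G)⁻¹ := by group
        _ = b * ((b : G)⁻¹ * (t * b * t⁻¹)) * t * (a : G)⁻¹ := by rw [h1]
        _ = t * (b * (a : G)⁻¹) := by group
    have h3 := e.eq_one_of_centralizes m hT htM ht h2
      (mem_centralizer_singleton_iff.mp (C.mul_mem b.2 (C.inv_mem a.2))) hy
    exact Subtype.ext (mul_inv_eq_one.mp h3).symm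
  intro c hc
  obtain ⟨a, ha⟩ := (Finite.injective_iff_surjective.mp hinj) ⟨c, hc⟩
  have hce : (a : G)⁻¹ * (t * a * t⁻¹) = c := congrArg Subtype.val ha
  have hinvc : t * c * t⁻¹ = c⁻¹ := by
    rw [← hce, hti]
    calc t * ((a : G)⁻¹ * (t * a * t)) * t = t * (a : G)⁻¹ * t * a * (t * t) := by group
      _ = ((a : G)⁻¹ * (t * a * t))⁻¹ := by rw [ht2, mul_one, mul_inv_rev, mul_inv_rev, mul_inv_rev,
          inv_inv, hti, ← mul_assoc]
  have hone : c ∈ M → c = 1 := by
    intro hcM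
    have hc2t : c * t * c⁻¹ = c * c * t := by
      have : t * c * t = c⁻¹ := by rwa [hti] at hinvc
      calc c * t * c⁻¹ = c * t * (t * c * t) := by rw [this]
        _ = c * (t * t) * c * t := by group
        _ = c * c * t := by rw [ht2, mul_one]
    have hcc : (c * c) * (c * c) = 1 := by
      have h1 : c * c * t ∈ invSub T := hc2t ▸ e.mem_inv m
        (M.mul_mem (M.mul_mem hcM htM) (M.inv_mem hcM)) (orderOf_conj_two c ht)
      have h2 : c * c ∈ invSub T := by
        have := (invSub T).mul_mem h1 (e.mem_inv m htM ht)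
        rwa [mul_assoc, ht2, mul_one] at this
      exact ((mem_invSub m).mp h2).2
    have hcomm : Commute (c * c) t := by
      have h1 : t * (c * c) * t⁻¹ = c * c := by
        rw [show t * (c * c) * t⁻¹ = (t * c * t⁻¹) * (t * c * t⁻¹) by group, hinvc, ← mul_inv_rev]
        exact inv_eq_of_mul_eq_one_right hcc
      exact (mul_inv_eq_iff_eq_mul.mp h1).symm
    have hcy : Commute c y := mem_centralizer_singleton_iff.mp hc
    have hc21 : c * c = 1 := e.eq_one_of_centralizes m hT htM ht hcomm (hcy.mul_left hcy) hy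
    refine e.eq_one_of_centralizes m hT htM ht ?_ hcy hy
    rw [inv_eq_of_mul_eq_one_right hc21] at hinvc
    exact (mul_inv_eq_iff_eq_mul.mp hinvc).symm
  refine ⟨hinvc, hone, ?_⟩
  by_cases hc1 : c = 1
  · exact ⟨0, by rw [hc1]; simp⟩
  have hcM : c ∉ M := fun h => hc1 (hone h)
  have htc : orderOf (t * c) = 2 := by
    refine orderOf_eq_prime ?_ fun h => hcM ?_
    · have : t * c * t = c⁻¹ := by rwa [hti] at hinvc
      rw [sq, ← mul_assoc, this, inv_mul_cancel]
    · rw [mul_eq_one_iff_inv_eq, hti] at h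
      exact h ▸ htM
  have hodd := e.toEmb.odd_out m htM ht (fun h => hcM (by
    have := M.mul_mem htM h
    rwa [← mul_assoc, ht2, one_mul] at this)) htc
  rw [← mul_assoc, ht2, one_mul] at hodd
  exact exists_pow_eq_one_of_inverted m ht hodd hinvc

/-- The counting contradiction. -/
theorem Norm.false (e : Norm T M) (m : Min p G) (hT : (T : Subgroup G) ≠ ⊥) : False := by
  classical
  haveI := Fintype.ofFinite G
  obtain ⟨t, -, htE, -, ht, -, -⟩ := exists_two_invol m T hT
  have htM : t ∈ M := e.norm (le_normalizer (invSub_le T htE))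
  have ht2 := mul_self_of_order_two ht
  have hti : t⁻¹ = t := inv_eq_of_mul_eq_one_right ht2
  obtain ⟨c, hc⟩ := e.toEmb.exists_not_mem m htM ht
  set s := c * t * c⁻¹ with hs
  have hso : orderOf s = 2 := orderOf_conj_two c ht
  set y0 := t * s with hy0
  have hinv0 : ∀ j : G, orderOf j = 2 → t * (t * j) * t⁻¹ = (t * j)⁻¹ := fun j hj => by
    rw [← mul_assoc, ht2, one_mul, mul_inv_rev, hti, inv_eq_of_mul_eq_one_right (mul_self_of_order_two hj)]
  have hout : ∀ j : G, j ∉ M → t * j ∉ M := fun j hj h => hj (by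
    have := M.mul_mem htM h
    rwa [← mul_assoc, ht2, one_mul] at this)
  have hy0M : y0 ∉ M := hout s hc
  have hkey := e.centralizer_inverted m hT htM ht hy0M (hinv0 s hso)
  set S0 := centralizer ({y0} : Set G) with hS0
  have hy0S : y0 ∈ S0 := mem_centralizer_singleton_iff.mpr rfl
  have hy01 : y0 ≠ 1 := fun h => hy0M (h ▸ M.one_mem)
  have habel : ∀ y : G, y ∉ M → t * y * t⁻¹ = y⁻¹ → ∀ a ∈ centralizer ({y} : Set G),
      ∀ b ∈ centralizer ({y} : Set G), a * b = b * a := by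
    intro y hy hyi a ha b hb
    have hk := e.centralizer_inverted m hT htM ht hy hyi
    have h1 := (hk _ (mul_mem ha hb)).1
    rw [show t * (a * b) * t⁻¹ = (t * a * t⁻¹) * (t * b * t⁻¹) by group, (hk a ha).1, (hk b hb).1,
      mul_inv_rev] at h1
    have := congrArg (·⁻¹) h1
    simpa [mul_inv_rev] using this.symm
  have hsame : ∀ z ∈ S0, z ≠ 1 → centralizer ({z} : Set G) = S0 := by
    intro z hz hz1
    obtain ⟨hzi, hzM, -⟩ := hkey z hz
    have hzM' : z ∉ M := fun h => hz1 (hzM h)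
    have hy0z : y0 ∈ centralizer ({z} : Set G) :=
      mem_centralizer_singleton_iff.mpr (mem_centralizer_singleton_iff.mp hz).symm
    refine le_antisymm (fun w hw => mem_centralizer_singleton_iff.mpr (habel z hzM' hzi w hw y0 hy0z))
      fun w hw => mem_centralizer_singleton_iff.mpr (habel y0 hy0M (hinv0 s hso) w hw z hz)
  have hS0p : IsPGroup p S0 := fun a => by
    obtain ⟨k, hk⟩ := (hkey a a.2).2.2
    exact ⟨k, Subtype.ext hk⟩
  obtain ⟨P, hP⟩ := hS0p.exists_le_sylow
  have hPeq : (P : Subgroup G) = S0 := by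
    refine le_antisymm ?_ hP
    haveI : Nontrivial (P : Subgroup G) :=
      (nontrivial_iff_ne_bot _).mpr fun h => hy01 (mem_bot.mp (h ▸ hP hy0S))
    haveI := P.isPGroup'.center_nontrivial
    obtain ⟨⟨z, hzc⟩, hz1⟩ := exists_ne (1 : center (P : Subgroup G))
    have hzS : (z : G) ∈ S0 := mem_centralizer_singleton_iff.mpr
      (congrArg Subtype.val (mem_center_iff.mp hzc ⟨y0, hP hy0S⟩)).symm
    rw [← hsame z hzS fun h => hz1 (Subtype.ext (Subtype.ext h))]
    exact fun x hx => mem_centralizer_singleton_iff.mpr (congrArg Subtype.val (mem_center_iff.mp hzc ⟨x, hx⟩))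
  -- every Sylow subgroup is abelian, TI, and inverted by an involution
  have hSylow : ∀ Q : Sylow p G, ∀ y ∈ (Q : Subgroup G), y ≠ 1 →
      centralizer ({y} : Set G) = (Q : Subgroup G) ∧
        ∃ i : G, orderOf i = 2 ∧ ∀ z ∈ (Q : Subgroup G), i * z * i⁻¹ = z⁻¹ := by
    intro Q y hy hy1
    obtain ⟨g, -, hg⟩ := (isSylowIn_top Q).exists_cj_eq (isSylowIn_top P)
    rw [hPeq] at hg
    rw [← hg] at hy ⊢
    obtain ⟨z, hz, rfl⟩ := hy
    refine ⟨?_, g * t * g⁻¹, orderOf_conj_two g ht, ?_⟩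
    · have := hsame z hz (fun h => hy1 (by rw [h, map_one]))
      rw [← this]
      ext w
      rw [mem_centralizer_singleton_iff, Subgroup.mem_map]
      constructor
      · intro hw
        refine ⟨g⁻¹ * w * g, mem_centralizer_singleton_iff.mpr ?_, by simp [mul_assoc]⟩
        have hw' : w * (g * z * g⁻¹) = g * z * g⁻¹ * w := hw
        calc g⁻¹ * w * g * z = g⁻¹ * (w * (g * z * g⁻¹)) * g := by group
          _ = g⁻¹ * (g * z * g⁻¹ * w) * g := by rw [hw']
          _ = z * (g⁻¹ * w * g) := by group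
      · rintro ⟨v, hv, rfl⟩
        have := mem_centralizer_singleton_iff.mp hv
        show g * v * g⁻¹ * (g * z * g⁻¹) = g * z * g⁻¹ * (g * v * g⁻¹)
        calc g * v * g⁻¹ * (g * z * g⁻¹) = g * (v * z) * g⁻¹ := by group
          _ = g * (z * v) * g⁻¹ := by rw [this]
          _ = g * z * g⁻¹ * (g * v * g⁻¹) := by group
    · rintro _ ⟨v, hv, rfl⟩
      show g * t * g⁻¹ * (g * v * g⁻¹) * (g * t * g⁻¹)⁻¹ = (g * v * g⁻¹)⁻¹
      calc g * t * g⁻¹ * (g * v * g⁻¹) * (g * t * g⁻¹)⁻¹ = g * (t * v * t⁻¹) * g⁻¹ := by group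
        _ = g * v⁻¹ * g⁻¹ := by rw [(hkey v hv).1]
        _ = (g * v * g⁻¹)⁻¹ := by group
  -- `|C(t)|` is prime to `p`
  have hCt : ¬ p ∣ Nat.card (centralizer ({t} : Set G)) := by
    intro hd
    obtain ⟨⟨d, hd'⟩, hdo⟩ := exists_prime_orderOf_dvd_card' p hd
    rw [← Subgroup.orderOf_coe] at hdo
    simp only [] at hdo
    obtain ⟨Q, hQ⟩ := (IsPGroup.of_card_dvd_pow (p := p) (n := 1)
      (by rw [Nat.card_zpowers, hdo, pow_one]) : IsPGroup p (zpowers d)).exists_le_sylow
    have htQ : t ∈ (Q : Subgroup G) := by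
      rw [← (hSylow Q d (hQ (mem_zpowers d)) fun h => by
        rw [h, orderOf_one] at hdo; exact hp.out.ne_one hdo.symm).1]
      exact mem_centralizer_singleton_iff.mpr (mem_centralizer_singleton_iff.mp hd').symm
    obtain ⟨k, hk⟩ := Q.isPGroup' ⟨t, htQ⟩
    have h1 := orderOf_dvd_of_pow_eq_one (congrArg Subtype.val hk : t ^ p ^ k = 1)
    rw [ht] at h1
    exact m.two_ne ((Nat.prime_dvd_prime_iff_eq Nat.prime_two hp.out).mp
      (Nat.prime_two.dvd_of_dvd_pow h1)).symm
  -- involutions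
  let I := {i : G // orderOf i = 2}
  set n0 := Nat.card {u : G // u ∈ M ∧ orderOf u = 2} with hn0
  have hconjI : ∀ i : I, ∃ g : G, g * t * g⁻¹ = i.1 := fun i => by
    by_cases hi : i.1 ∈ M
    · obtain ⟨g, -, hg⟩ := e.toEmb.exists_conj m htM ht hi i.2
      exact ⟨g, hg⟩
    · exact isConj_iff.mp (e.toEmb.isConj_out m htM ht hi i.2)
  have hIcard : Nat.card I = (centralizer ({t} : Set G)).index := by
    let F : G ⧸ centralizer ({t} : Set G) → I := fun q => Quotient.liftOn' q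
      (fun g => ⟨g * t * g⁻¹, orderOf_conj_two g ht⟩) (fun a b hab => Subtype.ext (by
        rw [QuotientGroup.leftRel_apply, mem_centralizer_singleton_iff] at hab
        calc a * t * a⁻¹ = a * (t * (a⁻¹ * b)) * b⁻¹ := by group
          _ = a * (a⁻¹ * b * t) * b⁻¹ := by rw [hab]
          _ = b * t * b⁻¹ := by group))
    refine (Nat.card_congr (Equiv.ofBijective F ⟨?_, fun i => ?_⟩)).symm
    · intro q q' hqq
      obtain ⟨a, rfl⟩ := QuotientGroup.mk_surjective q
      obtain ⟨b, rfl⟩ := QuotientGroup.mk_surjective q'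
      have h1 : a * t * a⁻¹ = b * t * b⁻¹ := congrArg Subtype.val hqq
      rw [QuotientGroup.eq, mem_centralizer_singleton_iff]
      calc a⁻¹ * b * t = a⁻¹ * (b * t * b⁻¹) * b := by group
        _ = a⁻¹ * (a * t * a⁻¹) * b := by rw [h1]
        _ = t * (a⁻¹ * b) := by group
    · obtain ⟨g, hg⟩ := hconjI i
      exact ⟨QuotientGroup.mk g, Subtype.ext hg⟩
  have hcent : ∀ i : I, Nat.card {j : I // Commute i.1 j.1} = n0 := by
    intro i
    obtain ⟨g, hg⟩ := hconjI i
    refine (Nat.card_congr (Equiv.ofBijective (fun u : {u : G // u ∈ M ∧ orderOf u = 2} =>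
      (⟨⟨g * u * g⁻¹, orderOf_conj_two g u.2.2⟩, by
        show Commute i.1 (g * u * g⁻¹)
        rw [← hg]
        exact (Commute.conj_iff g).mpr (e.invol_comm m htM ht u.2.1 u.2.2)⟩ : {j : I // Commute i.1 j.1}))
      ⟨fun a b hab => ?_, fun j => ?_⟩)).symm
    · have h1 : g * a.1 * g⁻¹ = g * b.1 * g⁻¹ := congrArg (fun z => z.1.1) hab
      exact Subtype.ext (by simpa using h1)
    · refine ⟨⟨g⁻¹ * j.1.1 * g, e.toEmb.cent_le m htM ht ?_, ?_⟩, Subtype.ext (Subtype.ext (by simp [mul_assoc]))⟩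
      · rw [mem_centralizer_singleton_iff]
        have h1 : g * t * g⁻¹ * j.1.1 = j.1.1 * (g * t * g⁻¹) := by
          rw [congrArg (· * j.1.1) hg, congrArg (j.1.1 * ·) hg]
          exact j.2.eq
        calc g⁻¹ * j.1.1 * g * t = g⁻¹ * (j.1.1 * (g * t * g⁻¹)) * g := by group
          _ = g⁻¹ * (g * t * g⁻¹ * j.1.1) * g := by rw [h1]
          _ = t * (g⁻¹ * j.1.1 * g) := by group
      · have := orderOf_conj_two g⁻¹ j.1.2
        rwa [inv_inv] at this
  -- non-commuting pairs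
  let PairT := Σ i : I, {j : I // ¬ Commute i.1 j.1}
  have hPi : Nat.card PairT = Nat.card I * (Nat.card I - n0) := by
    rw [Nat.card_sigma, Finset.sum_congr rfl (fun i _ => ?_), Finset.sum_const, Finset.card_univ,
      smul_eq_mul, Nat.card_eq_fintype_card (α := I)]
    rw [Nat.card_eq_fintype_card, Fintype.card_subtype_compl, ← Nat.card_eq_fintype_card,
      ← Nat.card_eq_fintype_card, hcent i, Nat.card_eq_fintype_card]
  let X := {y : G // y ≠ 1 ∧ ∃ k : ℕ, y ^ p ^ k = 1}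
  let Φ := Σ y : X, {i : I // i.1 * y.1 * i.1⁻¹ = y.1⁻¹}
  have hpair : ∀ π : PairT, π.1.1 * π.2.1.1 ≠ 1 ∧ ∃ k : ℕ, (π.1.1 * π.2.1.1) ^ p ^ k = 1 := by
    rintro ⟨i, j, hij⟩
    refine ⟨fun h => hij ?_, ?_⟩
    · have : j.1 = i.1⁻¹ := eq_inv_of_mul_eq_one_right h
      show Commute i.1 j.1
      rw [this]
      exact (Commute.refl _).inv_right
    obtain ⟨g, hg⟩ := hconjI i
    set j' := g⁻¹ * j.1 * g with hj'
    have hj'o : orderOf j' = 2 := by
      have := orderOf_conj_two g⁻¹ j.2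
      rwa [inv_inv] at this
    have hj'M : j' ∉ M := fun h => hij (by
      have h1 := (e.invol_comm m htM ht h hj'o).eq
      show i.1 * j.1 = j.1 * i.1
      rw [← hg, show j.1 = g * j' * g⁻¹ by rw [hj']; group]
      calc g * t * g⁻¹ * (g * j' * g⁻¹) = g * (t * j') * g⁻¹ := by group
        _ = g * (j' * t) * g⁻¹ := by rw [h1]
        _ = g * j' * g⁻¹ * (g * t * g⁻¹) := by group)
    obtain ⟨k, hk⟩ := (e.centralizer_inverted m hT htM ht (hout _ hj'M) (hinv0 j' hj'o) (t * j')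
      (mem_centralizer_singleton_iff.mpr rfl)).2.2
    refine ⟨k, ?_⟩
    show (i.1 * j.1) ^ p ^ k = 1
    rw [← hg, show g * t * g⁻¹ * j.1 = g * (t * j') * g⁻¹ by rw [hj']; group, conj_pow, hk, mul_one,
      mul_inv_cancel]
  let F : PairT → Φ := fun π => ⟨⟨π.1.1 * π.2.1.1, hpair π⟩, π.1, by
    show π.1.1 * (π.1.1 * π.2.1.1) * π.1.1⁻¹ = (π.1.1 * π.2.1.1)⁻¹
    rw [← mul_assoc, mul_self_of_order_two π.1.2, one_mul, mul_inv_rev,
      inv_eq_of_mul_eq_one_right (mul_self_of_order_two π.2.1.2)]⟩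
  have hFbij : Function.Bijective F := by
    constructor
    · rintro ⟨i, j, hij⟩ ⟨i', j', hij'⟩ h
      have hi : i = i' := congrArg (fun z : Φ => z.2.1) h
      subst hi
      have hy : i.1 * j.1 = i.1 * j'.1 := congrArg (fun z : Φ => z.1.1) h
      obtain rfl : j = j' := Subtype.ext (mul_left_cancel hy)
      rfl
    · rintro ⟨⟨y, hy1, k, hk⟩, i, hi⟩
      have hi2 := mul_self_of_order_two i.2
      have hyo : Odd (orderOf y) :=
        ((hp.out.odd_of_ne_two m.two_ne).pow).of_dvd_nat (orderOf_dvd_of_pow_eq_one hk)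
      have hjo : orderOf (i.1 * y) = 2 := by
        refine orderOf_eq_prime ?_ fun h => ?_
        · have hi' : i.1 * y * i.1 = y⁻¹ := by
            rw [inv_eq_of_mul_eq_one_right hi2] at hi; exact hi
          rw [sq, ← mul_assoc, hi', inv_mul_cancel]
        · have : y = i.1⁻¹ := eq_inv_of_mul_eq_one_right h
          rw [this, orderOf_inv, i.2] at hyo
          exact absurd hyo (by decide)
      refine ⟨⟨i, ⟨i.1 * y, hjo⟩, fun hcom => hy1 ?_⟩, ?_⟩
      · have h1 : i.1 * (i.1 * y) = i.1 * y * i.1 := hcom.eq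
        have h2 : i.1 * y * i.1 = y⁻¹ := by rw [inv_eq_of_mul_eq_one_right hi2] at hi; exact hi
        rw [h2, ← mul_assoc, hi2, one_mul] at h1
        have : y ^ 2 = 1 := by rw [sq]; exact mul_eq_one_iff_eq_inv.mpr h1
        exact orderOf_eq_one_iff.mp (Nat.eq_one_of_dvd_coprimes (Nat.coprime_two_right.mpr hyo)
          dvd_rfl (orderOf_dvd_of_pow_eq_one this))
      · refine Sigma.subtype_ext (Subtype.ext ?_) rfl
        show i.1 * (i.1 * y) = y
        rw [← mul_assoc, hi2, one_mul]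
  set N := Nat.card (P : Subgroup G) with hN
  have hQcard : ∀ Q : Sylow p G, Nat.card (Q : Subgroup G) = N := fun Q =>
    Q.card_eq_multiplicity.trans P.card_eq_multiplicity.symm
  have hfib : ∀ y : X, Nat.card {i : I // i.1 * y.1 * i.1⁻¹ = y.1⁻¹} = N := by
    rintro ⟨y, hy1, k, hk⟩
    obtain ⟨Q, hQ⟩ := (IsPGroup.of_card_dvd_pow (n := k)
      (by rw [Nat.card_zpowers]; exact orderOf_dvd_of_pow_eq_one hk) : IsPGroup p (zpowers y)).exists_le_sylow
    obtain ⟨hCy, i0, hi0, hi0inv⟩ := hSylow Q y (hQ (mem_zpowers y)) hy1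
    have hi02 := mul_self_of_order_two hi0
    have hi0i : i0⁻¹ = i0 := inv_eq_of_mul_eq_one_right hi02
    rw [← hQcard Q]
    refine (Nat.card_congr (Equiv.ofBijective (fun q : (Q : Subgroup G) =>
      (⟨⟨i0 * q, ?_⟩, ?_⟩ : {i : I // i.1 * y * i.1⁻¹ = y⁻¹})) ⟨fun a b hab => ?_, fun i => ?_⟩)).symm
    · refine orderOf_eq_prime ?_ fun h => ?_
      · have := hi0inv q q.2
        rw [hi0i] at this
        rw [sq, ← mul_assoc, this, inv_mul_cancel]
      · obtain ⟨j, hj⟩ := Q.isPGroup' q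
        have hq : (q : G) = i0⁻¹ := eq_inv_of_mul_eq_one_right h
        have h1 := orderOf_dvd_of_pow_eq_one (congrArg Subtype.val hj : (q : G) ^ p ^ j = 1)
        rw [hq, orderOf_inv, hi0] at h1
        exact m.two_ne ((Nat.prime_dvd_prime_iff_eq Nat.prime_two hp.out).mp
          (Nat.prime_two.dvd_of_dvd_pow h1)).symm
    · have hq : (q : G) ∈ centralizer ({y} : Set G) := hCy.symm ▸ q.2
      show i0 * (q : G) * y * (i0 * q)⁻¹ = y⁻¹
      rw [mem_centralizer_singleton_iff] at hq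
      calc i0 * (q : G) * y * (i0 * q)⁻¹ = i0 * ((q : G) * y) * (q : G)⁻¹ * i0⁻¹ := by group
        _ = i0 * (y * q) * (q : G)⁻¹ * i0⁻¹ := by rw [hq]
        _ = i0 * y * i0⁻¹ := by group
        _ = y⁻¹ := hi0inv y (hQ (mem_zpowers y))
    · exact Subtype.ext (mul_left_cancel (congrArg (fun z => z.1.1) hab))
    · have hmem : i0 * i.1.1 ∈ centralizer ({y} : Set G) := by
        rw [mem_centralizer_singleton_iff]
        have h1 : i.1.1 * y = y⁻¹ * i.1.1 := mul_inv_eq_iff_eq_mul.mp i.2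
        have h2 : i0 * y⁻¹ = y * i0 := by
          have := congrArg (·⁻¹) (hi0inv y (hQ (mem_zpowers y)))
          simp only [mul_inv_rev, inv_inv] at this
          exact mul_inv_eq_iff_eq_mul.mp (by rw [← mul_assoc] at this; exact this)
        rw [mul_assoc, h1, ← mul_assoc, h2, mul_assoc]
      refine ⟨⟨i0 * i.1.1, hCy ▸ hmem⟩, Subtype.ext (Subtype.ext ?_)⟩
      show i0 * (i0 * i.1.1) = i.1.1
      rw [← mul_assoc, hi02, one_mul]
  have hΦ : Nat.card Φ = Nat.card X * N := by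
    rw [Nat.card_sigma, Finset.sum_congr rfl (fun y _ => hfib y), Finset.sum_const, Finset.card_univ,
      smul_eq_mul, Nat.card_eq_fintype_card (α := X)]
  have hX : Nat.card X = Nat.card (Sylow p G) * (N - 1) := by
    haveI := Fintype.ofFinite (Sylow p G)
    let B : (Σ Q : Sylow p G, {y : (Q : Subgroup G) // y ≠ 1}) → X := fun z =>
      ⟨z.2.1, fun h => z.2.2 (Subtype.ext h), by
        obtain ⟨k, hk⟩ := z.1.isPGroup' z.2.1
        exact ⟨k, congrArg Subtype.val hk⟩⟩
    have hB : Function.Bijective B := by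
      constructor
      · rintro ⟨Q, ⟨a, ha⟩, ha1⟩ ⟨Q', ⟨b, hb⟩, hb1⟩ h
        obtain rfl : a = b := congrArg Subtype.val h
        have ha1' : a ≠ 1 := fun h => ha1 (Subtype.ext h)
        obtain rfl : Q = Q' := Sylow.ext ((hSylow Q a ha ha1').1.symm.trans (hSylow Q' a hb ha1').1)
        rfl
      · rintro ⟨y, hy1, k, hk⟩
        obtain ⟨Q, hQ⟩ := (IsPGroup.of_card_dvd_pow (n := k)
          (by rw [Nat.card_zpowers]; exact orderOf_dvd_of_pow_eq_one hk) : IsPGroup p (zpowers y)).exists_le_sylow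
        exact ⟨⟨Q, ⟨y, hQ (mem_zpowers y)⟩, fun h => hy1 (congrArg Subtype.val h)⟩, rfl⟩
    rw [← Nat.card_congr (Equiv.ofBijective B hB), Nat.card_sigma,
      Finset.sum_congr rfl (fun Q _ => ?_), Finset.sum_const, Finset.card_univ, smul_eq_mul,
      Nat.card_eq_fintype_card (α := Sylow p G)]
    rw [Nat.card_eq_fintype_card, Fintype.card_subtype_compl, Fintype.card_subtype_eq,
      ← Nat.card_eq_fintype_card, hQcard Q]
  have hmain : Nat.card I * (Nat.card I - n0) = Nat.card (Sylow p G) * (N - 1) * N := by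
    rw [← hPi, Nat.card_congr (Equiv.ofBijective F hFbij), hΦ, hX]
  obtain ⟨b, hb⟩ := IsPGroup.iff_card.mp P.isPGroup'
  have hb' : N = p ^ b := hb
  have hb0 : b ≠ 0 := by
    rintro rfl
    rw [pow_zero] at hb'
    have := card_eq_one.mp hb'
    exact hy01 (mem_bot.mp (this ▸ hP hy0S))
  have hNI : N ∣ Nat.card I := by
    have h1 : N ∣ Nat.card (centralizer ({t} : Set G)) * Nat.card I := by
      rw [hIcard, card_mul_index]; exact card_subgroup_dvd_card _
    exact Nat.Coprime.dvd_of_dvd_mul_left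
      (hb' ▸ ((hp.out.coprime_iff_not_dvd.mpr hCt).pow_left b)) h1
  have hpI : p ∣ Nat.card I - n0 :=
    Nat.dvd_sub ((hb' ▸ dvd_pow_self p hb0 : p ∣ N).trans hNI) (e.dvd_card_invol m hT htM ht)
  have hdvd : N * p ∣ Nat.card (Sylow p G) * (N - 1) * N := hmain ▸ Nat.mul_dvd_mul hNI hpI
  rw [mul_comm _ N] at hdvd
  have hNpos : 0 < N := by rw [hb']; exact pow_pos hp.out.pos b
  rcases hp.out.dvd_mul.mp (Nat.dvd_of_mul_dvd_mul_left hNpos hdvd) with h | h
  · exact not_dvd_card_sylow p G h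
  · have h1 : p ∣ N := hb' ▸ dvd_pow_self p hb0
    have h3 : p ∣ N - (N - 1) := Nat.dvd_sub h1 h
    rw [show N - (N - 1) = 1 by omega] at h3
    exact hp.out.one_lt.ne' (Nat.dvd_one.mp h3)

end CfsgLib.Techniques.AbSub
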