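import Cfsg.Agent.Techniques.AbSub.Embedded
import Cfsg.Agent.Techniques.StableFusion
import Cfsg.Agent.PLocal.PStability
import Cfsg.Agent.PLocal.SL2Section

/-!
# The local subgroup with `O_{p'}(M)` of odd order
-/

set_option autoImplicit false

universe u

namespace CfsgLib.Techniques.AbSub

open Subgroup CfsgLib.ConjFunctor
open Cfsg (inducedFunctor)
open scoped CfsgLib.ConjFunctor

variable {p : ℕ} [hp : Fact p.Prime] [h2 : Fact (Nat.Prime 2)] {G : Type u} [Group G] [Finite G]
variable {T : Sylow 2 G} {M : Subgroup G}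

omit [Finite G] in
theorem exists_two_invol [Finite G] (m : Min p G) (T : Sylow 2 G) (hT : (T : Subgroup G) ≠ ⊥) :
    ∃ t v, t ∈ invSub T ∧ v ∈ invSub T ∧ orderOf t = 2 ∧ orderOf v = 2 ∧ t ≠ v := by
  classical
  haveI := Fintype.ofFinite (invSub T)
  have h := card_invSub m T hT
  rw [Nat.card_eq_fintype_card, ← Finset.card_univ] at h
  obtain ⟨a, -, ha⟩ := Finset.exists_mem_notMem_of_card_lt_card (s := {(1 : invSub T)})
    (t := (Finset.univ : Finset (invSub T))) (by rw [Finset.card_singleton]; omega)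
  obtain ⟨b, -, hb⟩ := Finset.exists_mem_notMem_of_card_lt_card (s := {(1 : invSub T), a})
    (t := (Finset.univ : Finset (invSub T))) (lt_of_le_of_lt Finset.card_le_two (by omega))
  simp only [Finset.mem_singleton, Finset.mem_insert, not_or] at ha hb
  exact ⟨a, b, a.2, b.2, orderOf_of_mem_invSub m a.2 (fun h => ha (Subtype.ext h)),
    orderOf_of_mem_invSub m b.2 (fun h => hb.1 (Subtype.ext h)), fun h => hb.2 (Subtype.ext h).symm⟩

/-- The odd elements of a proper subgroup with one involution commuting with `t` lie in the odd core. -/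
theorem mem_core_of_odd (m : Min p G) {X : Subgroup G} (hX : X ≠ ⊤) (t : X) (ht : orderOf t = 2)
    (huniq : ∀ v : X, orderOf v = 2 → v * t = t * v → v = t) {g : X} (hg : Odd (orderOf g)) :
    g ∈ Cfsg.pPrimeCore 2 X := by
  set π := QuotientGroup.mk' (Cfsg.pPrimeCore 2 X) with hπ
  obtain ⟨S, hS⟩ := (isPGroup_zpowers_two ht).exists_le_sylow
  obtain ⟨hn, hC⟩ := odd_quotient m hX S
  have hSc := comm_two m (S.isPGroup'.map X.subtype)
  have hcomm : ∀ a ∈ (S : Subgroup X), ∀ b ∈ (S : Subgroup X), a * b = b * a := fun a ha b hb =>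
    Subtype.ext (show X.subtype a * X.subtype b = X.subtype b * X.subtype a from
      congrArg Subtype.val (hSc.is_comm.comm ⟨_, mem_map_of_mem X.subtype ha⟩
      ⟨_, mem_map_of_mem X.subtype hb⟩))
  set Sb := (S : Subgroup X).map π with hSb
  haveI : IsMulCommutative Sb := ⟨⟨fun ⟨_, a, ha, ea⟩ ⟨_, b, hb, eb⟩ => Subtype.ext (by
    subst ea eb
    show π a * π b = π b * π a
    rw [← map_mul, ← map_mul, hcomm a ha b hb])⟩⟩
  have hinj : ∀ a ∈ (S : Subgroup X), π a = 1 → a = 1 := by
    intro a ha h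
    have h1 : a ∈ (S : Subgroup X) ⊓ Cfsg.pPrimeCore 2 X := ⟨ha, (QuotientGroup.eq_one_iff a).mp h⟩
    rwa [CfsgLib.PLocal.disjoint_of_isPGroup_of_coprime S.isPGroup'
      (CfsgLib.PLocal.coprime_card_pPrimeCore 2 X), mem_bot] at h1
  have hinv : ∀ w ∈ Sb, orderOf w = 2 → w = π t := by
    rintro _ ⟨a, ha, rfl⟩ hw
    have ha2 : orderOf a = 2 := by
      refine orderOf_eq_prime ?_ fun h => ?_
      · refine hinj _ (pow_mem ha 2) ?_
        rw [map_pow]
        exact orderOf_dvd_iff_pow_eq_one.mp (dvd_of_eq hw)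
      · rw [h, map_one, orderOf_one] at hw; omega
    rw [huniq a ha2 (hcomm a ha t (hS (mem_zpowers t)))]
  have htS : π t ∈ Sb := mem_map_of_mem π (hS (mem_zpowers t))
  have htb : orderOf (π t) = 2 := by
    refine orderOf_eq_prime (by rw [← map_pow, orderOf_dvd_iff_pow_eq_one.mp (dvd_of_eq ht), map_one]) fun h => ?_
    have := hinj t (hS (mem_zpowers t)) h
    rw [this, orderOf_one] at ht
    omega
  have hodd : Odd (orderOf (π g)) := hg.of_dvd_nat (orderOf_map_dvd π g)
  have hgc : π g ∈ centralizer (Sb : Set (X ⧸ Cfsg.pPrimeCore 2 X)) := by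
    refine centralizes_of_invol (S.isPGroup'.map π) (by rw [normalizer_eq_top_iff.mpr hn]; exact mem_top _)
      hodd fun w hw hwo => ?_
    have h1 : π g * π t * (π g)⁻¹ = π t :=
      hinv _ (hn.conj_mem _ htS _) (orderOf_conj_two _ htb)
    rw [hinv w hw hwo]
    exact mul_inv_eq_iff_eq_mul.mp h1
  obtain ⟨k, hk⟩ := (S.isPGroup'.map π) ⟨π g, hC hgc⟩
  have h1 : orderOf (π g) ∣ 2 ^ k := orderOf_dvd_of_pow_eq_one (congrArg Subtype.val hk)
  have h2 : orderOf (π g) = 1 :=
    Nat.eq_one_of_dvd_coprimes ((Nat.coprime_two_right.mpr hodd).pow_right k) dvd_rfl h1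
  exact (QuotientGroup.eq_one_iff g).mp (orderOf_eq_one_iff.mp h2)

/-- `M` contains the normaliser of a Sylow `p`-subgroup of `G`. -/
theorem Emb.exists_sylow_normalizer_le (e : Emb T M) (m : Min p G) (hT : (T : Subgroup G) ≠ ⊥)
    {W : Subgroup G} (hW : W ≠ ⊥) (hWp : IsPGroup p W) (hWM : W ≤ M)
    (hodd : Odd (Nat.card (Cfsg.pPrimeCore p M))) :
    ∃ P : Sylow p G, normalizer ((P : Subgroup G) : Set G) ≤ M := by
  haveI := m.sol M e.ne_top
  set D := Cfsg.pPrimeCore p M with hD
  set π := QuotientGroup.mk' D with hπ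
  obtain ⟨P0, -⟩ := (hWp.comap_subtype (K := M)).exists_le_sylow
  have hDc := CfsgLib.PLocal.coprime_card_pPrimeCore p M
  have hdisj : (P0 : Subgroup M) ⊓ D = ⊥ :=
    CfsgLib.PLocal.disjoint_of_isPGroup_of_coprime P0.isPGroup' hDc
  have hinj : Set.InjOn π (P0 : Subgroup M) := by
    intro a ha b hb hab
    have : a⁻¹ * b ∈ (P0 : Subgroup M) ⊓ D :=
      ⟨(P0 : Subgroup M).mul_mem ((P0 : Subgroup M).inv_mem ha) hb, QuotientGroup.eq.mp hab⟩
    rwa [hdisj, mem_bot, inv_mul_eq_one] at this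
  set Z := Cfsg.centerThompsonAOf (P0 : Subgroup M) with hZ
  have hZP : Z ≤ (P0 : Subgroup M) := by
    rw [hZ, ← inducedFunctor_zjFun]; exact inducedFunctor_le _
  have hZn : (Z.map π).Normal := by
    have hsol : Cfsg.IsPSolvable p ↥(⊤ : Subgroup (M ⧸ D)) := CfsgLib.PLocal.isPSolvable_of_isSolvable
    have hn := CfsgLib.OddOrder.ZJ.centerThompsonAOf_normal m.two_ne
      (CfsgLib.OddOrder.ZJ.quadraticStable_of_isPStableOn fun V _ hV =>
        CfsgLib.PLocal.isPStableOn_of_no_section m.two_ne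
          (CfsgLib.PLocal.not_hasSL2Section_of_isPSolvable m.five hsol) V hV)
      (CfsgLib.PLocal.centralizer_pCore_le CfsgLib.PLocal.isPSolvable_of_isSolvable
        (CfsgLib.PLocal.pPrimeCore_quotient_pPrimeCore_eq_bot p M))
      (P0.mapSurjective (QuotientGroup.mk'_surjective D))
    have he : Z.map π = Cfsg.centerThompsonAOf ((P0 : Subgroup M).map π) := by
      rw [hZ, ← inducedFunctor_zjFun, ← inducedFunctor_zjFun,
        inducedFunctor_map isCharPFunctor_zjFun π P0.isPGroup' hinj]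
    rw [he]
    exact hn
  set R := (Z.map π).comap π with hR
  haveI : R.Normal := hZn.comap _
  have hZR : Z ≤ R := le_comap_map _ _
  have hRe : R = Z ⊔ D := by rw [hR, comap_map_eq, QuotientGroup.ker_mk']
  have hinf : (P0 : Subgroup M) ⊓ R = Z := by
    refine le_antisymm (fun x hx => ?_) (le_inf hZP hZR)
    obtain ⟨z, hz, he⟩ := hx.2
    exact hinj (hZP hz) hx.1 he ▸ hz
  have hZs : IsSylowIn p Z R := by
    have := (isSylowIn_top P0).inf_of_normal le_top (by rw [normalizer_eq_top R] : ⊤ ≤ normalizer (R : Set M))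
    rwa [hinf] at this
  set N := normalizer (Z : Set M) with hN
  have hsup : N ⊔ D = ⊤ := by
    refine eq_top_iff.mpr fun g _ => ?_
    have h1 : IsSylowIn p (g *• Z) R := by
      have := hZs.cj g
      rwa [cj_eq_of_mem_normalizer (T := R) (g := g) (by rw [normalizer_eq_top R]; exact mem_top g)] at this
    obtain ⟨r, hr, hre⟩ := hZs.exists_cj_eq h1
    rw [cj_cj] at hre
    have hr' : r ∈ N ⊔ D := (hRe.le.trans (sup_le_sup_right le_normalizer D)) hr
    have := (N ⊔ D).mul_mem ((N ⊔ D).inv_mem hr') (mem_sup_left (T := D) (mem_normalizer_of_cj_le hre.le : r * g ∈ N))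
    rwa [inv_mul_cancel_left] at this
  have hidx : N.index ∣ Nat.card D := by
    have h1 : D.index = D.relIndex N := by
      rw [← relIndex_sup_right (H := N) (K := D), hsup, relIndex_top_right]
    have h3 : Nat.card D * D.index = N.index * Nat.card N := by
      rw [card_mul_index, index_mul_card]
    have h4 : Nat.card (D.subgroupOf N) * D.relIndex N = Nat.card N := card_mul_index (D.subgroupOf N)
    refine ⟨Nat.card (D.subgroupOf N), ?_⟩
    have hpos : 0 < D.relIndex N := by rw [← h1]; exact Nat.pos_of_ne_zero FiniteIndex.index_ne_zero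
    apply Nat.eq_of_mul_eq_mul_right hpos
    rw [← h4, h1] at h3
    rw [h3]; ring
  -- a four-group normalising `Z`
  let S : Sylow 2 N := default
  set S' := ((S : Subgroup N).map N.subtype).map M.subtype with hS'
  have hS'M : S' ≤ M := map_subtype_le _
  have hS'2 : IsSylowIn 2 S' M := by
    refine ⟨hS'M, (S.isPGroup'.map _).map _, ?_⟩
    rw [hS', relIndex, subgroupOf, comap_map_eq_self_of_injective M.subtype_injective]
    rw [index_map_subtype, Nat.prime_two.dvd_mul, not_or]
    exact ⟨S.not_dvd_index, (hodd.of_dvd_nat hidx).not_two_dvd_nat⟩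
  obtain ⟨a, haM, ha⟩ := hS'2.exists_cj_eq ((isSylowIn_top T).of_le (le_normalizer.trans e.norm) le_top)
  set Z' := Z.map M.subtype with hZ'
  have hNZ : S' ≤ normalizer (Z' : Set G) :=
    (map_mono (map_subtype_le _)).trans (le_normalizer_map _)
  obtain ⟨t, v, htE, hvE, ht, hv, htv⟩ := exists_two_invol m T hT
  have hP0ne : (P0 : Subgroup M) ≠ ⊥ := by
    intro hb
    have hcard := P0.card_eq_multiplicity
    rw [hb, Subgroup.card_bot] at hcard
    obtain ⟨k, hk⟩ := IsPGroup.iff_card.mp hWp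
    have hk0 : k ≠ 0 := fun h => hW (card_eq_one.mp (by rw [hk, h, pow_zero]))
    have hd : p ∣ Nat.card M := dvd_trans (hk ▸ dvd_pow_self p hk0) (card_dvd_of_le hWM)
    have := (Nat.Prime.dvd_iff_one_le_factorization hp.out Nat.card_pos.ne').mp hd
    exact absurd hcard.symm (Nat.one_lt_pow (by omega) hp.out.one_lt).ne'
  have hZne : Z' ≠ ⊥ := by
    rw [hZ', Ne, map_eq_bot_iff_of_injective _ M.subtype_injective, hZ, ← inducedFunctor_zjFun]
    exact functor_ne_bot (isConjugacyFunctor_induced (isCharPFunctor_zjFun (p := p))) P0.isPGroup' hP0ne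
  have hback : ∀ x ∈ invSub T, a * x * a⁻¹ ∈ S' := fun x hx => by
    rw [← ha]
    exact conj_mem_cj a (invSub_le T hx)
  have hNle : normalizer (Z' : Set G) ≤ M := by
    refine e.le_of_four m
      (m.normalizer_ne_top hZne (m.isPGroup_ne_top ((P0.isPGroup'.to_le hZP).map M.subtype)))
      (hNZ (hback t htE)) (hS'M (hback t htE)) (orderOf_conj_two a ht)
      (hNZ (hback v hvE)) (hS'M (hback v hvE)) (orderOf_conj_two a hv) (fun h => htv (by simpa using h)) ?_
    have := T_comm m T (invSub_le T htE) (invSub_le T hvE)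
    calc a * t * a⁻¹ * (a * v * a⁻¹) = a * (t * v) * a⁻¹ := by group
      _ = a * (v * t) * a⁻¹ := by rw [this]
      _ = a * v * a⁻¹ * (a * t * a⁻¹) := by group
  -- `P0` is a Sylow subgroup of `G`
  set P := (P0 : Subgroup M).map M.subtype with hP
  have hPM : P ≤ M := map_subtype_le _
  have hPp : IsPGroup p P := P0.isPGroup'.map _
  have hZP' : Z' = inducedFunctor (G := G) @zjFun P := by
    rw [hZ', hZ, ← inducedFunctor_zjFun, hP,
      inducedFunctor_map isCharPFunctor_zjFun M.subtype P0.isPGroup' M.subtype_injective.injOn]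
  have hNP : normalizer (P : Set G) ≤ M :=
    ((normalizer_le_normalizer_functor (isConjugacyFunctor_induced (isCharPFunctor_zjFun (p := p))) hPp).trans
      (le_of_eq (by rw [← hZP']))).trans hNle
  obtain ⟨PG, hPG⟩ := hPp.exists_le_sylow
  have heq : P = (PG : Subgroup G) := by
    by_contra hne
    have h1 := lt_inf_normalizer PG.isPGroup' (lt_of_le_of_ne hPG hne)
    refine h1.not_ge fun x hx => ?_
    have hxM : x ∈ M := hNP hx.2
    have hmax := P0.is_maximal'
      (((PG.isPGroup'.to_le inf_le_left) :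
        IsPGroup p ↥((PG : Subgroup G) ⊓ normalizer (P : Set G))).comap_subtype (K := M))
      (fun y hy => show (y : G) ∈ (PG : Subgroup G) ⊓ normalizer (P : Set G) from
        ⟨hPG (mem_map_of_mem _ hy), le_normalizer (mem_map_of_mem _ hy)⟩)
    exact ⟨⟨x, hxM⟩, hmax ▸ (show (⟨x, hxM⟩ : M) ∈ ((PG : Subgroup G) ⊓ normalizer (P : Set G)).subgroupOf M from hx), rfl⟩
  exact ⟨PG, heq ▸ hNP⟩

/-- That is impossible. -/
theorem Emb.false_of_sylow_normalizer_le (e : Emb T M) (m : Min p G) (hT : (T : Subgroup G) ≠ ⊥)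
    (P : Sylow p G) (hP : normalizer ((P : Subgroup G) : Set G) ≤ M) : False := by
  obtain ⟨t, -, htE, -, ht, -, -⟩ := exists_two_invol m T hT
  have htM : t ∈ M := e.norm (le_normalizer (invSub_le T htE))
  obtain ⟨c, hc⟩ := e.exists_not_mem m htM ht
  set s := c * t * c⁻¹ with hs
  have hso : orderOf s = 2 := orderOf_conj_two c ht
  set x := t * s with hx
  have ht2 := mul_self_of_order_two ht
  have hs2 := mul_self_of_order_two hso
  have hxM : x ∉ M := fun h => hc (by
    have := M.mul_mem htM h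
    rwa [hx, ← mul_assoc, ht2, one_mul] at this)
  have hodd : Odd (orderOf x) := e.odd_out m htM ht hc hso
  have htx : t * x * t⁻¹ = x⁻¹ := by
    rw [hx, ← mul_assoc, ht2, one_mul, mul_inv_rev, inv_eq_of_mul_eq_one_right ht2,
      inv_eq_of_mul_eq_one_right hs2]
  have hxp : IsPGroup p (zpowers x) := by
    obtain ⟨k, hk⟩ := exists_pow_coprime (p := p) x
    refine IsPGroup.of_card_dvd_pow (n := k) ?_
    rw [Nat.card_zpowers]
    refine orderOf_dvd_of_pow_eq_one ?_
    set y := x ^ p ^ k with hy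
    have hty : t * y * t⁻¹ = y⁻¹ := by rw [hy, ← conj_pow, htx, inv_pow]
    have htn : t ∈ normalizer (zpowers y : Set G) := by
      refine mem_normalizer_fintype ?_
      rintro _ ⟨i, rfl⟩
      exact ⟨-i, by simp only []; rw [← conj_zpow, hty, inv_zpow, zpow_neg]⟩
    have hc2 : t ∈ centralizer (zpowers y : Set G) :=
      mem_centralizer m.ab (by rw [Nat.card_zpowers]; exact hk)
        (by rw [ht]; exact (Nat.coprime_primes Nat.prime_two hp.out).mpr m.two_ne.symm) htn
    rw [← mem_centralizer_iff.mp hc2 y (mem_zpowers y), mul_inv_cancel_right] at hty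
    have hy2 : orderOf y ∣ 2 := orderOf_dvd_of_pow_eq_one (by rw [sq]; exact mul_eq_one_iff_eq_inv.mpr hty)
    exact orderOf_eq_one_iff.mp (Nat.eq_one_of_dvd_coprimes (Nat.coprime_two_right.mpr hodd)
      (orderOf_pow_dvd _) hy2)
  obtain ⟨X, hxX, hXmax⟩ : ∃ X : Subgroup G, zpowers x ≤ X ∧
      Maximal (fun X : Subgroup G => IsPGroup p X ∧ t ∈ normalizer (X : Set G)) X := by
    refine (Set.toFinite {X : Subgroup G | IsPGroup p X ∧ t ∈ normalizer (X : Set G)}).exists_le_maximal
      ⟨hxp, mem_normalizer_fintype ?_⟩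
    rintro _ ⟨i, rfl⟩
    exact ⟨-i, by simp only []; rw [← conj_zpow, htx, inv_zpow, zpow_neg]⟩
  obtain ⟨⟨hXp, htX⟩, hXm⟩ := hXmax
  set Nx := normalizer (X : Set G) with hNx
  have hx1 : x ≠ 1 := fun h => hxM (h ▸ M.one_mem)
  have hXne : X ≠ ⊥ := fun h => hx1 (mem_bot.mp (h ▸ hxX (mem_zpowers x)))
  have hNxt : Nx ≠ ⊤ := m.normalizer_ne_top hXne (m.isPGroup_ne_top hXp)
  have huniq : ∀ v : Nx, orderOf v = 2 → v * ⟨t, htX⟩ = ⟨t, htX⟩ * v → v = ⟨t, htX⟩ := by
    intro v hv hvt
    by_contra hne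
    have hvo : orderOf (v : G) = 2 := by rw [Subgroup.orderOf_coe]; exact hv
    have hvM : (v : G) ∈ M :=
      e.cent_le m htM ht (mem_centralizer_singleton_iff.mpr (congrArg Subtype.val hvt))
    exact hxM (e.le_of_four m hNxt htX htM ht v.2 hvM hvo (fun h => hne (Subtype.ext h.symm))
      (congrArg Subtype.val hvt).symm (le_normalizer (hxX (mem_zpowers x))))
  set R := (Cfsg.pPrimeCore 2 Nx).map Nx.subtype with hR
  have hin : ∀ U : Subgroup G, U ≤ Nx → IsPGroup p U → U ≤ R := by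
    intro U hU hUp u hu
    obtain ⟨k, hk⟩ := hUp ⟨u, hu⟩
    refine ⟨⟨u, hU hu⟩, mem_core_of_odd m hNxt ⟨t, htX⟩ (by rw [← Subgroup.orderOf_coe]; exact ht) huniq ?_, rfl⟩
    rw [← Subgroup.orderOf_coe]
    exact ((hp.out.odd_of_ne_two m.two_ne).pow).of_dvd_nat
      (orderOf_dvd_of_pow_eq_one (congrArg Subtype.val hk : u ^ p ^ k = 1))
  have htR : zpowers t ≤ normalizer (R : Set G) := by
    rw [zpowers_le]
    refine mem_normalizer_fintype ?_
    rintro _ ⟨r, hr, rfl⟩
    exact ⟨_, (inferInstance : (Cfsg.pPrimeCore 2 Nx).Normal).conj_mem r hr ⟨t, htX⟩, rfl⟩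
  haveI : Group.IsSolvable (zpowers t) := Group.isSolvable_of_comm fun a b => mul_comm' a b
  obtain ⟨P1, hXP1, htP1⟩ := CfsgLib.Coprime.exists_invariant_sylow_ge (p := p) htR (by
    rw [Nat.card_zpowers, ht, hR, Subgroup.card_map_of_injective Nx.subtype_injective]
    exact (CfsgLib.PLocal.coprime_card_pPrimeCore 2 Nx).symm) (Or.inl inferInstance)
    (hin X le_normalizer hXp) hXp (zpowers_le.mpr htX)
  have hXeq : (P1 : Subgroup R).map R.subtype = X := le_antisymm
    (hXm (⟨P1.isPGroup'.map _, htP1 (mem_zpowers t)⟩ :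
      IsPGroup p ↥((P1 : Subgroup R).map R.subtype) ∧ _) hXP1) hXP1
  obtain ⟨PX, hPX⟩ := hXp.exists_le_sylow
  have hXS : X = (PX : Subgroup G) := by
    by_contra hne
    have h1 := lt_inf_normalizer PX.isPGroup' (lt_of_le_of_ne hPX hne)
    set U := (PX : Subgroup G) ⊓ normalizer (X : Set G) with hU
    have hUR : U ≤ R := hin U inf_le_right (PX.isPGroup'.to_le inf_le_left)
    have hmax : U.subgroupOf R = (P1 : Subgroup R) :=
      P1.is_maximal' ((PX.isPGroup'.to_le inf_le_left).comap_subtype)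
        (fun y hy => h1.le (hXeq.le (mem_map_of_mem _ hy)))
    refine h1.not_ge fun y hy => ?_
    rw [← hXeq, ← hmax]
    exact ⟨⟨y, hUR hy⟩, hy, rfl⟩
  obtain ⟨g, -, hg⟩ := (isSylowIn_top PX).exists_cj_eq (isSylowIn_top P)
  rw [← hXS] at hg
  have htg : g⁻¹ * t * g ∈ M := by
    refine hP (mem_normalizer_of_cj_le ?_)
    rw [← cj_cj, ← cj_cj, hg, cj_eq_of_mem_normalizer htX]
    rw [← hg, cj_cj, inv_mul_cancel, cj_one]
  have hgM : g⁻¹ ∈ M := e.mem_of_conj_mem m htM ht (by rwa [inv_inv])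
  refine hxM ?_
  have hxg : x ∈ g *• (P : Subgroup G) := hg.symm ▸ hxX (mem_zpowers x)
  obtain ⟨y, hy, hyx⟩ := hxg
  rw [← hyx]
  exact M.mul_mem (M.mul_mem (by simpa using M.inv_mem hgM) (hP (le_normalizer hy)))
    (by simpa using hgM)

end CfsgLib.Techniques.AbSub
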