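import Cfsg.Agent.Techniques.AbSub.Local
import Cfsg.Agent.Techniques.IsolatedPoint

/-!
# The local subgroup is strongly embedded
-/

set_option autoImplicit false

namespace CfsgLib.Techniques.AbSub

open Subgroup CfsgLib.ConjFunctor
open scoped CfsgLib.ConjFunctor

variable {p : ℕ} [hp : Fact p.Prime] [h2 : Fact (Nat.Prime 2)] {G : Type*} [Group G] [Finite G]

/-- `M` is proper and contains `N(T)` and the centralisers of the involutions of `T`. -/
structure Emb (T : Sylow 2 G) (M : Subgroup G) : Prop where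
  ne_top : M ≠ ⊤
  norm : normalizer ((T : Subgroup G) : Set G) ≤ M
  cent : ∀ a ∈ invSub T, a ≠ 1 → centralizer ({a} : Set G) ≤ M

omit hp h2 [Finite G] in
theorem ne_one_of_order_two {u : G} (hu : orderOf u = 2) : u ≠ 1 := by
  intro h
  rw [h, orderOf_one] at hu
  omega

omit hp h2 [Finite G] in
theorem orderOf_conj_two {u : G} (g : G) (hu : orderOf u = 2) : orderOf (g * u * g⁻¹) = 2 := by
  rw [show g * u * g⁻¹ = MulAut.conj g u from rfl, MulEquiv.orderOf_eq, hu]

omit hp [Finite G] in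
theorem isPGroup_zpowers_two {u : G} (hu : orderOf u = 2) : IsPGroup 2 (zpowers u) :=
  IsPGroup.of_card_dvd_pow (n := 1) (by rw [Nat.card_zpowers, hu, pow_one])

omit hp h2 [Finite G] in
theorem mul_self_of_order_two {u : G} (hu : orderOf u = 2) : u * u = 1 := by
  rw [← sq, ← hu]; exact pow_orderOf_eq_one u

variable {T : Sylow 2 G} {M : Subgroup G}

theorem Emb.exists_conj_mem (e : Emb T M) (m : Min p G) {u : G} (hu : u ∈ M) (ho : orderOf u = 2) :
    ∃ h ∈ M, h * u * h⁻¹ ∈ invSub T := by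
  have hTM : IsSylowIn 2 (T : Subgroup G) M :=
    (isSylowIn_top T).of_le (le_normalizer.trans e.norm) le_top
  obtain ⟨h, hh, hle⟩ := hTM.exists_cj_le (zpowers_le.mpr hu) (isPGroup_zpowers_two ho)
  exact ⟨h, hh, mem_invSub_of_orderOf m (hle (conj_mem_cj h (mem_zpowers u))) (orderOf_conj_two h ho)⟩

theorem Emb.cent_le (e : Emb T M) (m : Min p G) {u : G} (hu : u ∈ M) (ho : orderOf u = 2) :
    centralizer ({u} : Set G) ≤ M := by
  obtain ⟨h, hh, hE⟩ := e.exists_conj_mem m hu ho
  intro c hc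
  have h1 : h * c * h⁻¹ ∈ centralizer ({h * u * h⁻¹} : Set G) := by
    rw [mem_centralizer_singleton_iff]
    have := mem_centralizer_singleton_iff.mp hc
    calc h * c * h⁻¹ * (h * u * h⁻¹) = h * (c * u) * h⁻¹ := by group
      _ = h * (u * c) * h⁻¹ := by rw [this]
      _ = h * u * h⁻¹ * (h * c * h⁻¹) := by group
  have h2 := e.cent _ hE (ne_one_of_order_two (orderOf_conj_two h ho)) h1
  have := M.mul_mem (M.mul_mem (M.inv_mem hh) h2) hh
  simpa [mul_assoc] using this

theorem Emb.mem_of_conj_mem (e : Emb T M) (m : Min p G) {u g : G} (hu : u ∈ M) (ho : orderOf u = 2)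
    (hg : g * u * g⁻¹ ∈ M) : g ∈ M := by
  obtain ⟨h1, hh1, hx⟩ := e.exists_conj_mem m hu ho
  obtain ⟨h2, hh2, hy⟩ := e.exists_conj_mem m hg (orderOf_conj_two g ho)
  set x := h1 * u * h1⁻¹ with hxdef
  set g' := h2 * g * h1⁻¹ with hg'
  have hy' : g' * x * g'⁻¹ ∈ invSub T := by
    rw [hg', hxdef]
    simpa [mul_assoc] using hy
  set y := g' * x * g'⁻¹ with hydef
  have hyo : orderOf y = 2 := orderOf_conj_two g' (orderOf_conj_two h1 ho)
  set C := centralizer ({y} : Set G) with hC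
  have hTC : (T : Subgroup G) ≤ C := fun s hs =>
    mem_centralizer_singleton_iff.mpr (T_comm m T hs (invSub_le T hy'))
  have hgTC : g' *• (T : Subgroup G) ≤ C := by
    rintro _ ⟨s, hs, rfl⟩
    rw [mem_centralizer_singleton_iff, hydef]
    have hc := T_comm m T hs (invSub_le T hx)
    show g' * s * g'⁻¹ * (g' * x * g'⁻¹) = g' * x * g'⁻¹ * (g' * s * g'⁻¹)
    calc g' * s * g'⁻¹ * (g' * x * g'⁻¹) = g' * (s * x) * g'⁻¹ := by group
      _ = g' * (x * s) * g'⁻¹ := by rw [hc]
      _ = g' * x * g'⁻¹ * (g' * s * g'⁻¹) := by group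
  have hS : IsSylowIn 2 (T : Subgroup G) C := (isSylowIn_top T).of_le hTC le_top
  have hS' : IsSylowIn 2 (g' *• (T : Subgroup G)) C := by
    have h3 := (isSylowIn_top T).cj g'
    rw [show g' *• (⊤ : Subgroup G) = ⊤ from map_top_of_surjective _ (MulAut.conj g').surjective] at h3
    exact h3.of_le hgTC le_top
  obtain ⟨d, hd, hde⟩ := hS.exists_cj_eq hS'
  rw [cj_cj] at hde
  have hdg : d * g' ∈ M := e.norm (mem_normalizer_of_cj_le hde.le)
  have hdM : d ∈ M := e.cent y hy' (ne_one_of_order_two hyo) hd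
  have := M.mul_mem (M.mul_mem (M.inv_mem hh2) (M.mul_mem (M.inv_mem hdM) hdg)) hh1
  simpa [hg', mul_assoc] using this

theorem Emb.exists_not_mem (e : Emb T M) (m : Min p G) {u : G} (hu : u ∈ M) (ho : orderOf u = 2) :
    ∃ g : G, g * u * g⁻¹ ∉ M := by
  by_contra! h
  exact e.ne_top (eq_top_iff.mpr fun g _ => e.mem_of_conj_mem m hu ho (h g))

theorem Emb.odd_out (e : Emb T M) (m : Min p G) {u s : G} (hu : u ∈ M) (ho : orderOf u = 2)
    (hs : s ∉ M) (hso : orderOf s = 2) : Odd (orderOf (u * s)) := by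
  have hu2 := mul_self_of_order_two ho
  have hs2 := mul_self_of_order_two hso
  rw [← Nat.not_even_iff_odd]
  intro he
  obtain ⟨j, hj1, hcu, hcs, -⟩ := OnePoint.exists_central hu2 hs2 he
  set i := (u * s) ^ j
  have hi2 : i * i = 1 := by
    have h1 : u * i * u⁻¹ = i := mul_inv_eq_iff_eq_mul.mpr hcu.eq
    rw [← conj_pow, show u * (u * s) * u⁻¹ = (u * s)⁻¹ by
      rw [← mul_assoc, hu2, one_mul, mul_inv_rev, inv_eq_of_mul_eq_one_right hu2,
        inv_eq_of_mul_eq_one_right hs2], inv_pow] at h1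
    exact mul_eq_one_iff_inv_eq.mpr h1
  have hio : orderOf i = 2 := orderOf_eq_prime (by rw [sq]; exact hi2) hj1
  have hiM : i ∈ M := e.cent_le m hu ho (mem_centralizer_singleton_iff.mpr hcu.eq.symm)
  exact hs (e.cent_le m hiM hio (mem_centralizer_singleton_iff.mpr hcs.eq))

theorem Emb.isConj_out (e : Emb T M) (m : Min p G) {u s : G} (hu : u ∈ M) (ho : orderOf u = 2)
    (hs : s ∉ M) (hso : orderOf s = 2) : IsConj u s := by
  obtain ⟨k, hk⟩ := e.odd_out m hu ho hs hso
  have hu2 := mul_self_of_order_two ho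
  have hs2 := mul_self_of_order_two hso
  refine isConj_iff.mpr ⟨(u * s) ^ k, ?_⟩
  rw [OnePoint.conj_pow_mul hu2 hs2, eq_inv_of_mul_eq_one_left
    (a := (u * s) ^ (2 * k)) (b := u * s) (by rw [← pow_succ, ← hk, pow_orderOf_eq_one]),
    mul_inv_rev, inv_mul_cancel_right, inv_eq_of_mul_eq_one_right hs2]

/-- The involutions of `M` form one `M`-class. -/
theorem Emb.exists_conj (e : Emb T M) (m : Min p G) {u v : G} (hu : u ∈ M) (ho : orderOf u = 2)
    (hv : v ∈ M) (hvo : orderOf v = 2) : ∃ g ∈ M, g * u * g⁻¹ = v := by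
  obtain ⟨c, hc⟩ := e.exists_not_mem m hu ho
  have hso := orderOf_conj_two c ho
  obtain ⟨g, hg⟩ := isConj_iff.mp
    ((e.isConj_out m hu ho hc hso).trans (e.isConj_out m hv hvo hc hso).symm)
  exact ⟨g, e.mem_of_conj_mem m hu ho (hg ▸ hv), hg⟩

omit hp [Finite G] in
theorem not_isCyclic_of_two {A : Subgroup G} [Finite G] {t v : G} (ht : orderOf t = 2)
    (hv : orderOf v = 2) (hne : t ≠ v) (htA : t ∈ A) (hvA : v ∈ A) : ¬ IsCyclic A := by
  classical
  intro hc
  haveI := Fintype.ofFinite A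
  have h3 := IsCyclic.card_pow_eq_one_le (α := A) (show 0 < 2 by norm_num)
  have hsub : ({1, ⟨t, htA⟩, ⟨v, hvA⟩} : Finset A) ⊆ Finset.univ.filter (fun a : A => a ^ 2 = 1) := by
    intro a ha
    simp only [Finset.mem_insert, Finset.mem_singleton] at ha
    refine Finset.mem_filter.mpr ⟨Finset.mem_univ _, Subtype.ext ?_⟩
    push_cast
    rcases ha with rfl | rfl | rfl
    · simp
    · rw [sq]; exact mul_self_of_order_two ht
    · rw [sq]; exact mul_self_of_order_two hv
  have hcard : ({1, ⟨t, htA⟩, ⟨v, hvA⟩} : Finset A).card = 3 := by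
    rw [Finset.card_insert_of_notMem, Finset.card_insert_of_notMem, Finset.card_singleton]
    · simp [hne]
    · simp only [Finset.mem_insert, Finset.mem_singleton, not_or]
      exact ⟨fun h => ne_one_of_order_two ht (congrArg Subtype.val h).symm,
        fun h => ne_one_of_order_two hv (congrArg Subtype.val h).symm⟩
  have := Finset.card_le_card hsub
  omega

/-- In a proper subgroup a Sylow `2`-subgroup is normal and self-centralising modulo the odd core. -/
theorem odd_quotient (m : Min p G) {X : Subgroup G} (hX : X ≠ ⊤) (S : Sylow 2 X) :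
    ((S : Subgroup X).map (QuotientGroup.mk' (Cfsg.pPrimeCore 2 X))).Normal ∧
      centralizer ((((S : Subgroup X).map (QuotientGroup.mk' (Cfsg.pPrimeCore 2 X))) :
        Subgroup (X ⧸ Cfsg.pPrimeCore 2 X)) : Set (X ⧸ Cfsg.pPrimeCore 2 X)) ≤
        (S : Subgroup X).map (QuotientGroup.mk' (Cfsg.pPrimeCore 2 X)) := by
  haveI := m.sol X hX
  set π := QuotientGroup.mk' (Cfsg.pPrimeCore 2 X) with hπ
  have hC := CfsgLib.PLocal.centralizer_pCore_le (p := 2) (G := X ⧸ Cfsg.pPrimeCore 2 X)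
    CfsgLib.PLocal.isPSolvable_of_isSolvable
    (CfsgLib.PLocal.pPrimeCore_quotient_pPrimeCore_eq_bot 2 X)
  set Sb := (S : Subgroup X).map π with hSb
  have hO : Cfsg.pCore 2 (X ⧸ Cfsg.pPrimeCore 2 X) ≤ Sb :=
    CfsgLib.PLocal.pCore_le_sylow (S.mapSurjective (QuotientGroup.mk'_surjective _))
  have hcomm : IsMulCommutative Sb := by
    have := comm_two m (S.isPGroup'.map X.subtype)
    refine ⟨⟨?_⟩⟩
    rintro ⟨_, a, ha, rfl⟩ ⟨_, b, hb, rfl⟩
    refine Subtype.ext ?_
    show π a * π b = π b * π a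
    rw [← map_mul, ← map_mul]
    refine congrArg π (Subtype.ext ?_)
    show X.subtype a * X.subtype b = X.subtype b * X.subtype a
    exact congrArg Subtype.val (this.is_comm.comm ⟨_, mem_map_of_mem _ ha⟩ ⟨_, mem_map_of_mem _ hb⟩)
  have hle : Sb ≤ Cfsg.pCore 2 (X ⧸ Cfsg.pPrimeCore 2 X) := fun x hx => hC (mem_centralizer_iff.mpr
    fun q hq => congrArg Subtype.val (hcomm.is_comm.comm ⟨q, hO hq⟩ ⟨x, hx⟩))
  have heq : Sb = Cfsg.pCore 2 (X ⧸ Cfsg.pPrimeCore 2 X) := le_antisymm hle hO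
  rw [heq]
  exact ⟨inferInstance, hC⟩

/-- A proper subgroup containing a four-group of `M` lies in `M`. -/
theorem Emb.le_of_four (e : Emb T M) (m : Min p G) {X : Subgroup G} (hX : X ≠ ⊤) {t v : G}
    (htX : t ∈ X) (htM : t ∈ M) (ht : orderOf t = 2) (hvX : v ∈ X) (hvM : v ∈ M)
    (hv : orderOf v = 2) (hne : t ≠ v) (hcomm : t * v = v * t) : X ≤ M := by
  set A := Subgroup.closure ({t, v} : Set G) with hA
  have hAX : A ≤ X := (Subgroup.closure_le _).mpr (by rintro z (rfl | rfl) <;> assumption)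
  have hAM : A ≤ M := (Subgroup.closure_le _).mpr (by rintro z (rfl | rfl) <;> assumption)
  have hAc : ∀ a ∈ A, ∀ b ∈ A, a * b = b * a := by
    intro a ha b hb
    refine congrArg Subtype.val ((Subgroup.isMulCommutative_closure ?_).is_comm.comm
      (⟨a, ha⟩ : A) ⟨b, hb⟩)
    rintro x (rfl | rfl) y (rfl | rfl)
    exacts [rfl, hcomm, hcomm.symm, rfl]
  haveI : IsMulCommutative A := ⟨⟨fun a b => Subtype.ext (hAc a a.2 b b.2)⟩⟩
  have hA2 : ∀ a ∈ A, a * a = 1 := by
    intro a ha
    induction ha using Subgroup.closure_induction with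
    | mem z hz => rcases hz with rfl | rfl <;> exact mul_self_of_order_two (by assumption)
    | one => exact mul_one 1
    | mul a b ha hb iha ihb =>
      calc a * b * (a * b) = a * (b * a) * b := by group
        _ = a * (a * b) * b := by rw [hAc a ha b hb]
        _ = (a * a) * (b * b) := by group
        _ = 1 := by rw [iha, ihb, mul_one]
    | inv a _ iha => rw [← mul_inv_rev, iha, inv_one]
  have hAp : IsPGroup 2 A := fun a => ⟨1, Subtype.ext (by
    rw [Subgroup.coe_pow, pow_one, sq]; exact hA2 a a.2)⟩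
  obtain ⟨S, hS⟩ := (hAp.comap_subtype (K := X)).exists_le_sylow
  have hSg := comm_two m (S.isPGroup'.map X.subtype)
  have htS : (⟨t, htX⟩ : X) ∈ (S : Subgroup X) := hS (subset_closure (Or.inl rfl))
  have hSM : ∀ s ∈ (S : Subgroup X), (s : G) ∈ M := fun s hs =>
    e.cent_le m htM ht (mem_centralizer_singleton_iff.mpr
      (congrArg Subtype.val (hSg.is_comm.comm ⟨_, mem_map_of_mem _ hs⟩ ⟨_, mem_map_of_mem _ htS⟩)))
  obtain ⟨hn, -⟩ := odd_quotient m hX S
  set R := ((S : Subgroup X).map (QuotientGroup.mk' (Cfsg.pPrimeCore 2 X))).comap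
    (QuotientGroup.mk' (Cfsg.pPrimeCore 2 X)) with hR
  haveI : R.Normal := hn.comap _
  have hO : (Cfsg.pPrimeCore 2 X).map X.subtype ≤ M := by
    refine CfsgLib.Coprime.le_of_forall_inf_centralizer_le
      (A := A) (not_isCyclic_of_two ht hv hne (subset_closure (Or.inl rfl))
        (subset_closure (Or.inr rfl))) ?_ ?_ fun a ha ha1 => ?_
    · intro a ha
      refine mem_normalizer_fintype ?_
      rintro _ ⟨x, hx, rfl⟩
      exact ⟨_, (inferInstance : (Cfsg.pPrimeCore 2 X).Normal).conj_mem x hx ⟨a, hAX ha⟩, rfl⟩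
    · obtain ⟨k, hk⟩ := IsPGroup.iff_card.mp hAp
      rw [hk, Subgroup.card_map_of_injective X.subtype_injective]
      exact ((CfsgLib.PLocal.coprime_card_pPrimeCore 2 X).symm).pow_left k
    · exact inf_le_right.trans
        (e.cent_le m (hAM ha) (orderOf_eq_prime (by rw [sq]; exact hA2 a ha) ha1))
  have hRle : normalizer ((S : Subgroup X) : Set X) ⊔ R ≤ M.subgroupOf X := by
    refine sup_le (fun g hg => ?_) ?_
    · exact e.mem_of_conj_mem m htM ht (hSM _ ((mem_normalizer_iff.mp hg ⟨t, htX⟩).mp htS))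
    · rw [hR, comap_map_eq, QuotientGroup.ker_mk']
      exact sup_le hSM fun x hx => hO (mem_map_of_mem _ hx)
  intro x hx
  exact hRle ((Sylow.normalizer_sup_eq_top' S (le_comap_map _ _)).ge (mem_top (⟨x, hx⟩ : X)))

/-- Either `M` normalises `E`, or `O_{p'}(M)` has odd order. -/
theorem Emb.le_normalizer_or_odd (e : Emb T M) (m : Min p G) :
    M ≤ normalizer (invSub T : Set G) ∨ Odd (Nat.card (Cfsg.pPrimeCore p M)) := by
  rcases Nat.even_or_odd (Nat.card (Cfsg.pPrimeCore p M)) with hev | hodd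
  swap
  · exact Or.inr hodd
  left
  obtain ⟨u, hu⟩ := exists_prime_orderOf_dvd_card' (G := Cfsg.pPrimeCore p M) 2 (even_iff_two_dvd.mp hev)
  have huo : orderOf ((u : M) : G) = 2 := by rw [Subgroup.orderOf_coe, Subgroup.orderOf_coe]; exact hu
  let D := Cfsg.pPrimeCore p M
  have hDc := CfsgLib.PLocal.coprime_card_pPrimeCore p M
  have hin : ∀ v : M, orderOf (v : G) = 2 → v ∈ D := by
    intro v hv
    obtain ⟨g, hg, hge⟩ := e.exists_conj m (u : M).2 huo v.2 hv
    have := (inferInstance : D.Normal).conj_mem _ u.2 (⟨g, hg⟩ : M)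
    exact (show (⟨g, hg⟩ : M) * (u : M) * (⟨g, hg⟩ : M)⁻¹ = v from Subtype.ext hge) ▸ this
  have hmem : ∀ v : M, orderOf (v : G) = 2 → (v : G) ∈ invSub T := by
    intro v hv
    refine mem_invSub_of_orderOf m ?_ hv
    have hTv : ∀ s ∈ (T : Subgroup G), s * (v : G) = v * s := by
      intro s hs
      have hsM : s ∈ M := e.norm (le_normalizer hs)
      obtain ⟨k, hk⟩ := T.isPGroup' ⟨s, hs⟩
      have hc := mem_centralizer (ab_subgroup m.ab M) hDc (n := (⟨s, hsM⟩ : M))
        ((((Nat.coprime_primes Nat.prime_two hp.out).mpr m.two_ne.symm).pow_left k).coprime_dvd_left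
          (by
            rw [← Subgroup.orderOf_coe]
            exact orderOf_dvd_of_pow_eq_one (congrArg Subtype.val hk)))
        (by rw [normalizer_eq_top D]; exact mem_top _)
      exact (congrArg Subtype.val (mem_centralizer_iff.mp hc v (hin v hv))).symm
    have hle : zpowers (v : G) ≤ normalizer ((T : Subgroup G) : Set G) :=
      zpowers_le.mpr (centralizer_le_normalizer _ (mem_centralizer_iff.mpr hTv))
    have := T.is_maximal' (IsPGroup.to_sup_of_normal_left' T.isPGroup' (isPGroup_zpowers_two hv) hle)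
      le_sup_left
    exact this ▸ mem_sup_right (mem_zpowers _)
  intro h hh
  refine mem_normalizer_fintype fun x hx => ?_
  rcases eq_or_ne x 1 with rfl | hx1
  · simp
  · exact hmem ⟨h * x * h⁻¹, M.mul_mem (M.mul_mem hh (e.norm (le_normalizer (invSub_le T hx))))
      (M.inv_mem hh)⟩ (orderOf_conj_two h (orderOf_of_mem_invSub m hx hx1))

end CfsgLib.Techniques.AbSub
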