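import Cfsg.Agent.Techniques.AbSub.Basic
import Cfsg.Agent.Transitivity.Transitivity
import Mathlib.GroupTheory.Transfer

/-!
# A proper subgroup containing `N(T)` and the centralisers of involutions

In a minimal counterexample, `a ↦ O_p(C(a))` is a signalizer functor on the involutions of a Sylow
`2`-subgroup `T`; its closure `W` is a `p`-group and `N(W)` (or `N(T)`, if `W = 1`) contains `N(T)` and all
`C(a)`.
-/

set_option autoImplicit false

namespace CfsgLib.Techniques.AbSub

open Subgroup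

variable {p : ℕ} [hp : Fact p.Prime] {G : Type*} [Group G] [Finite G]

/-- A simple non-solvable group all whose proper subgroups are solvable. -/
structure Min (p : ℕ) (G : Type*) [Group G] : Prop where
  five : 5 ≤ p
  ab : Ab p G
  simple : IsSimpleGroup G
  nsol : ¬ Group.IsSolvable G
  sol : ∀ H : Subgroup G, H ≠ ⊤ → Group.IsSolvable H

theorem Min.two_ne (m : Min p G) : p ≠ 2 := by
  have := m.five
  omega

omit [Finite G] hp in
theorem Min.centralizer_ne_top (m : Min p G) {x : G} (hx : x ≠ 1) :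
    centralizer ({x} : Set G) ≠ ⊤ := by
  intro h
  have hxc : x ∈ center G := mem_center_iff.mpr fun g =>
    mem_centralizer_singleton_iff.mp (h ▸ mem_top g : g ∈ centralizer ({x} : Set G))
  rcases m.simple.eq_bot_or_eq_top_of_normal (center G) inferInstance with hc | hc
  · exact hx (by rwa [hc, mem_bot] at hxc)
  · refine m.nsol (Group.isSolvable_of_comm fun a b => ?_)
    exact (mem_center_iff.mp (hc ▸ mem_top b) a)

omit [Finite G] hp in
theorem Min.normalizer_ne_top (m : Min p G) {H : Subgroup G} (hH : H ≠ ⊥) (hH' : H ≠ ⊤) :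
    normalizer (H : Set G) ≠ ⊤ := by
  intro h
  have := normalizer_eq_top_iff.mp h
  rcases m.simple.eq_bot_or_eq_top_of_normal H this with hc | hc
  exacts [hH hc, hH' hc]

omit [Finite G] hp in
theorem Min.isPGroup_ne_top [Finite G] (m : Min p G) {q : ℕ} [Fact q.Prime] {H : Subgroup G}
    (hH : IsPGroup q H) : H ≠ ⊤ := by
  rintro rfl
  have := (hH.of_equiv Subgroup.topEquiv).isNilpotent
  exact m.nsol inferInstance

variable [h2 : Fact (Nat.Prime 2)]

theorem coprime_two (m : Min p G) {U : Subgroup G} (hU : IsPGroup 2 U) : (Nat.card U).Coprime p := by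
  obtain ⟨k, hk⟩ := IsPGroup.iff_card.mp hU
  rw [hk]
  exact ((Nat.coprime_primes Nat.prime_two hp.out).mpr m.two_ne.symm).pow_left k

theorem comm_two (m : Min p G) {U : Subgroup G} (hU : IsPGroup 2 U) : IsMulCommutative U :=
  m.ab U (coprime_two m hU)

theorem T_comm (m : Min p G) (T : Sylow 2 G) {a b : G} (ha : a ∈ (T : Subgroup G))
    (hb : b ∈ (T : Subgroup G)) : a * b = b * a :=
  m.ab.comm (coprime_two m T.isPGroup') ha hb

/-- The involutions of `T` with `1`. -/
def invSub (T : Sylow 2 G) : Subgroup G :=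
  Subgroup.closure {x : G | x ∈ (T : Subgroup G) ∧ x * x = 1}

theorem invSub_le (T : Sylow 2 G) : invSub T ≤ (T : Subgroup G) :=
  (Subgroup.closure_le _).mpr fun _ hx => hx.1

theorem mem_invSub (m : Min p G) {T : Sylow 2 G} {x : G} :
    x ∈ invSub T ↔ x ∈ (T : Subgroup G) ∧ x * x = 1 := by
  refine ⟨fun hx => ⟨invSub_le T hx, ?_⟩, fun h => subset_closure h⟩
  induction hx using Subgroup.closure_induction with
  | mem z hz => exact hz.2
  | one => exact mul_one 1
  | mul a b ha hb iha ihb =>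
    have hc := T_comm m T (invSub_le T ha) (invSub_le T hb)
    calc a * b * (a * b) = a * (b * a) * b := by group
      _ = a * (a * b) * b := by rw [hc]
      _ = (a * a) * (b * b) := by group
      _ = 1 := by rw [iha, ihb, mul_one]
  | inv a _ iha => rw [← mul_inv_rev, iha, inv_one]

theorem orderOf_of_mem_invSub (m : Min p G) {T : Sylow 2 G} {x : G} (hx : x ∈ invSub T) (h1 : x ≠ 1) :
    orderOf x = 2 :=
  orderOf_eq_prime (by rw [sq]; exact ((mem_invSub m).mp hx).2) h1

theorem mem_invSub_of_orderOf (m : Min p G) {T : Sylow 2 G} {x : G} (hx : x ∈ (T : Subgroup G))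
    (h : orderOf x = 2) : x ∈ invSub T :=
  (mem_invSub m).mpr ⟨hx, by rw [← sq, ← h]; exact pow_orderOf_eq_one x⟩

theorem normalizer_le_normalizer_invSub (m : Min p G) (T : Sylow 2 G) :
    normalizer ((T : Subgroup G) : Set G) ≤ normalizer (invSub T : Set G) := by
  intro n hn
  refine mem_normalizer_fintype fun x hx => ?_
  obtain ⟨hxT, hx2⟩ := (mem_invSub m).mp hx
  refine (mem_invSub m).mpr ⟨(mem_normalizer_iff.mp hn x).mp hxT, ?_⟩
  rw [show n * x * n⁻¹ * (n * x * n⁻¹) = n * (x * x) * n⁻¹ by group, hx2, mul_one, mul_inv_cancel]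

theorem pow_mem_centralizer (m : Min p G) (T : Sylow 2 G) {n : G}
    (hn : n ∈ normalizer ((T : Subgroup G) : Set G)) :
    ∃ k, n ^ p ^ k ∈ centralizer ((T : Subgroup G) : Set G) := by
  obtain ⟨k, w, hw, hk⟩ := Nat.exists_eq_pow_mul_and_not_dvd (orderOf_pos n).ne' p hp.out.ne_one
  refine ⟨k, mem_centralizer m.ab (coprime_two m T.isPGroup') ?_ (pow_mem hn _)⟩
  rw [orderOf_pow_of_dvd (pow_ne_zero _ hp.out.ne_zero) (hk ▸ dvd_mul_right _ _), hk,
    Nat.mul_div_cancel_left _ (pow_pos hp.out.pos k)]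
  exact (hp.out.coprime_iff_not_dvd.mpr hw).symm

theorem exists_not_mem_centralizer (m : Min p G) (T : Sylow 2 G) (hT : (T : Subgroup G) ≠ ⊥) :
    ∃ n ∈ normalizer ((T : Subgroup G) : Set G), n ∉ centralizer ((T : Subgroup G) : Set G) := by
  by_contra! h
  set K := (MonoidHom.transferSylow T h).ker
  have hK := MonoidHom.ker_transferSylow_isComplement' T h
  rcases m.simple.eq_bot_or_eq_top_of_normal K (MonoidHom.normal_ker _) with hc | hc
  · rw [show (MonoidHom.transferSylow T h).ker = K from rfl, hc, isComplement'_bot_left] at hK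
    exact m.isPGroup_ne_top T.isPGroup' hK
  · rw [show (MonoidHom.transferSylow T h).ker = K from rfl, hc, isComplement'_top_left] at hK
    exact hT hK

/-- `T` has at least `2³` elements squaring to `1`. -/
theorem card_invSub (m : Min p G) (T : Sylow 2 G) (hT : (T : Subgroup G) ≠ ⊥) :
    2 ^ 3 ≤ Nat.card (invSub T) := by
  obtain ⟨n0, hn0, hn0c⟩ := exists_not_mem_centralizer m T hT
  obtain ⟨k, hk⟩ := pow_mem_centralizer m T hn0
  -- an element of odd order doing the same
  obtain ⟨i, w, hw, hi⟩ := Nat.exists_eq_pow_mul_and_not_dvd (orderOf_pos n0).ne' p hp.out.ne_one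
  set n := n0 ^ w with hn
  have hnN : n ∈ normalizer ((T : Subgroup G) : Set G) := pow_mem hn0 w
  have hnp : n ^ p ^ i = 1 := by rw [hn, ← pow_mul, mul_comm, ← hi, pow_orderOf_eq_one]
  have hodd : Odd (orderOf n) :=
    ((hp.out.odd_of_ne_two m.two_ne).pow).of_dvd_nat (orderOf_dvd_of_pow_eq_one hnp)
  have hnc : n ∉ centralizer ((T : Subgroup G) : Set G) := by
    intro hc
    have hcop : Nat.Coprime w (p ^ k) := (hp.out.coprime_iff_not_dvd.mpr hw).symm.pow_right k
    have huv := (Nat.gcd_eq_gcd_ab w (p ^ k)).symm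
    rw [hcop.gcd_eq_one, Nat.cast_one] at huv
    set u := Nat.gcdA w (p ^ k)
    set v := Nat.gcdB w (p ^ k)
    apply hn0c
    have : n0 = (n0 ^ w) ^ u * (n0 ^ p ^ k) ^ v := by
      rw [← zpow_natCast n0 w, ← zpow_natCast n0 (p ^ k), ← zpow_mul, ← zpow_mul, ← zpow_add, huv, zpow_one]
    rw [this]
    exact mul_mem (zpow_mem hc _) (zpow_mem hk _)
  haveI := comm_two m T.isPGroup'
  obtain ⟨v, hvT, hv, hvn⟩ : ∃ v ∈ (T : Subgroup G), orderOf v = 2 ∧ n * v ≠ v * n := by
    by_contra! h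
    exact hnc (centralizes_of_invol T.isPGroup' hnN hodd h)
  -- the orbit of `v`
  have hvE := mem_invSub_of_orderOf m hvT hv
  let f : Fin p → invSub T := fun j => ⟨n ^ (j : ℕ) * v * (n ^ (j : ℕ))⁻¹,
    (mem_normalizer_iff.mp (pow_mem (normalizer_le_normalizer_invSub m T hnN) _) v).mp hvE⟩
  have hcomm : ∀ d : ℕ, 0 < d → d < p → ¬ Commute (n ^ d) v := by
    intro d hd hdp hc
    have hcop : Nat.Coprime (p ^ i) d := Nat.Coprime.pow_left _
      (hp.out.coprime_iff_not_dvd.mpr (Nat.not_dvd_of_pos_of_lt hd hdp))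
    have huv := (Nat.gcd_eq_gcd_ab (p ^ i) d).symm
    rw [hcop.gcd_eq_one, Nat.cast_one] at huv
    set u := Nat.gcdA (p ^ i) d
    set u' := Nat.gcdB (p ^ i) d
    apply hvn
    have : n = (n ^ d) ^ u' := by
      calc n = n ^ (((p ^ i : ℕ) : ℤ) * u + (d : ℤ) * u') := by rw [huv, zpow_one]
        _ = _ := by rw [zpow_add, zpow_mul, zpow_mul, zpow_natCast, hnp, one_zpow, one_mul, zpow_natCast]
    rw [this]
    exact (hc.zpow_left u').eq
  have hinj : Function.Injective f := by
    have key : ∀ a b : Fin p, (a : ℕ) < b → f a ≠ f b := by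
      intro a b hab he
      refine hcomm ((b : ℕ) - a) (by omega) (by have := b.2; omega) ?_
      have he' : n ^ (a : ℕ) * v * (n ^ (a : ℕ))⁻¹ = n ^ (b : ℕ) * v * (n ^ (b : ℕ))⁻¹ :=
        congrArg Subtype.val he
      rw [show n ^ (b : ℕ) = n ^ (a : ℕ) * n ^ ((b : ℕ) - a) by rw [← pow_add]; congr 1; omega] at he'
      refine (mul_inv_eq_iff_eq_mul.mp ?_)
      calc n ^ ((b : ℕ) - a) * v * (n ^ ((b : ℕ) - a))⁻¹
          = (n ^ (a : ℕ))⁻¹ * (n ^ (a : ℕ) * n ^ ((b : ℕ) - a) * v *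
              (n ^ (a : ℕ) * n ^ ((b : ℕ) - a))⁻¹) * n ^ (a : ℕ) := by group
        _ = v := by rw [← he']; group
    intro a b he
    rcases lt_trichotomy (a : ℕ) b with h | h | h
    · exact absurd he (key a b h)
    · exact Fin.ext h
    · exact absurd he.symm (key b a h)
  have hle := Nat.card_le_card_of_injective f hinj
  rw [Nat.card_fin] at hle
  obtain ⟨j, hj⟩ := IsPGroup.iff_card.mp (T.isPGroup'.to_le (invSub_le T))
  rw [hj] at hle ⊢
  have := m.five
  refine Nat.pow_le_pow_right two_pos ?_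
  by_contra hlt
  have := Nat.pow_le_pow_right two_pos (show j ≤ 2 by omega)
  omega

omit h2 in
/-- `O_p(C(a))`. -/
def theta (p : ℕ) {G : Type*} [Group G] (a : G) : Subgroup G :=
  (Cfsg.pCore p (centralizer ({a} : Set G))).map (centralizer ({a} : Set G)).subtype

omit h2 in
theorem isPGroup_theta (a : G) : IsPGroup p (theta p a) :=
  (CfsgLib.PLocal.isPGroup_pCore p _).map _

omit h2 in
theorem centralizer_le_normalizer_theta (a : G) :
    centralizer ({a} : Set G) ≤ normalizer (theta p a : Set G) := by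
  intro c hc
  refine mem_normalizer_fintype ?_
  rintro _ ⟨x, hx, rfl⟩
  exact ⟨_, (inferInstance : (Cfsg.pCore p (centralizer ({a} : Set G))).Normal).conj_mem x hx ⟨c, hc⟩, rfl⟩

omit h2 in
theorem theta_conj (a n : G) :
    (theta p a).map (MulAut.conj n).toMonoidHom ≤ theta p (n * a * n⁻¹) := by
  set C := centralizer ({a} : Set G)
  set C' := centralizer ({n * a * n⁻¹} : Set G)
  let e : C →* C' :=
    { toFun := fun x => ⟨n * x * n⁻¹, mem_centralizer_singleton_iff.mpr (by
        have := mem_centralizer_singleton_iff.mp x.2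
        calc n * x * n⁻¹ * (n * a * n⁻¹) = n * (x * a) * n⁻¹ := by group
          _ = n * (a * x) * n⁻¹ := by rw [this]
          _ = n * a * n⁻¹ * (n * x * n⁻¹) := by group)⟩
      map_one' := Subtype.ext (by simp)
      map_mul' := fun x y => Subtype.ext (by simp [mul_assoc]) }
  have he : Function.Surjective e := by
    rintro ⟨y, hy⟩
    refine ⟨⟨n⁻¹ * y * n, mem_centralizer_singleton_iff.mpr ?_⟩, Subtype.ext (by simp [e, mul_assoc])⟩
    have := mem_centralizer_singleton_iff.mp hy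
    calc n⁻¹ * y * n * a = n⁻¹ * (y * (n * a * n⁻¹)) * n := by group
      _ = n⁻¹ * (n * a * n⁻¹ * y) * n := by rw [this]
      _ = a * (n⁻¹ * y * n) := by group
  rintro _ ⟨_, ⟨x, hx, rfl⟩, rfl⟩
  exact ⟨e x, CfsgLib.PLocal.map_pCore_le_of_surjective he (mem_map_of_mem _ hx), rfl⟩

/-- Modulo `O_p`, a Sylow `2`-subgroup of a proper subgroup is normal. -/
theorem quotient_sylow_normal (m : Min p G) {Y : Subgroup G} (hY : Y ≠ ⊤) (S : Sylow 2 Y) :
    (((S : Subgroup Y).map (QuotientGroup.mk' (Cfsg.pCore p Y))).Normal ∧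
      (S : Subgroup Y).map (QuotientGroup.mk' (Cfsg.pCore p Y)) ≤
        Cfsg.pPrimeCore p (Y ⧸ Cfsg.pCore p Y)) ∧ Ab p (Y ⧸ Cfsg.pCore p Y) := by
  haveI := m.sol Y hY
  have hq : Ab p (Y ⧸ Cfsg.pCore p Y) :=
    ab_quotient (ab_subgroup m.ab Y) _ (Or.inl (CfsgLib.PLocal.isPGroup_pCore p Y))
  exact ⟨sylow_two_normal hq m.two_ne (CfsgLib.PLocal.pCore_quotient_pCore_eq_bot p Y)
    (S.mapSurjective (QuotientGroup.mk'_surjective _)), hq⟩

/-- A subgroup containing `O_p(C(a))` and `N(T)` contains `C(a)`. -/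
theorem centralizer_le (m : Min p G) {T : Sylow 2 G} {a : G} (ha : a ∈ (T : Subgroup G)) (ha1 : a ≠ 1)
    {M : Subgroup G} (hθ : theta p a ≤ M) (hN : normalizer ((T : Subgroup G) : Set G) ≤ M) :
    centralizer ({a} : Set G) ≤ M := by
  set Y := centralizer ({a} : Set G) with hY
  have hTY : (T : Subgroup G) ≤ Y := fun x hx =>
    mem_centralizer_singleton_iff.mpr (T_comm m T hx ha)
  set S : Sylow 2 Y := T.subtype hTY
  obtain ⟨⟨hn, -⟩, -⟩ := quotient_sylow_normal m (m.centralizer_ne_top ha1) S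
  set Q := Cfsg.pCore p Y
  set R := ((S : Subgroup Y).map (QuotientGroup.mk' Q)).comap (QuotientGroup.mk' Q) with hR
  haveI : R.Normal := hn.comap _
  have hRe : R = Q ⊔ (S : Subgroup Y) := by
    rw [hR, comap_map_eq, QuotientGroup.ker_mk', sup_comm]
  intro y hy
  have hSR : (S : Subgroup Y) ≤ R := le_comap_map _ _
  have := (Sylow.normalizer_sup_eq_top' S hSR).ge (mem_top (⟨y, hy⟩ : Y))
  have hle : normalizer ((S : Subgroup Y) : Set Y) ⊔ R ≤ M.subgroupOf Y := by
    rw [hRe]
    refine sup_le ?_ (sup_le (fun q hq => hθ (mem_map_of_mem _ hq)) fun s hs => hN (le_normalizer hs))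
    intro z hz
    refine hN (mem_normalizer_iff.mpr fun x => ⟨fun hx => ?_, fun hx => ?_⟩)
    · exact (mem_normalizer_iff.mp hz ⟨x, hTY hx⟩).mp hx
    · have hxY : x ∈ Y := by
        have := Y.mul_mem (Y.mul_mem (Y.inv_mem z.2) (hTY hx)) z.2
        simpa [mul_assoc] using this
      exact (mem_normalizer_iff.mp hz ⟨x, hxY⟩).mpr hx
  exact hle this

theorem theta_balance (m : Min p G) {T : Sylow 2 G} {a b : G} (ha : a ∈ (T : Subgroup G))
    (hb : b ∈ (T : Subgroup G)) (hb1 : b ≠ 1) :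
    theta p a ⊓ centralizer ({b} : Set G) ≤ theta p b := by
  set Y := centralizer ({b} : Set G) with hY
  have hTY : (T : Subgroup G) ≤ Y := fun x hx =>
    mem_centralizer_singleton_iff.mpr (T_comm m T hx hb)
  set S : Sylow 2 Y := T.subtype hTY
  obtain ⟨⟨hn, hSF⟩, hq⟩ := quotient_sylow_normal m (m.centralizer_ne_top hb1) S
  set π := QuotientGroup.mk' (Cfsg.pCore p Y) with hπ
  set F := Cfsg.pPrimeCore p (Y ⧸ Cfsg.pCore p Y) with hF
  haveI := m.sol Y (m.centralizer_ne_top hb1)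
  have hFc := CfsgLib.PLocal.coprime_card_pPrimeCore p (Y ⧸ Cfsg.pCore p Y)
  have hdisj : ∀ U : Subgroup (Y ⧸ Cfsg.pCore p Y), IsPGroup p U → U ⊓ F = ⊥ := fun U hU =>
    CfsgLib.PLocal.disjoint_of_isPGroup_of_coprime hU hFc
  set X : Subgroup Y := (theta p a ⊓ Y).subgroupOf Y with hX
  have hXp : IsPGroup p (X.map π) :=
    (((isPGroup_theta (p := p) a).to_le inf_le_left).comap_subtype (K := Y)).map π
  have hcent : X.map π ≤ centralizer (F : Set (Y ⧸ Cfsg.pCore p Y)) := by
    intro z hz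
    rw [mem_centralizer_iff]
    intro f hf
    obtain ⟨y, rfl⟩ := QuotientGroup.mk'_surjective _ f
    -- adjust the preimage into `N(S)`
    set R := ((S : Subgroup Y).map π).comap π with hR
    haveI : R.Normal := hn.comap _
    have hSR : (S : Subgroup Y) ≤ R := le_comap_map _ _
    obtain ⟨u, hu, r, hr, hur⟩ := mem_sup_of_normal_right.mp
      ((Sylow.normalizer_sup_eq_top' S hSR).ge (mem_top y))
    have huF : π u ∈ F := by
      have hr' : π r ∈ F := hSF hr
      have := F.mul_mem hf (F.inv_mem hr')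
      rwa [← hur, map_mul, mul_inv_cancel_right] at this
    have huc : ∀ s ∈ (S : Subgroup Y), u * s = s * u := by
      intro s hs
      have h1 : π (u * s * u⁻¹ * s⁻¹) = 1 := by
        rw [map_mul, map_mul, map_mul, map_inv, map_inv,
          hq.comm hFc huF (hSF (mem_map_of_mem π hs)), mul_inv_cancel_right, mul_inv_cancel]
      have h2 : u * s * u⁻¹ * s⁻¹ ∈ (S : Subgroup Y) ⊓ Cfsg.pCore p Y :=
        ⟨(S : Subgroup Y).mul_mem ((mem_normalizer_iff.mp hu s).mp hs) ((S : Subgroup Y).inv_mem hs),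
          (QuotientGroup.eq_one_iff _).mp h1⟩
      rw [IsPGroup.disjoint_of_ne 2 p m.two_ne.symm _ _ S.isPGroup'
        (CfsgLib.PLocal.isPGroup_pCore p Y) |>.eq_bot, mem_bot] at h2
      exact mul_inv_eq_iff_eq_mul.mp (mul_inv_eq_one.mp h2)
    have hua : (u : G) ∈ centralizer ({a} : Set G) :=
      mem_centralizer_singleton_iff.mpr (congrArg Subtype.val (huc ⟨a, hTY ha⟩ ha))
    have hzc : ∀ z ∈ X.map π, π u * z = z * π u := by
      intro z hz
      obtain ⟨x, hx, rfl⟩ := hz
      have hx' : u * x * u⁻¹ ∈ X :=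
        ⟨(mem_normalizer_iff.mp (centralizer_le_normalizer_theta a hua) _).mp hx.1,
          (u * x * u⁻¹).2⟩
      have h1 : π u * π x * (π u)⁻¹ * (π x)⁻¹ ∈ X.map π ⊓ F := by
        refine ⟨?_, ?_⟩
        · rw [← map_inv, ← map_inv, ← map_mul, ← map_mul, ← map_mul]
          exact mem_map_of_mem π (X.mul_mem hx' (X.inv_mem hx))
        · rw [mul_assoc, mul_assoc, ← mul_assoc (π x)]
          exact F.mul_mem huF ((inferInstance : F.Normal).conj_mem _ (F.inv_mem huF) _)
      rw [hdisj _ hXp, mem_bot] at h1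
      exact mul_inv_eq_iff_eq_mul.mp (mul_inv_eq_one.mp h1)
    have hr1 : ∀ z ∈ X.map π, π r * z = z * π r := by
      intro z hz
      obtain ⟨x, hx, rfl⟩ := hz
      obtain ⟨s, hs, hsr⟩ := hr
      have hsa : (s : G) ∈ centralizer ({a} : Set G) :=
        mem_centralizer_singleton_iff.mpr (T_comm m T hs ha)
      have hx' : s * x * s⁻¹ ∈ X :=
        ⟨(mem_normalizer_iff.mp (centralizer_le_normalizer_theta a hsa) _).mp hx.1, (s * x * s⁻¹).2⟩
      have h1 : π s * π x * (π s)⁻¹ * (π x)⁻¹ ∈ X.map π ⊓ F := by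
        refine ⟨?_, ?_⟩
        · rw [← map_inv, ← map_inv, ← map_mul, ← map_mul, ← map_mul]
          exact mem_map_of_mem π (X.mul_mem hx' (X.inv_mem hx))
        · rw [mul_assoc, mul_assoc, ← mul_assoc (π x)]
          exact F.mul_mem (hSF (mem_map_of_mem π hs))
            ((inferInstance : F.Normal).conj_mem _ (F.inv_mem (hSF (mem_map_of_mem π hs))) _)
      rw [hdisj _ hXp, mem_bot] at h1
      rw [← hsr]
      exact mul_inv_eq_iff_eq_mul.mp (mul_inv_eq_one.mp h1)
    rw [← hur, map_mul, mul_assoc, hr1 z hz, ← mul_assoc, hzc z hz, mul_assoc]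
  intro x hx
  have h1 : π ⟨x, hx.2⟩ ∈ X.map π := mem_map_of_mem π (show (⟨x, hx.2⟩ : Y) ∈ X from hx)
  have h2 : π ⟨x, hx.2⟩ ∈ X.map π ⊓ F := ⟨h1, Cfsg.Agent.S3754.centralizer_pPrimeCore_le
    CfsgLib.PLocal.isPSolvable_of_isSolvable (CfsgLib.PLocal.pCore_quotient_pCore_eq_bot p Y) (hcent h1)⟩
  rw [hdisj _ hXp, mem_bot] at h2
  exact ⟨⟨x, hx.2⟩, (QuotientGroup.eq_one_iff _).mp h2, rfl⟩

/-- A proper subgroup containing `N(T)` and all centralisers of involutions of `T`. -/
theorem exists_local (m : Min p G) (T : Sylow 2 G) (hT : (T : Subgroup G) ≠ ⊥) :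
    ∃ M : Subgroup G, M ≠ ⊤ ∧ normalizer ((T : Subgroup G) : Set G) ≤ M ∧
      (∀ a ∈ invSub T, a ≠ 1 → centralizer ({a} : Set G) ≤ M) ∧
      (M ≤ normalizer (invSub T : Set G) ∨
        ∃ W : Subgroup G, W ≠ ⊥ ∧ IsPGroup p W ∧ W ≤ M ∧ M ≤ normalizer (W : Set G)) := by
  set A := invSub T with hA
  have hAT := invSub_le T
  have hel : Cfsg.IsElementaryAbelian 2 A :=
    ⟨comm_two m (T.isPGroup'.to_le hAT), fun a ha => by rw [sq]; exact ((mem_invSub m).mp ha).2⟩
  have hθ : Cfsg.IsSolvableSignalizerFunctor 2 A (theta p) := by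
    refine ⟨⟨fun a _ _ => map_subtype_le _, fun a _ _ => ?_, fun a ha _ b hb x hx => ?_,
      fun a ha _ b hb hb1 => theta_balance m (hAT ha) (hAT hb) hb1⟩, fun a _ _ => ?_⟩
    · obtain ⟨k, hk⟩ := IsPGroup.iff_card.mp (isPGroup_theta (p := p) a)
      rw [hk]
      exact fun hd => m.two_ne
        ((Nat.prime_dvd_prime_iff_eq Nat.prime_two hp.out).mp (Nat.prime_two.dvd_of_dvd_pow hd)).symm
    · exact (mem_normalizer_iff.mp (centralizer_le_normalizer_theta a
        (mem_centralizer_singleton_iff.mpr (T_comm m T (hAT hb) (hAT ha)))) x).mp hx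
    · have := (isPGroup_theta (p := p) a).isNilpotent
      infer_instance
  have hA3 := card_invSub m T hT
  obtain ⟨a₀, ha₀, ha₀1⟩ : ∃ a ∈ A, a ≠ 1 := by
    by_contra! h
    rw [← hA, (Subgroup.eq_bot_iff_forall A).mpr h, Subgroup.card_bot] at hA3
    omega
  obtain ⟨Q, -, hQ⟩ := CfsgLib.Transitivity.exists_maximalMember_ge
    (CfsgLib.Transitivity.mem_family_theta hθ ha₀ ha₀1) (isPGroup_theta (p := p) a₀)
  have hθQ : ∀ a ∈ A, a ≠ 1 → theta p a ≤ Q := by
    intro a ha ha1
    obtain ⟨c, hc, S, hS⟩ := CfsgLib.Transitivity.exists_sylow_map_eq_conj_inf hel hA3 hθ hQ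
      (CfsgLib.Transitivity.mem_family_theta hθ ha ha1)
    have htop : (S : Subgroup ↥(theta p a)) = ⊤ :=
      (S.is_maximal' ((isPGroup_theta (p := p) a).to_subgroup ⊤) le_top).symm
    rw [htop, ← MonoidHom.range_eq_map, Subgroup.range_subtype] at hS
    intro x hx
    have hcx : c * x * c⁻¹ ∈ theta p a :=
      mul_mem (mul_mem (CfsgLib.Transitivity.mem_signalizerInf.mp hc a ha ha1) hx)
        (inv_mem (CfsgLib.Transitivity.mem_signalizerInf.mp hc a ha ha1))
    obtain ⟨y, hy, hye⟩ := (Subgroup.mem_inf.mp (hS.le hcx)).1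
    simp only [MulEquiv.coe_toMonoidHom, MulAut.conj_apply, mul_left_inj, mul_right_inj] at hye
    exact hye ▸ hy
  set W : Subgroup G := ⨆ a : {a : G // a ∈ A ∧ a ≠ 1}, theta p (a : G) with hW
  have hWp : IsPGroup p W := hQ.2.1.to_le (iSup_le fun a => hθQ a a.2.1 a.2.2)
  have hθW : ∀ a ∈ A, a ≠ 1 → theta p a ≤ W := fun a ha ha1 =>
    le_iSup (fun a : {a : G // a ∈ A ∧ a ≠ 1} => theta p (a : G)) ⟨a, ha, ha1⟩
  by_cases hWb : W = ⊥
  · refine ⟨normalizer ((T : Subgroup G) : Set G), m.normalizer_ne_top hT (m.isPGroup_ne_top T.isPGroup'),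
      le_rfl, fun a ha ha1 => centralizer_le m (hAT ha) ha1 ?_ le_rfl,
      Or.inl (normalizer_le_normalizer_invSub m T)⟩
    exact ((hθW a ha ha1).trans hWb.le).trans bot_le
  · have hTW : normalizer ((T : Subgroup G) : Set G) ≤ normalizer (W : Set G) := by
      intro n hn
      refine mem_normalizer_fintype fun x hx => ?_
      have hle : W.map (MulAut.conj n).toMonoidHom ≤ W := by
        rw [hW, Subgroup.map_iSup]
        refine iSup_le fun a => (theta_conj (p := p) (a : G) n).trans ?_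
        refine hθW _ ((mem_normalizer_iff.mp (normalizer_le_normalizer_invSub m T hn) _).mp a.2.1) ?_
        intro h1
        exact a.2.2 (by simpa using h1)
      exact hle (mem_map_of_mem _ hx)
    exact ⟨normalizer (W : Set G), m.normalizer_ne_top hWb (m.isPGroup_ne_top hWp), hTW,
      fun a ha ha1 => centralizer_le m (hAT ha) ha1 ((hθW a ha ha1).trans le_normalizer) hTW,
      Or.inr ⟨W, hWb, hWp, le_normalizer, le_rfl⟩⟩

end CfsgLib.Techniques.AbSub
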