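import Cfsg.Agent.Techniques.AbSub.Local
import Cfsg.Agent.Techniques.SLFree
import Cfsg.Agent.Techniques.StableQuotient
import Cfsg.Agent.Transfer.Fusion
import Cfsg.Agent.Solvable.Hall
import Mathlib.Data.Nat.Factorial.Basic

/-!
# Minimal counterexamples of odd order: basic facts
-/

set_option autoImplicit false

universe u

namespace CfsgLib.Techniques.AbSub

open Subgroup CfsgLib.ConjFunctor
open scoped CfsgLib.ConjFunctor commutatorElement

variable {p : ℕ} [hp : Fact p.Prime] {G : Type u} [Group G] [Finite G]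

/-- A minimal counterexample of odd order, with the exponent hypothesis. -/
structure OMin (p : ℕ) (G : Type*) [Group G] : Prop extends Min p G where
  odd : Odd (Nat.card G)
  expo : ∀ x : G, (orderOf x).Coprime p → x ^ (p - 1) = 1

theorem OMin.prime_facts (m : OMin p G) {q : ℕ} (hq : q.Prime) (hqp : q ≠ p) (hd : q ∣ Nat.card G) :
    q ≠ 2 ∧ q ∣ p - 1 ∧ q + 1 < p := by
  haveI := Fact.mk hq
  have hq2 : q ≠ 2 := by
    rintro rfl
    exact (m.odd.of_dvd_nat hd).not_two_dvd_nat dvd_rfl
  obtain ⟨x, hx⟩ := exists_prime_orderOf_dvd_card' q hd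
  have h1 : q ∣ p - 1 := hx ▸ orderOf_dvd_of_pow_eq_one
    (m.expo x (hx ▸ (Nat.coprime_primes hq hp.out).mpr hqp))
  refine ⟨hq2, h1, ?_⟩
  have hev : 2 ∣ p - 1 := even_iff_two_dvd.mp (Nat.Odd.sub_odd (hp.out.odd_of_ne_two (by
    have := m.five; omega)) odd_one)
  have h2 := Nat.le_of_dvd (by have := m.five; omega)
    (((Nat.coprime_primes hq Nat.prime_two).mpr hq2).mul_dvd_of_dvd_of_dvd h1 hev)
  have := hq.two_le
  omega

/-- A cyclic subgroup of order prime to `p` has fewer than `p` elements. -/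
theorem OMin.card_lt_of_isCyclic (m : OMin p G) {A : Subgroup G} (hA : (Nat.card A).Coprime p)
    (hc : IsCyclic A) : Nat.card A < p := by
  obtain ⟨g, hg⟩ := hc.exists_ofOrder_eq_natCard
  have h1 : orderOf (g : G) = Nat.card A := by rw [Subgroup.orderOf_coe, hg]
  have := Nat.le_of_dvd (by have := m.five; omega)
    (h1 ▸ orderOf_dvd_of_pow_eq_one (m.expo (g : G) (h1 ▸ hA)))
  have := hp.out.one_lt
  omega

/-- A `p`-element fixes every subgroup with fewer than `p` elements that it normalises. -/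
theorem mem_centralizer_of_card_lt {A : Subgroup G} (hA : Nat.card A < p) {n : G} {k : ℕ}
    (hn : n ^ p ^ k = 1) (hnA : n ∈ normalizer (A : Set G)) : n ∈ centralizer (A : Set G) := by
  classical
  haveI := Fintype.ofFinite A
  let φ : normalizer (A : Set G) →* MulAut A := A.normalizerMonoidHom
  set σ : Equiv.Perm A := MulAut.toPerm A (φ ⟨n, hnA⟩) with hσ
  have h1 : orderOf σ ∣ p ^ k := orderOf_dvd_of_pow_eq_one (by
    rw [hσ, ← map_pow, ← map_pow, show (⟨n, hnA⟩ : normalizer (A : Set G)) ^ p ^ k = 1 from Subtype.ext hn,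
      map_one, map_one])
  have h2 : orderOf σ ∣ (Nat.card A).factorial := by
    rw [← Nat.card_perm]; exact orderOf_dvd_natCard σ
  obtain ⟨j, -, hj⟩ := (Nat.dvd_prime_pow hp.out).mp h1
  rcases j with _ | j
  · rw [pow_zero, orderOf_eq_one_iff] at hj
    refine mem_centralizer_iff.mpr fun a ha => ?_
    have h3 : n * a * n⁻¹ = a := congrArg Subtype.val (congrArg (fun f : Equiv.Perm A => f ⟨a, ha⟩) hj)
    exact (mul_inv_eq_iff_eq_mul.mp h3).symm
  · exact absurd ((hp.out.dvd_factorial).mp ((hj ▸ dvd_pow_self p j.succ_ne_zero).trans h2)) (by omega)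

omit hp in
theorem not_solvable_false {K : Type*} [Group K] (m : Min p G) (f : G →* K)
    (hK : ∀ a b : K, a * b = b * a) {x : G} (hx : f x ≠ 1) : False := by
  rcases m.simple.eq_bot_or_eq_top_of_normal f.ker inferInstance with h | h
  · refine m.nsol (Group.isSolvable_of_comm fun a b => ?_)
    exact (MonoidHom.ker_eq_bot_iff f).mp h (by rw [map_mul, map_mul, hK])
  · exact hx (MonoidHom.mem_ker.mp (h ▸ mem_top x))

/-- An element of an abelian Sylow subgroup fused only with itself would split off. -/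
theorem Min.transfer_false (m : Min p G) {r : ℕ} [Fact r.Prime] (R : Sylow r G)
    (hR : IsMulCommutative (R : Subgroup G)) {x : G} (hx : x ∈ (R : Subgroup G)) (hx1 : x ≠ 1)
    (key : ∀ (k : ℕ) (g : G), g⁻¹ * x ^ k * g ∈ (R : Subgroup G) → g⁻¹ * x ^ k * g = x ^ k) :
    False := by
  letI : CommGroup (R : Subgroup G) := { (inferInstance : Group (R : Subgroup G)) with
    mul_comm := fun a b => hR.is_comm.comm a b }
  refine not_solvable_false m (MonoidHom.transfer (MonoidHom.id (R : Subgroup G))) mul_comm (x := x) ?_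
  rw [MonoidHom.transfer_eq_pow _ x key]
  intro h
  have h1 : x ^ (R : Subgroup G).index = 1 := congrArg Subtype.val h
  obtain ⟨k, hk⟩ := R.isPGroup' ⟨x, hx⟩
  refine hx1 (orderOf_eq_one_iff.mp (Nat.eq_one_of_dvd_coprimes
    (Nat.Coprime.pow_left k ((Fact.out : r.Prime).coprime_iff_not_dvd.mpr R.not_dvd_index))
    (orderOf_dvd_of_pow_eq_one (congrArg Subtype.val hk)) (orderOf_dvd_of_pow_eq_one h1)))

omit hp in
theorem Min.commutator_eq_top (m : Min p G) : commutator G = ⊤ := by
  rcases m.simple.eq_bot_or_eq_top_of_normal (commutator G) inferInstance with h | h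
  · refine absurd (Group.isSolvable_of_comm fun a b => ?_) m.nsol
    have : ⁅a, b⁆ ∈ (⊥ : Subgroup G) := h ▸ commutator_mem_commutator (mem_top a) (mem_top b)
    exact commutatorElement_eq_one_iff_mul_comm.mp (mem_bot.mp this)
  · exact h

/-- An abelian Sylow subgroup lies in the derived group of its normaliser. -/
theorem Min.sylow_le_commutator (m : Min p G) {r : ℕ} [Fact r.Prime] (R : Sylow r G)
    (hR : IsMulCommutative (R : Subgroup G)) :
    (R : Subgroup G) ≤ ⁅normalizer ((R : Subgroup G) : Set G), normalizer ((R : Subgroup G) : Set G)⁆ := by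
  have := CfsgLib.Transfer.commutator_inf_eq_of_controlsFusion R le_normalizer
    (CfsgLib.Transfer.controlsFusion_normalizer_of_isMulCommutative R hR)
  rw [m.commutator_eq_top, top_inf_eq] at this
  exact this.le.trans inf_le_left

/-- `O_{p,p'}`. -/
def ppCore (p : ℕ) (X : Type*) [Group X] : Subgroup X :=
  (Cfsg.pPrimeCore p (X ⧸ Cfsg.pCore p X)).comap (QuotientGroup.mk' (Cfsg.pCore p X))

instance {p : ℕ} {X : Type*} [Group X] : (ppCore p X).Normal :=
  (inferInstance : (Cfsg.pPrimeCore p (X ⧸ Cfsg.pCore p X)).Normal).comap _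

/-- `O_{p,p'}` holds every element of order prime to `p`. -/
theorem mem_ppCore {X : Type*} [Group X] [Finite X] [Group.IsSolvable X] (h : Ab p X) {x : X}
    (hx : (orderOf x).Coprime p) : x ∈ ppCore p X :=
  Cfsg.Agent.S3754.centralizer_pPrimeCore_le CfsgLib.PLocal.isPSolvable_of_isSolvable
    (CfsgLib.PLocal.pCore_quotient_pCore_eq_bot p X)
    (mem_centralizer (ab_quotient h _ (Or.inl (CfsgLib.PLocal.isPGroup_pCore p X)))
      (CfsgLib.PLocal.coprime_card_pPrimeCore p _)
      (hx.coprime_dvd_left (orderOf_map_dvd _ _))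
      (by rw [normalizer_eq_top]; exact mem_top _))

/-- The factor group of `O_{p,p'}` is a `p`-group. -/
theorem isPGroup_quotient_ppCore {X : Type*} [Group X] [Finite X] [Group.IsSolvable X] (h : Ab p X) :
    IsPGroup p (X ⧸ ppCore p X) := by
  intro z
  obtain ⟨y, rfl⟩ := QuotientGroup.mk'_surjective _ z
  obtain ⟨k, hk⟩ := exists_pow_coprime (p := p) y
  exact ⟨k, by rw [← map_pow]; exact (QuotientGroup.eq_one_iff _).mpr (mem_ppCore h hk)⟩

/-- The set of primes other than `p`. -/
def pcompl (p : ℕ) : Set ℕ := {r | r ≠ p}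

theorem isPiSubgroup_pcompl_iff {X : Type*} [Group X] [Finite X] {A : Subgroup X} :
    Cfsg.IsPiSubgroup (pcompl p) A ↔ (Nat.card A).Coprime p := by
  refine ⟨fun h => Nat.coprime_of_dvd fun r hr hrA hrp => h r hr hrA
    ((Nat.prime_dvd_prime_iff_eq hr hp.out).mp hrp), fun h r hr hrA he => ?_⟩
  exact hr.ne_one (Nat.eq_one_of_dvd_coprimes h hrA (dvd_of_eq he))

/-- Every subgroup of order prime to `p` of a solvable group lies in a Hall `p'`-subgroup. -/
theorem exists_hall_ge {Y : Subgroup G} [Group.IsSolvable Y] {A : Subgroup G} (hAY : A ≤ Y)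
    (hA : (Nat.card A).Coprime p) :
    ∃ H : Subgroup Y, Cfsg.IsPiHall (pcompl p) H ∧ (Nat.card H).Coprime p ∧ A ≤ H.map Y.subtype := by
  obtain ⟨H, hH, hle⟩ := CfsgLib.Solvable.exists_isPiHall_ge (G := Y) (π := pcompl p)
    (U := A.subgroupOf Y) (isPiSubgroup_pcompl_iff.mpr
      (by rwa [Nat.card_congr (subgroupOfEquivOfLe hAY).toEquiv]))
  exact ⟨H, hH, isPiSubgroup_pcompl_iff.mp hH.1, fun a ha => ⟨⟨a, hAY ha⟩, hle ha, rfl⟩⟩

/-- A group of odd order has no `SL(2, p)` sections. -/
theorem slFree_of_odd {X : Type u} [Group X] [Finite X] (hp2 : p ≠ 2) (h : Odd (Nat.card X)) :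
    SLFree p X := by
  intro Q _ H _ θ _ hθ
  haveI : Fact (Nat.Prime 2) := ⟨Nat.prime_two⟩
  have hne : (-1 : Matrix.SpecialLinearGroup (Fin 2) (ZMod p)) ≠ 1 := by
    intro he
    have h1 : (-1 : ZMod p) = 1 := by
      simpa using congrFun (congrFun (congrArg Subtype.val he) 0) 0
    haveI : Fact (2 < p) := ⟨lt_of_le_of_ne hp.out.two_le hp2.symm⟩
    exact ZMod.neg_one_ne_one (n := p) h1
  have h2 : orderOf (-1 : Matrix.SpecialLinearGroup (Fin 2) (ZMod p)) = 2 :=
    orderOf_eq_prime (by rw [sq, neg_mul_neg, one_mul]) hne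
  have h3 := (orderOf_dvd_natCard (-1 : Matrix.SpecialLinearGroup (Fin 2) (ZMod p))).trans
    ((card_dvd_of_surjective θ hθ).trans (card_subgroup_dvd_card H))
  rw [h2] at h3
  exact h.not_two_dvd_nat h3

/-- `N(ZJ(P))` normalises `P` and is not a `p`-group. -/
theorem OMin.zj_facts (m : OMin p G) (P : Sylow p G) (hP : (P : Subgroup G) ≠ ⊥) :
    normalizer (Cfsg.centerThompsonAOf (P : Subgroup G) : Set G) ≤
        normalizer ((P : Subgroup G) : Set G) ∧
      ∃ u ∈ normalizer ((P : Subgroup G) : Set G), u ≠ 1 ∧ (orderOf u).Coprime p := by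
  have hp2 : p ≠ 2 := by have := m.five; omega
  set Z := Cfsg.centerThompsonAOf (P : Subgroup G) with hZ
  set X := normalizer (Z : Set G) with hX
  have hPX : (P : Subgroup G) ≤ X := by
    have := normalizer_le_normalizer_functor
      (isConjugacyFunctor_induced (isCharPFunctor_zjFun (p := p))) P.isPGroup'
    rw [inducedFunctor_zjFun] at this
    exact le_normalizer.trans this
  have hZne : Z ≠ ⊥ := by
    rw [hZ, ← inducedFunctor_zjFun]
    exact functor_ne_bot (isConjugacyFunctor_induced (isCharPFunctor_zjFun (p := p))) P.isPGroup' hP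
  have hXt : X ≠ ⊤ := by
    refine m.toMin.normalizer_ne_top hZne (m.toMin.isPGroup_ne_top (P.isPGroup'.to_le ?_))
    rw [hZ, ← inducedFunctor_zjFun]
    exact inducedFunctor_le _
  have hctrl : CfsgLib.Transfer.ControlsFusion X (P : Subgroup G) := by
    intro x hx g hg
    have h := slFree_fusControls hp2 (slFree_of_odd hp2 m.odd) (isSylowIn_top P) {x} g (mem_top g)
      (Set.singleton_subset_iff.mpr hx) (by
        rintro _ ⟨a, rfl, rfl⟩
        exact hg)
    obtain ⟨n, hn, he⟩ := h.exists_mem_of_singleton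
    exact ⟨n, hn, he x rfl⟩
  have hcomm : (P : Subgroup G) ≤ ⁅X, X⁆ := by
    have := CfsgLib.Transfer.commutator_inf_eq_of_controlsFusion P hPX hctrl
    rw [m.toMin.commutator_eq_top, top_inf_eq] at this
    exact this.le.trans inf_le_left
  set S : Sylow p X := P.subtype hPX with hS
  have hScomm : (S : Subgroup X) ≤ commutator X := fun y hy => by
    rw [← map_subtype_commutator] at hcomm
    obtain ⟨z, hz, he⟩ := hcomm (show (y : G) ∈ (P : Subgroup G) from hy)
    exact X.subtype_injective he ▸ hz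
  haveI := m.sol X hXt
  have hab := ab_subgroup m.ab X
  -- `O_{p,p'}(X) = X`
  set K := ppCore p X with hK
  have hKtop : K = ⊤ := by
    by_contra hne
    haveI : Nontrivial (X ⧸ K) := QuotientGroup.nontrivial_iff.mpr hne
    haveI := (isPGroup_quotient_ppCore hab).isNilpotent
    refine (Group.IsSolvable.commutator_lt_top_of_nontrivial (X ⧸ K)).ne (eq_top_iff.mpr ?_)
    have h1 : (S.mapSurjective (QuotientGroup.mk'_surjective K) : Subgroup (X ⧸ K)) = ⊤ :=
      ((S.mapSurjective (QuotientGroup.mk'_surjective K)).is_maximal'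
        ((isPGroup_quotient_ppCore hab).to_subgroup ⊤) le_top).symm
    rw [← h1, Sylow.coe_mapSurjective, _root_.commutator_def (X ⧸ K),
      ← map_top_of_surjective _ (QuotientGroup.mk'_surjective K), ← map_commutator, ← _root_.commutator_def]
    exact map_mono hScomm
  have hSO : (S : Subgroup X) = Cfsg.pCore p X := by
    refine le_antisymm (fun s hs => ?_) (CfsgLib.PLocal.pCore_le_sylow S)
    have h1 : QuotientGroup.mk' (Cfsg.pCore p X) s ∈
        (S : Subgroup X).map (QuotientGroup.mk' (Cfsg.pCore p X)) ⊓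
          Cfsg.pPrimeCore p (X ⧸ Cfsg.pCore p X) :=
      ⟨mem_map_of_mem _ hs, (hKtop ▸ mem_top s : s ∈ K)⟩
    rw [CfsgLib.PLocal.disjoint_of_isPGroup_of_coprime (S.isPGroup'.map _)
      (CfsgLib.PLocal.coprime_card_pPrimeCore p _), mem_bot] at h1
    exact (QuotientGroup.eq_one_iff _).mp h1
  have hnorm : X ≤ normalizer ((P : Subgroup G) : Set G) := by
    have : (S : Subgroup X).Normal := hSO ▸ inferInstance
    exact (normal_subgroupOf_iff_le_normalizer hPX).mp this
  refine ⟨hnorm, ?_⟩
  by_contra! hno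
  have hXp : IsPGroup p X := by
    intro y
    obtain ⟨k, hk⟩ := exists_pow_coprime (p := p) (y : G)
    refine ⟨k, Subtype.ext ?_⟩
    by_contra hy
    exact hno _ (hnorm (X.pow_mem y.2 _)) hy hk
  have hSt : (S : Subgroup X) = ⊤ := (S.is_maximal' (hXp.to_subgroup ⊤) le_top).symm
  haveI := hXp.isNilpotent
  haveI : Nontrivial X := (nontrivial_iff_ne_bot X).mpr fun h => hP (le_bot_iff.mp (h ▸ hPX))
  exact (Group.IsSolvable.commutator_lt_top_of_nontrivial X).not_ge (hSt ▸ hScomm)

end CfsgLib.Techniques.AbSub
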