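import Cfsg.Agent.Techniques.AbSub.OddLocal

/-!
# Strongly embedded maximal subgroups in odd order
-/

set_option autoImplicit false

universe u

namespace CfsgLib.Techniques.AbSub.Odd

open Subgroup CfsgLib.ConjFunctor
open scoped CfsgLib.ConjFunctor commutatorElement Pointwise

variable {p : ℕ} [hp : Fact p.Prime] {G : Type u} [Group G] [Finite G]

omit [Finite G] in
theorem conj_mem_centralizer {h c u : G} (hc : c ∈ centralizer ({u} : Set G)) :
    h * c * h⁻¹ ∈ centralizer ({h * u * h⁻¹} : Set G) := by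
  rw [mem_centralizer_singleton_iff] at hc ⊢
  calc h * c * h⁻¹ * (h * u * h⁻¹) = h * (c * u) * h⁻¹ := by group
    _ = h * (u * c) * h⁻¹ := by rw [hc]
    _ = h * u * h⁻¹ * (h * c * h⁻¹) := by group

omit [Finite G] hp in
theorem centralizer_le_centralizer_pow {x : G} (i : ℕ) :
    centralizer ({x} : Set G) ≤ centralizer ({x ^ i} : Set G) := fun _ hc =>
  mem_centralizer_singleton_iff.mpr
    ((show Commute _ x from mem_centralizer_singleton_iff.mp hc).pow_right i).eq

section Emb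

variable {q : ℕ} [hq : Fact q.Prime]

/-- `M` is maximal and contains `N(T)` and the centralisers of `Ω₁(T)`. -/
structure Emb (T : Sylow q G) (M : Subgroup G) : Prop where
  coatom : IsCoatom M
  norm : normalizer ((T : Subgroup G) : Set G) ≤ M
  cent : ∀ a ∈ Esub T, a ≠ 1 → centralizer ({a} : Set G) ≤ M

theorem exists_emb (m : OMin p G) (hqp : q ≠ p) (T : Sylow q G) (hT : (T : Subgroup G) ≠ ⊥) :
    ∃ M : Subgroup G, Emb T M := by
  obtain ⟨M0, h0, hn, hc, -⟩ := exists_local m hqp T hT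
  obtain ⟨M, hM, hle⟩ := (eq_top_or_exists_le_coatom M0).resolve_left h0
  exact ⟨M, hM, hn.trans hle, fun a ha ha1 => (hc a ha ha1).trans hle⟩

variable {T : Sylow q G} {M : Subgroup G}

theorem Emb.exists_conj_mem (e : Emb T M) (m : OMin p G) (hqp : q ≠ p) {u : G} (hu : u ∈ M)
    (ho : orderOf u = q) : ∃ h ∈ M, h * u * h⁻¹ ∈ Esub T := by
  have hTM : IsSylowIn q (T : Subgroup G) M :=
    (isSylowIn_top T).of_le (le_normalizer.trans e.norm) le_top
  have hz : IsPGroup q (zpowers u) := IsPGroup.of_card_dvd_pow (n := 1) (by rw [Nat.card_zpowers, ho, pow_one])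
  obtain ⟨h, hh, hle⟩ := hTM.exists_cj_le (zpowers_le.mpr hu) hz
  refine ⟨h, hh, (mem_Esub m hqp).mpr ⟨hle (conj_mem_cj h (mem_zpowers u)), ?_⟩⟩
  rw [conj_pow, ← ho, pow_orderOf_eq_one, mul_one, mul_inv_cancel]

theorem Emb.cent_le (e : Emb T M) (m : OMin p G) (hqp : q ≠ p) {u : G} (hu : u ∈ M)
    (hu1 : u ≠ 1) {k : ℕ} (huk : u ^ q ^ k = 1) : centralizer ({u} : Set G) ≤ M := by
  obtain ⟨j, -, hj⟩ := (Nat.dvd_prime_pow hq.out).mp (orderOf_dvd_of_pow_eq_one huk)
  obtain ⟨j, rfl⟩ := Nat.exists_eq_succ_of_ne_zero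
    (show j ≠ 0 by rintro rfl; exact hu1 (orderOf_eq_one_iff.mp (by rw [hj, pow_zero])))
  set v := u ^ q ^ j with hv
  have hvo : orderOf v = q := by
    rw [hv, orderOf_pow_of_dvd (pow_ne_zero _ hq.out.ne_zero) (hj ▸ pow_dvd_pow q j.le_succ), hj,
      Nat.pow_succ', Nat.mul_div_cancel _ (pow_pos hq.out.pos j)]
  refine (centralizer_le_centralizer_pow (x := u) (q ^ j)).trans ?_
  obtain ⟨h, hh, hE⟩ := e.exists_conj_mem m hqp (pow_mem hu _ : v ∈ M) hvo
  rw [← hv]
  intro c hc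
  have h1 : h * v * h⁻¹ ≠ 1 := fun hh1 => by
    rw [_root_.conj_eq_one_iff] at hh1
    rw [hh1, orderOf_one] at hvo
    exact hq.out.ne_one hvo.symm
  have h2 := e.cent _ hE h1 (conj_mem_centralizer hc)
  have := M.mul_mem (M.mul_mem (M.inv_mem hh) h2) hh
  simpa [mul_assoc] using this

theorem Emb.mem_of_conj_mem (e : Emb T M) (m : OMin p G) (hqp : q ≠ p) {u g : G} (hu : u ∈ M)
    (ho : orderOf u = q) (hg : g * u * g⁻¹ ∈ M) : g ∈ M := by
  have hgo : orderOf (g * u * g⁻¹) = q := by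
    rw [show g * u * g⁻¹ = MulAut.conj g u from rfl, MulEquiv.orderOf_eq, ho]
  obtain ⟨h1, hh1, hx⟩ := e.exists_conj_mem m hqp hu ho
  obtain ⟨h2, hh2, hy⟩ := e.exists_conj_mem m hqp hg hgo
  set x := h1 * u * h1⁻¹ with hxdef
  set g' := h2 * g * h1⁻¹ with hg'
  have hy' : g' * x * g'⁻¹ ∈ Esub T := by
    rw [hg', hxdef]
    simpa [mul_assoc] using hy
  set y := g' * x * g'⁻¹ with hydef
  set C := centralizer ({y} : Set G) with hC
  have hTC : (T : Subgroup G) ≤ C := fun s hs =>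
    mem_centralizer_singleton_iff.mpr (T_comm m hqp T hs (Esub_le T hy'))
  have hgTC : g' *• (T : Subgroup G) ≤ C := by
    rintro _ ⟨s, hs, rfl⟩
    exact conj_mem_centralizer (mem_centralizer_singleton_iff.mpr (T_comm m hqp T hs (Esub_le T hx)))
  have hS : IsSylowIn q (T : Subgroup G) C := (isSylowIn_top T).of_le hTC le_top
  have hS' : IsSylowIn q (g' *• (T : Subgroup G)) C := by
    have h3 := (isSylowIn_top T).cj g'
    rw [show g' *• (⊤ : Subgroup G) = ⊤ from map_top_of_surjective _ (MulAut.conj g').surjective] at h3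
    exact h3.of_le hgTC le_top
  obtain ⟨d, hd, hde⟩ := hS.exists_cj_eq hS'
  rw [cj_cj] at hde
  have hdg : d * g' ∈ M := e.norm (mem_normalizer_of_cj_le hde.le)
  have hy1 : y ≠ 1 := by
    intro h
    rw [hydef, _root_.conj_eq_one_iff, hxdef, _root_.conj_eq_one_iff] at h
    rw [h, orderOf_one] at ho
    exact hq.out.ne_one ho.symm
  have hdM : d ∈ M := e.cent y hy' hy1 hd
  have := M.mul_mem (M.mul_mem (M.inv_mem hh2) (M.mul_mem (M.inv_mem hdM) hdg)) hh1
  simpa [hg', mul_assoc] using this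

/-- A proper subgroup containing a non-cyclic `q`-subgroup of `M` lies in `M`. -/
theorem Emb.le_of_rank2 (e : Emb T M) (m : OMin p G) (hqp : q ≠ p) {X : Subgroup G} (hX : X ≠ ⊤)
    {A : Subgroup G} (hAX : A ≤ X) (hAM : A ≤ M) (hAq : IsPGroup q A) (hAc : ¬ IsCyclic A) :
    X ≤ M := by
  haveI := comm_q m hqp hAq
  haveI := m.toMin.sol X hX
  obtain ⟨a, ha, hao⟩ : ∃ a ∈ A, orderOf a = q := by
    obtain ⟨k, hk⟩ := IsPGroup.iff_card.mp hAq
    have hk0 : k ≠ 0 := by
      rintro rfl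
      rw [pow_zero] at hk
      haveI := (Nat.card_eq_one_iff_unique.mp hk).1
      exact hAc isCyclic_of_subsingleton
    obtain ⟨a, ha⟩ := exists_prime_orderOf_dvd_card' (G := A) q (hk ▸ dvd_pow_self q hk0)
    exact ⟨a, a.2, by rw [Subgroup.orderOf_coe, ha]⟩
  have ha1 : a ≠ 1 := fun h => by rw [h, orderOf_one] at hao; exact hq.out.ne_one hao.symm
  obtain ⟨S, hS⟩ := (hAq.comap_subtype (K := X)).exists_le_sylow
  have hSg := comm_q m hqp (S.isPGroup'.map X.subtype)
  have haS : (⟨a, hAX ha⟩ : X) ∈ (S : Subgroup X) := hS ha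
  have hSM : ∀ s ∈ (S : Subgroup X), (s : G) ∈ M := fun s hs =>
    e.cent_le m hqp (hAM ha) ha1 (k := 1) (by rw [pow_one, ← hao, pow_orderOf_eq_one])
      (mem_centralizer_singleton_iff.mpr
        (congrArg Subtype.val (hSg.is_comm.comm ⟨_, mem_map_of_mem _ hs⟩ ⟨_, mem_map_of_mem _ haS⟩)))
  set π := QuotientGroup.mk' (Cfsg.pPrimeCore q X) with hπ
  have hn : ((S : Subgroup X).map π).Normal := by
    have hC := CfsgLib.PLocal.centralizer_pCore_le (p := q) (G := X ⧸ Cfsg.pPrimeCore q X)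
      CfsgLib.PLocal.isPSolvable_of_isSolvable
      (CfsgLib.PLocal.pPrimeCore_quotient_pPrimeCore_eq_bot q X)
    have hO : Cfsg.pCore q (X ⧸ Cfsg.pPrimeCore q X) ≤ (S : Subgroup X).map π :=
      CfsgLib.PLocal.pCore_le_sylow (S.mapSurjective (QuotientGroup.mk'_surjective _))
    have hle : (S : Subgroup X).map π ≤ Cfsg.pCore q (X ⧸ Cfsg.pPrimeCore q X) := by
      rintro _ ⟨x, hx, rfl⟩
      refine hC (mem_centralizer_iff.mpr fun y hy => ?_)
      obtain ⟨z, hz, rfl⟩ := hO hy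
      rw [← map_mul, ← map_mul]
      refine congrArg π (Subtype.ext ?_)
      show X.subtype z * X.subtype x = X.subtype x * X.subtype z
      exact congrArg Subtype.val (hSg.is_comm.comm ⟨_, mem_map_of_mem X.subtype hz⟩ ⟨_, mem_map_of_mem X.subtype hx⟩)
    rw [le_antisymm hle hO]
    infer_instance
  set R := ((S : Subgroup X).map π).comap π with hR
  haveI : R.Normal := hn.comap _
  have hO : (Cfsg.pPrimeCore q X).map X.subtype ≤ M := by
    refine CfsgLib.Coprime.le_of_forall_inf_centralizer_le (A := A) hAc ?_ ?_ fun b hb hb1 => ?_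
    · intro b hb
      refine mem_normalizer_fintype ?_
      rintro _ ⟨x, hx, rfl⟩
      exact ⟨_, (inferInstance : (Cfsg.pPrimeCore q X).Normal).conj_mem x hx ⟨b, hAX hb⟩, rfl⟩
    · obtain ⟨k, hk⟩ := IsPGroup.iff_card.mp hAq
      rw [hk, Subgroup.card_map_of_injective X.subtype_injective]
      exact ((CfsgLib.PLocal.coprime_card_pPrimeCore q X).symm).pow_left k
    · obtain ⟨k, hk⟩ := hAq ⟨b, hb⟩
      exact inf_le_right.trans (e.cent_le m hqp (hAM hb) hb1 (congrArg Subtype.val hk))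
  have hRle : normalizer ((S : Subgroup X) : Set X) ⊔ R ≤ M.subgroupOf X := by
    refine sup_le (fun g hg => ?_) ?_
    · exact e.mem_of_conj_mem m hqp (hAM ha) hao (hSM _ ((mem_normalizer_iff.mp hg ⟨a, hAX ha⟩).mp haS))
    · rw [hR, comap_map_eq, QuotientGroup.ker_mk']
      exact sup_le hSM fun x hx => hO (mem_map_of_mem _ hx)
  intro x hx
  exact hRle ((Sylow.normalizer_sup_eq_top' S (le_comap_map _ _)).ge (mem_top (⟨x, hx⟩ : X)))

end Emb

/-- A maximal subgroup controlling everything around its elements of order prime to `p`. -/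
structure Loc (p : ℕ) {G : Type*} [Group G] (M : Subgroup G) : Prop where
  coatom : IsCoatom M
  uniq : ∀ x ∈ M, x ≠ 1 → (orderOf x).Coprime p →
    ∀ X : Subgroup G, X ≠ ⊤ → centralizer ({x} : Set G) ≤ X → X ≤ M
  ex : ∃ x ∈ M, x ≠ 1 ∧ (orderOf x).Coprime p

theorem exists_loc (m : OMin p G) {q : ℕ} [hq : Fact q.Prime] (hqp : q ≠ p) {u : G}
    (hu : orderOf u = q) : ∃ M : Subgroup G, Loc p M ∧ u ∈ M := by
  have hz : IsPGroup q (zpowers u) := IsPGroup.of_card_dvd_pow (n := 1) (by rw [Nat.card_zpowers, hu, pow_one])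
  obtain ⟨T, hT⟩ := hz.exists_le_sylow
  have hu1 : u ≠ 1 := fun h => by rw [h, orderOf_one] at hu; exact hq.out.ne_one hu.symm
  have hT1 : (T : Subgroup G) ≠ ⊥ := fun h => hu1 (mem_bot.mp (h ▸ hT (mem_zpowers u)))
  obtain ⟨M, e⟩ := exists_emb m hqp T hT1
  have huM : u ∈ M := e.norm (le_normalizer (hT (mem_zpowers u)))
  refine ⟨M, ⟨e.coatom, fun x hx hx1 hxc X hX hCX => ?_, u, huM, hu1,
    hu ▸ (Nat.coprime_primes hq.out hp.out).mpr hqp⟩, huM⟩
  haveI := m.toMin.sol M e.coatom.1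
  obtain ⟨H, hH, hHc, hxH⟩ := exists_hall_ge (p := p) (A := zpowers x) (zpowers_le.mpr hx)
    (by rwa [Nat.card_zpowers])
  set E' : Subgroup M := (Esub T).subgroupOf M with hE'
  have hEM : Esub T ≤ M := ((Esub_le T).trans le_normalizer).trans e.norm
  obtain ⟨g, hg⟩ := CfsgLib.Solvable.exists_conj_le_isPiHall hH (U := E') (isPiSubgroup_pcompl_iff.mpr
    (by rw [hE', Nat.card_congr (subgroupOfEquivOfLe hEM).toEquiv]
        exact coprime_q hqp (T.isPGroup'.to_le (Esub_le T))))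
  set A := (MulAut.conj g • E').map M.subtype with hA
  have hAM : A ≤ M := map_subtype_le _
  have hcard : Nat.card A = Nat.card (Esub T) := by
    rw [hA, Subgroup.card_map_of_injective M.subtype_injective, CfsgLib.Solvable.card_conj_smul, hE',
      Nat.card_congr (subgroupOfEquivOfLe hEM).toEquiv]
  have hAq : IsPGroup q A := by
    obtain ⟨k, hk⟩ := IsPGroup.iff_card.mp (T.isPGroup'.to_le (Esub_le T))
    exact IsPGroup.of_card (hcard.trans hk)
  have hexp : ∀ a : A, a ^ q = 1 := by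
    rintro ⟨_, y, hy, rfl⟩
    obtain ⟨z, hz, rfl⟩ := Subgroup.mem_smul_pointwise_iff_exists _ _ _ |>.mp hy
    refine Subtype.ext ?_
    show ((g * z * g⁻¹ : M) : G) ^ q = 1
    rw [← Subgroup.coe_pow, conj_pow, Subgroup.coe_mul, Subgroup.coe_mul, Subgroup.coe_pow,
      show (z : G) ^ q = 1 from ((mem_Esub m hqp).mp hz).2, mul_one, ← Subgroup.coe_mul, mul_inv_cancel, Subgroup.coe_one]
  refine e.le_of_rank2 m hqp hX ?_ hAM hAq ?_
  · rintro _ ⟨y, hy, rfl⟩
    refine hCX (mem_centralizer_singleton_iff.mpr ?_)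
    refine m.toMin.ab.comm (H := H.map M.subtype) ?_ (mem_map_of_mem _ (hg hy)) (hxH (mem_zpowers x))
    rwa [Subgroup.card_map_of_injective M.subtype_injective]
  · intro hc
    have h1 : Nat.card A ∣ q := by
      rw [← hc.exponent_eq_card]
      exact Monoid.exponent_dvd_of_forall_pow_eq_one hexp
    have h2 := Nat.le_of_dvd hq.out.pos h1
    have h3 := card_Esub m hqp T hT1
    have h4 : q ^ 1 < q ^ 3 := Nat.pow_lt_pow_right hq.out.one_lt (by norm_num)
    rw [pow_one] at h4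
    omega

end CfsgLib.Techniques.AbSub.Odd
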