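import Cfsg.Agent.Techniques.AbSub.OddBasic

/-!
# Signalizer functors and strongly embedded maximal subgroups for an odd prime `q ≠ p`
-/

set_option autoImplicit false

universe u

namespace CfsgLib.Techniques.AbSub.Odd

open Subgroup CfsgLib.ConjFunctor
open scoped CfsgLib.ConjFunctor commutatorElement

variable {p : ℕ} [hp : Fact p.Prime] {G : Type u} [Group G] [Finite G]
variable {q : ℕ} [hq : Fact q.Prime]

theorem coprime_q (hqp : q ≠ p) {U : Subgroup G} (hU : IsPGroup q U) : (Nat.card U).Coprime p := by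
  obtain ⟨k, hk⟩ := IsPGroup.iff_card.mp hU
  rw [hk]
  exact ((Nat.coprime_primes hq.out hp.out).mpr hqp).pow_left k

omit [Finite G] in
theorem coprime_orderOf (hqp : q ≠ p) {x : G} {k : ℕ} (hx : x ^ q ^ k = 1) :
    (orderOf x).Coprime p :=
  (((Nat.coprime_primes hq.out hp.out).mpr hqp).pow_left k).coprime_dvd_left (orderOf_dvd_of_pow_eq_one hx)

theorem comm_q (m : OMin p G) (hqp : q ≠ p) {U : Subgroup G} (hU : IsPGroup q U) : IsMulCommutative U :=
  m.toMin.ab U (coprime_q hqp hU)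

theorem T_comm (m : OMin p G) (hqp : q ≠ p) (T : Sylow q G) {a b : G} (ha : a ∈ (T : Subgroup G))
    (hb : b ∈ (T : Subgroup G)) : a * b = b * a :=
  m.toMin.ab.comm (coprime_q hqp T.isPGroup') ha hb

/-- `Ω₁(T)`. -/
def Esub (T : Sylow q G) : Subgroup G :=
  Subgroup.closure {x : G | x ∈ (T : Subgroup G) ∧ x ^ q = 1}

theorem Esub_le (T : Sylow q G) : Esub T ≤ (T : Subgroup G) :=
  (Subgroup.closure_le _).mpr fun _ hx => hx.1

theorem mem_Esub (m : OMin p G) (hqp : q ≠ p) {T : Sylow q G} {x : G} :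
    x ∈ Esub T ↔ x ∈ (T : Subgroup G) ∧ x ^ q = 1 := by
  refine ⟨fun hx => ⟨Esub_le T hx, ?_⟩, fun h => subset_closure h⟩
  induction hx using Subgroup.closure_induction with
  | mem z hz => exact hz.2
  | one => exact one_pow q
  | mul a b ha hb iha ihb =>
    rw [(show Commute a b from T_comm m hqp T (Esub_le T ha) (Esub_le T hb)).mul_pow, iha, ihb, mul_one]
  | inv a _ iha => rw [inv_pow, iha, inv_one]

theorem normalizer_le_normalizer_Esub (m : OMin p G) (hqp : q ≠ p) (T : Sylow q G) :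
    normalizer ((T : Subgroup G) : Set G) ≤ normalizer (Esub T : Set G) := by
  intro n hn
  refine mem_normalizer_fintype fun x hx => ?_
  obtain ⟨hxT, hx2⟩ := (mem_Esub m hqp).mp hx
  exact (mem_Esub m hqp).mpr ⟨(mem_normalizer_iff.mp hn x).mp hxT, by
    rw [conj_pow, hx2, mul_one, mul_inv_cancel]⟩

theorem exists_not_mem_centralizer (m : OMin p G) (T : Sylow q G) (hT : (T : Subgroup G) ≠ ⊥) :
    ∃ n ∈ normalizer ((T : Subgroup G) : Set G), n ∉ centralizer ((T : Subgroup G) : Set G) := by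
  by_contra! h
  set K := (MonoidHom.transferSylow T h).ker
  have hK := MonoidHom.ker_transferSylow_isComplement' T h
  rcases m.simple.eq_bot_or_eq_top_of_normal K (MonoidHom.normal_ker _) with hc | hc
  · rw [show (MonoidHom.transferSylow T h).ker = K from rfl, hc, isComplement'_bot_left] at hK
    exact m.toMin.isPGroup_ne_top T.isPGroup' hK
  · rw [show (MonoidHom.transferSylow T h).ker = K from rfl, hc, isComplement'_top_left] at hK
    exact hT hK

theorem card_Esub (m : OMin p G) (hqp : q ≠ p) (T : Sylow q G) (hT : (T : Subgroup G) ≠ ⊥) :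
    q ^ 3 ≤ Nat.card (Esub T) := by
  obtain ⟨n0, hn0, hn0c⟩ := exists_not_mem_centralizer m T hT
  obtain ⟨k, hk⟩ := exists_pow_coprime (p := p) n0
  have hk' : n0 ^ p ^ k ∈ centralizer ((T : Subgroup G) : Set G) :=
    mem_centralizer m.toMin.ab (coprime_q hqp T.isPGroup') hk (pow_mem hn0 _)
  obtain ⟨i, w, hw, hi⟩ := Nat.exists_eq_pow_mul_and_not_dvd (orderOf_pos n0).ne' p hp.out.ne_one
  set n := n0 ^ w with hn
  have hnN : n ∈ normalizer ((T : Subgroup G) : Set G) := pow_mem hn0 w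
  have hnp : n ^ p ^ i = 1 := by rw [hn, ← pow_mul, mul_comm, ← hi, pow_orderOf_eq_one]
  have hnc : n ∉ centralizer ((T : Subgroup G) : Set G) := by
    intro hc
    have hcop : Nat.Coprime w (p ^ k) := (hp.out.coprime_iff_not_dvd.mpr hw).symm.pow_right k
    have huv := (Nat.gcd_eq_gcd_ab w (p ^ k)).symm
    rw [hcop.gcd_eq_one, Nat.cast_one] at huv
    set u := Nat.gcdA w (p ^ k)
    set v := Nat.gcdB w (p ^ k)
    apply hn0c
    have : n0 = (n0 ^ w) ^ u * (n0 ^ p ^ k) ^ v := by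
      rw [← zpow_natCast n0 w, ← zpow_natCast n0 (p ^ k), ← zpow_mul, ← zpow_mul, ← zpow_add, huv, zpow_one]
    rw [this]
    exact mul_mem (zpow_mem hc _) (zpow_mem hk' _)
  set Z := zpowers n
  set E := Esub T
  have hZN : Z ≤ normalizer (E : Set G) :=
    zpowers_le.mpr (normalizer_le_normalizer_Esub m hqp T hnN)
  have hpZ : IsPGroup p Z := IsPGroup.of_card_dvd_pow (n := i)
    (by rw [Nat.card_zpowers]; exact orderOf_dvd_of_pow_eq_one hnp)
  letI : MulAction Z E :=
    { smul := fun a e => ⟨(a : G) * e * (a : G)⁻¹, (mem_normalizer_iff.mp (hZN a.2) _).mp e.2⟩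
      one_smul := fun e => Subtype.ext (by
        show ((1 : Z) : G) * e * ((1 : Z) : G)⁻¹ = e; simp)
      mul_smul := fun a b e => Subtype.ext (by
        show ((a * b : Z) : G) * e * ((a * b : Z) : G)⁻¹ = (a : G) * ((b : G) * e * (b : G)⁻¹) * (a : G)⁻¹
        simp [mul_assoc]) }
  set C := E ⊓ centralizer (Z : Set G)
  have hfix : Nat.card (MulAction.fixedPoints Z E) = Nat.card C := Nat.card_congr
    { toFun := fun e => ⟨e.1.1, e.1.2, mem_centralizer_iff.mpr fun a ha =>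
        mul_inv_eq_iff_eq_mul.mp (congrArg Subtype.val (e.2 ⟨a, ha⟩))⟩
      invFun := fun c => ⟨⟨c.1, c.2.1⟩, fun a => Subtype.ext
        (mul_inv_eq_iff_eq_mul.mpr (mem_centralizer_iff.mp c.2.2 a a.2))⟩
      left_inv := fun _ => rfl
      right_inv := fun _ => rfl }
  have hmod := hfix ▸ hpZ.card_modEq_card_fixedPoints E
  have hTc := comm_q m hqp T.isPGroup'
  have hne : Nat.card C ≠ Nat.card E := by
    intro he
    have hEC : E ≤ C := (eq_of_le_of_card_ge inf_le_left he.ge).ge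
    refine hnc (CfsgLib.Coprime.le_centralizer_of_forall_prime_order (A := Z)
      (zpowers_le.mpr hnN) ?_ (fun v hv hpr => ?_) (mem_zpowers n))
    · obtain ⟨j, hj⟩ := IsPGroup.iff_card.mp T.isPGroup'
      obtain ⟨l, hl⟩ := IsPGroup.iff_card.mp hpZ
      rw [hj, hl]
      exact Nat.Coprime.pow _ _ ((Nat.coprime_primes hp.out hq.out).mpr hqp.symm)
    · obtain ⟨j, hj⟩ := T.isPGroup' ⟨v, hv⟩
      have hvq : orderOf v = q := (Nat.prime_dvd_prime_iff_eq hpr hq.out).mp
        (hpr.dvd_of_dvd_pow (orderOf_dvd_of_pow_eq_one (congrArg Subtype.val hj : v ^ q ^ j = 1)))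
      have hvC := hEC ((mem_Esub m hqp).mpr ⟨hv, hvq ▸ pow_orderOf_eq_one v⟩)
      exact mem_centralizer_iff.mpr fun a ha => mem_centralizer_iff.mp hvC.2 a ha
  obtain ⟨j, hj⟩ := IsPGroup.iff_card.mp (T.isPGroup'.to_le (Esub_le T))
  obtain ⟨j', hj'⟩ := IsPGroup.iff_card.mp (T.isPGroup'.to_le ((inf_le_left : C ≤ E).trans (Esub_le T)))
  rw [hj, hj'] at hmod hne
  rw [hj]
  have hle : q ^ j' ≤ q ^ j := hj ▸ hj' ▸ card_le_of_le (inf_le_left : C ≤ E)
  have hj'lt : j' < j := by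
    rcases lt_trichotomy j' j with h | h | h
    · exact h
    · exact absurd (h ▸ rfl) hne
    · exact absurd hle (not_le.mpr (Nat.pow_lt_pow_right hq.out.one_lt h))
  refine Nat.pow_le_pow_right hq.out.pos ?_
  by_contra hlt
  obtain ⟨-, hq1, hqlt⟩ := m.prime_facts hq.out hqp
    (dvd_trans (hj ▸ dvd_pow_self q (by omega)) (card_subgroup_dvd_card (Esub T)))
  have hd : (p : ℤ) ∣ (q : ℤ) ^ j' - (q : ℤ) ^ j := by
    exact_mod_cast (Nat.modEq_iff_dvd.mp hmod)
  have hpq : ¬ (p : ℤ) ∣ (q : ℤ) := by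
    intro h
    exact hqp ((Nat.prime_dvd_prime_iff_eq hp.out hq.out).mp (Int.natCast_dvd_natCast.mp h)).symm
  have hpp := Nat.prime_iff_prime_int.mp hp.out
  have hsmall : ∀ a : ℤ, 0 < a → a < p → ¬ (p : ℤ) ∣ a := fun a h1 h2 h3 =>
    absurd (Int.le_of_dvd h1 h3) (not_le.mpr h2)
  have hq2 : (2 : ℤ) ≤ q := by exact_mod_cast hq.out.two_le
  have hqlt' : (q : ℤ) + 1 < p := by exact_mod_cast hqlt
  have hcase : (j' = 0 ∧ j = 1) ∨ (j' = 0 ∧ j = 2) ∨ (j' = 1 ∧ j = 2) := by omega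
  rcases hcase with ⟨rfl, rfl⟩ | ⟨rfl, rfl⟩ | ⟨rfl, rfl⟩
  · refine hsmall ((q : ℤ) - 1) (by linarith) (by linarith) ?_
    simpa using hd.neg_right
  · have h1 : (p : ℤ) ∣ ((q : ℤ) - 1) * ((q : ℤ) + 1) := by
      have := hd.neg_right
      rwa [show -((q : ℤ) ^ 0 - (q : ℤ) ^ 2) = ((q : ℤ) - 1) * ((q : ℤ) + 1) by ring] at this
    rcases hpp.dvd_or_dvd h1 with h | h
    · exact hsmall _ (by linarith) (by linarith) h
    · exact hsmall _ (by linarith) (by linarith) h
  · have h1 : (p : ℤ) ∣ (q : ℤ) * ((q : ℤ) - 1) := by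
      have := hd.neg_right
      rwa [show -((q : ℤ) ^ 1 - (q : ℤ) ^ 2) = (q : ℤ) * ((q : ℤ) - 1) by ring] at this
    rcases hpp.dvd_or_dvd h1 with h | h
    · exact hpq h
    · exact hsmall _ (by linarith) (by linarith) h

/-- In a solvable group with `O_p = 1` the Sylow `q`-subgroups are normal and lie in `O_{p'}`. -/
theorem sylow_normal_q (h : Ab p G) (hqp : q ≠ p) [Group.IsSolvable G] (hO : Cfsg.pCore p G = ⊥)
    (S : Sylow q G) : (S : Subgroup G).Normal ∧ (S : Subgroup G) ≤ Cfsg.pPrimeCore p G := by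
  set F := Cfsg.pPrimeCore p G with hF
  have hFc := CfsgLib.PLocal.coprime_card_pPrimeCore p G
  have hC := Cfsg.Agent.S3754.centralizer_pPrimeCore_le CfsgLib.PLocal.isPSolvable_of_isSolvable hO
  have hS : ∀ T : Sylow q G, (T : Subgroup G) ≤ F := by
    intro T t ht
    obtain ⟨k, hk⟩ := T.isPGroup' ⟨t, ht⟩
    exact hC (mem_centralizer h hFc (coprime_orderOf hqp (congrArg Subtype.val hk))
      (by rw [normalizer_eq_top F]; exact mem_top t))
  refine ⟨⟨fun s hs g => ?_⟩, hS S⟩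
  have hg : g * s * g⁻¹ ∈ F := (inferInstance : F.Normal).conj_mem s (hS S hs) g
  obtain ⟨k, hk⟩ := S.isPGroup' ⟨s, hs⟩
  have hZ : IsPGroup q (zpowers (g * s * g⁻¹)) := IsPGroup.of_card_dvd_pow (n := k) (by
    rw [Nat.card_zpowers]
    refine orderOf_dvd_of_pow_eq_one ?_
    rw [conj_pow, show s ^ q ^ k = 1 from congrArg Subtype.val hk, mul_one, mul_inv_cancel])
  have hn : zpowers (g * s * g⁻¹) ≤ normalizer ((S : Subgroup G) : Set G) :=
    zpowers_le.mpr (centralizer_le_normalizer _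
      (mem_centralizer_iff.mpr fun x hx => h.comm hFc (hS S hx) hg))
  have h2 := IsPGroup.to_sup_of_normal_left' S.isPGroup' hZ hn
  exact S.is_maximal' h2 le_sup_left ▸ mem_sup_right (mem_zpowers _)

/-- Modulo `O_p`, a Sylow `q`-subgroup of a proper subgroup is normal. -/
theorem quotient_sylow_normal (m : OMin p G) (hqp : q ≠ p) {Y : Subgroup G} (hY : Y ≠ ⊤) (S : Sylow q Y) :
    (((S : Subgroup Y).map (QuotientGroup.mk' (Cfsg.pCore p Y))).Normal ∧
      (S : Subgroup Y).map (QuotientGroup.mk' (Cfsg.pCore p Y)) ≤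
        Cfsg.pPrimeCore p (Y ⧸ Cfsg.pCore p Y)) ∧ Ab p (Y ⧸ Cfsg.pCore p Y) := by
  haveI := m.toMin.sol Y hY
  have hq : Ab p (Y ⧸ Cfsg.pCore p Y) :=
    ab_quotient (ab_subgroup m.toMin.ab Y) _ (Or.inl (CfsgLib.PLocal.isPGroup_pCore p Y))
  exact ⟨sylow_normal_q hq hqp (CfsgLib.PLocal.pCore_quotient_pCore_eq_bot p Y)
    (S.mapSurjective (QuotientGroup.mk'_surjective _)), hq⟩

/-- A subgroup containing `O_p(C(a))` and `N(T)` contains `C(a)`. -/
theorem centralizer_le (m : OMin p G) (hqp : q ≠ p) {T : Sylow q G} {a : G} (ha : a ∈ (T : Subgroup G)) (ha1 : a ≠ 1)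
    {M : Subgroup G} (hθ : theta p a ≤ M) (hN : normalizer ((T : Subgroup G) : Set G) ≤ M) :
    centralizer ({a} : Set G) ≤ M := by
  set Y := centralizer ({a} : Set G) with hY
  have hTY : (T : Subgroup G) ≤ Y := fun x hx =>
    mem_centralizer_singleton_iff.mpr (T_comm m hqp T hx ha)
  set S : Sylow q Y := T.subtype hTY
  obtain ⟨⟨hn, -⟩, -⟩ := quotient_sylow_normal m hqp (m.toMin.centralizer_ne_top ha1) S
  set Q := Cfsg.pCore p Y
  set R := ((S : Subgroup Y).map (QuotientGroup.mk' Q)).comap (QuotientGroup.mk' Q) with hR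
  haveI : R.Normal := hn.comap _
  have hRe : R = Q ⊔ (S : Subgroup Y) := by
    rw [hR, comap_map_eq, QuotientGroup.ker_mk', sup_comm]
  intro y hy
  have hSR : (S : Subgroup Y) ≤ R := le_comap_map _ _
  have := (Sylow.normalizer_sup_eq_top' S hSR).ge (mem_top (⟨y, hy⟩ : Y))
  have hle : normalizer ((S : Subgroup Y) : Set Y) ⊔ R ≤ M.subgroupOf Y := by
    rw [hRe]
    refine sup_le ?_ (sup_le (fun q hq => hθ (mem_map_of_mem _ hq)) fun s hs => hN (le_normalizer hs))
    intro z hz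
    refine hN (mem_normalizer_iff.mpr fun x => ⟨fun hx => ?_, fun hx => ?_⟩)
    · exact (mem_normalizer_iff.mp hz ⟨x, hTY hx⟩).mp hx
    · have hxY : x ∈ Y := by
        have := Y.mul_mem (Y.mul_mem (Y.inv_mem z.2) (hTY hx)) z.2
        simpa [mul_assoc] using this
      exact (mem_normalizer_iff.mp hz ⟨x, hxY⟩).mpr hx
  exact hle this

theorem theta_balance (m : OMin p G) (hqp : q ≠ p) {T : Sylow q G} {a b : G} (ha : a ∈ (T : Subgroup G))
    (hb : b ∈ (T : Subgroup G)) (hb1 : b ≠ 1) :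
    theta p a ⊓ centralizer ({b} : Set G) ≤ theta p b := by
  set Y := centralizer ({b} : Set G) with hY
  have hTY : (T : Subgroup G) ≤ Y := fun x hx =>
    mem_centralizer_singleton_iff.mpr (T_comm m hqp T hx hb)
  set S : Sylow q Y := T.subtype hTY
  obtain ⟨⟨hn, hSF⟩, hq⟩ := quotient_sylow_normal m hqp (m.toMin.centralizer_ne_top hb1) S
  set π := QuotientGroup.mk' (Cfsg.pCore p Y) with hπ
  set F := Cfsg.pPrimeCore p (Y ⧸ Cfsg.pCore p Y) with hF
  haveI := m.toMin.sol Y (m.toMin.centralizer_ne_top hb1)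
  have hFc := CfsgLib.PLocal.coprime_card_pPrimeCore p (Y ⧸ Cfsg.pCore p Y)
  have hdisj : ∀ U : Subgroup (Y ⧸ Cfsg.pCore p Y), IsPGroup p U → U ⊓ F = ⊥ := fun U hU =>
    CfsgLib.PLocal.disjoint_of_isPGroup_of_coprime hU hFc
  set X : Subgroup Y := (theta p a ⊓ Y).subgroupOf Y with hX
  have hXp : IsPGroup p (X.map π) :=
    (((isPGroup_theta (p := p) a).to_le inf_le_left).comap_subtype (K := Y)).map π
  have hcent : X.map π ≤ centralizer (F : Set (Y ⧸ Cfsg.pCore p Y)) := by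
    intro z hz
    rw [mem_centralizer_iff]
    intro f hf
    obtain ⟨y, rfl⟩ := QuotientGroup.mk'_surjective _ f
    -- adjust the preimage into `N(S)`
    set R := ((S : Subgroup Y).map π).comap π with hR
    haveI : R.Normal := hn.comap _
    have hSR : (S : Subgroup Y) ≤ R := le_comap_map _ _
    obtain ⟨u, hu, r, hr, hur⟩ := mem_sup_of_normal_right.mp
      ((Sylow.normalizer_sup_eq_top' S hSR).ge (mem_top y))
    have huF : π u ∈ F := by
      have hr' : π r ∈ F := hSF hr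
      have := F.mul_mem hf (F.inv_mem hr')
      rwa [← hur, map_mul, mul_inv_cancel_right] at this
    have huc : ∀ s ∈ (S : Subgroup Y), u * s = s * u := by
      intro s hs
      have h1 : π (u * s * u⁻¹ * s⁻¹) = 1 := by
        rw [map_mul, map_mul, map_mul, map_inv, map_inv,
          hq.comm hFc huF (hSF (mem_map_of_mem π hs)), mul_inv_cancel_right, mul_inv_cancel]
      have h2 : u * s * u⁻¹ * s⁻¹ ∈ (S : Subgroup Y) ⊓ Cfsg.pCore p Y :=
        ⟨(S : Subgroup Y).mul_mem ((mem_normalizer_iff.mp hu s).mp hs) ((S : Subgroup Y).inv_mem hs),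
          (QuotientGroup.eq_one_iff _).mp h1⟩
      rw [IsPGroup.disjoint_of_ne q p hqp _ _ S.isPGroup'
        (CfsgLib.PLocal.isPGroup_pCore p Y) |>.eq_bot, mem_bot] at h2
      exact mul_inv_eq_iff_eq_mul.mp (mul_inv_eq_one.mp h2)
    have hua : (u : G) ∈ centralizer ({a} : Set G) :=
      mem_centralizer_singleton_iff.mpr (congrArg Subtype.val (huc ⟨a, hTY ha⟩ ha))
    have hzc : ∀ z ∈ X.map π, π u * z = z * π u := by
      intro z hz
      obtain ⟨x, hx, rfl⟩ := hz
      have hx' : u * x * u⁻¹ ∈ X :=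
        ⟨(mem_normalizer_iff.mp (centralizer_le_normalizer_theta a hua) _).mp hx.1,
          (u * x * u⁻¹).2⟩
      have h1 : π u * π x * (π u)⁻¹ * (π x)⁻¹ ∈ X.map π ⊓ F := by
        refine ⟨?_, ?_⟩
        · rw [← map_inv, ← map_inv, ← map_mul, ← map_mul, ← map_mul]
          exact mem_map_of_mem π (X.mul_mem hx' (X.inv_mem hx))
        · rw [mul_assoc, mul_assoc, ← mul_assoc (π x)]
          exact F.mul_mem huF ((inferInstance : F.Normal).conj_mem _ (F.inv_mem huF) _)
      rw [hdisj _ hXp, mem_bot] at h1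
      exact mul_inv_eq_iff_eq_mul.mp (mul_inv_eq_one.mp h1)
    have hr1 : ∀ z ∈ X.map π, π r * z = z * π r := by
      intro z hz
      obtain ⟨x, hx, rfl⟩ := hz
      obtain ⟨s, hs, hsr⟩ := hr
      have hsa : (s : G) ∈ centralizer ({a} : Set G) :=
        mem_centralizer_singleton_iff.mpr (T_comm m hqp T hs ha)
      have hx' : s * x * s⁻¹ ∈ X :=
        ⟨(mem_normalizer_iff.mp (centralizer_le_normalizer_theta a hsa) _).mp hx.1, (s * x * s⁻¹).2⟩
      have h1 : π s * π x * (π s)⁻¹ * (π x)⁻¹ ∈ X.map π ⊓ F := by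
        refine ⟨?_, ?_⟩
        · rw [← map_inv, ← map_inv, ← map_mul, ← map_mul, ← map_mul]
          exact mem_map_of_mem π (X.mul_mem hx' (X.inv_mem hx))
        · rw [mul_assoc, mul_assoc, ← mul_assoc (π x)]
          exact F.mul_mem (hSF (mem_map_of_mem π hs))
            ((inferInstance : F.Normal).conj_mem _ (F.inv_mem (hSF (mem_map_of_mem π hs))) _)
      rw [hdisj _ hXp, mem_bot] at h1
      rw [← hsr]
      exact mul_inv_eq_iff_eq_mul.mp (mul_inv_eq_one.mp h1)
    rw [← hur, map_mul, mul_assoc, hr1 z hz, ← mul_assoc, hzc z hz, mul_assoc]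
  intro x hx
  have h1 : π ⟨x, hx.2⟩ ∈ X.map π := mem_map_of_mem π (show (⟨x, hx.2⟩ : Y) ∈ X from hx)
  have h2 : π ⟨x, hx.2⟩ ∈ X.map π ⊓ F := ⟨h1, Cfsg.Agent.S3754.centralizer_pPrimeCore_le
    CfsgLib.PLocal.isPSolvable_of_isSolvable (CfsgLib.PLocal.pCore_quotient_pCore_eq_bot p Y) (hcent h1)⟩
  rw [hdisj _ hXp, mem_bot] at h2
  exact ⟨⟨x, hx.2⟩, (QuotientGroup.eq_one_iff _).mp h2, rfl⟩

/-- A proper subgroup containing `N(T)` and all centralisers of involutions of `T`. -/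
theorem exists_local (m : OMin p G) (hqp : q ≠ p) (T : Sylow q G) (hT : (T : Subgroup G) ≠ ⊥) :
    ∃ M : Subgroup G, M ≠ ⊤ ∧ normalizer ((T : Subgroup G) : Set G) ≤ M ∧
      (∀ a ∈ Esub T, a ≠ 1 → centralizer ({a} : Set G) ≤ M) ∧
      (M ≤ normalizer (Esub T : Set G) ∨
        ∃ W : Subgroup G, W ≠ ⊥ ∧ IsPGroup p W ∧ W ≤ M ∧ M ≤ normalizer (W : Set G)) := by
  set A := Esub T with hA
  have hAT := Esub_le T
  have hel : Cfsg.IsElementaryAbelian q A :=
    ⟨comm_q m hqp (T.isPGroup'.to_le hAT), fun a ha => ((mem_Esub m hqp).mp ha).2⟩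
  have hθ : Cfsg.IsSolvableSignalizerFunctor q A (theta p) := by
    refine ⟨⟨fun a _ _ => map_subtype_le _, fun a _ _ => ?_, fun a ha _ b hb x hx => ?_,
      fun a ha _ b hb hb1 => theta_balance m hqp (hAT ha) (hAT hb) hb1⟩, fun a _ _ => ?_⟩
    · obtain ⟨k, hk⟩ := IsPGroup.iff_card.mp (isPGroup_theta (p := p) a)
      rw [hk]
      exact fun hd => hqp ((Nat.prime_dvd_prime_iff_eq hq.out hp.out).mp (hq.out.dvd_of_dvd_pow hd))
    · exact (mem_normalizer_iff.mp (centralizer_le_normalizer_theta a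
        (mem_centralizer_singleton_iff.mpr (T_comm m hqp T (hAT hb) (hAT ha)))) x).mp hx
    · have := (isPGroup_theta (p := p) a).isNilpotent
      infer_instance
  have hA3 := card_Esub m hqp T hT
  obtain ⟨a₀, ha₀, ha₀1⟩ : ∃ a ∈ A, a ≠ 1 := by
    by_contra! h
    rw [← hA, (Subgroup.eq_bot_iff_forall A).mpr h, Subgroup.card_bot] at hA3
    have := Nat.one_lt_pow (n := 3) (by norm_num) hq.out.one_lt
    omega
  obtain ⟨Q, -, hQ⟩ := CfsgLib.Transitivity.exists_maximalMember_ge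
    (CfsgLib.Transitivity.mem_family_theta hθ ha₀ ha₀1) (isPGroup_theta (p := p) a₀)
  have hθQ : ∀ a ∈ A, a ≠ 1 → theta p a ≤ Q := by
    intro a ha ha1
    obtain ⟨c, hc, S, hS⟩ := CfsgLib.Transitivity.exists_sylow_map_eq_conj_inf hel hA3 hθ hQ
      (CfsgLib.Transitivity.mem_family_theta hθ ha ha1)
    have htop : (S : Subgroup ↥(theta p a)) = ⊤ :=
      (S.is_maximal' ((isPGroup_theta (p := p) a).to_subgroup ⊤) le_top).symm
    rw [htop, ← MonoidHom.range_eq_map, Subgroup.range_subtype] at hS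
    intro x hx
    have hcx : c * x * c⁻¹ ∈ theta p a :=
      mul_mem (mul_mem (CfsgLib.Transitivity.mem_signalizerInf.mp hc a ha ha1) hx)
        (inv_mem (CfsgLib.Transitivity.mem_signalizerInf.mp hc a ha ha1))
    obtain ⟨y, hy, hye⟩ := (Subgroup.mem_inf.mp (hS.le hcx)).1
    simp only [MulEquiv.coe_toMonoidHom, MulAut.conj_apply, mul_left_inj, mul_right_inj] at hye
    exact hye ▸ hy
  set W : Subgroup G := ⨆ a : {a : G // a ∈ A ∧ a ≠ 1}, theta p (a : G) with hW
  have hWp : IsPGroup p W := hQ.2.1.to_le (iSup_le fun a => hθQ a a.2.1 a.2.2)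
  have hθW : ∀ a ∈ A, a ≠ 1 → theta p a ≤ W := fun a ha ha1 =>
    le_iSup (fun a : {a : G // a ∈ A ∧ a ≠ 1} => theta p (a : G)) ⟨a, ha, ha1⟩
  by_cases hWb : W = ⊥
  · refine ⟨normalizer ((T : Subgroup G) : Set G), m.toMin.normalizer_ne_top hT (m.toMin.isPGroup_ne_top T.isPGroup'),
      le_rfl, fun a ha ha1 => centralizer_le m hqp (hAT ha) ha1 ?_ le_rfl,
      Or.inl (normalizer_le_normalizer_Esub m hqp T)⟩
    exact ((hθW a ha ha1).trans hWb.le).trans bot_le
  · have hTW : normalizer ((T : Subgroup G) : Set G) ≤ normalizer (W : Set G) := by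
      intro n hn
      refine mem_normalizer_fintype fun x hx => ?_
      have hle : W.map (MulAut.conj n).toMonoidHom ≤ W := by
        rw [hW, Subgroup.map_iSup]
        refine iSup_le fun a => (theta_conj (p := p) (a : G) n).trans ?_
        refine hθW _ ((mem_normalizer_iff.mp (normalizer_le_normalizer_Esub m hqp T hn) _).mp a.2.1) ?_
        intro h1
        exact a.2.2 (by simpa using h1)
      exact hle (mem_map_of_mem _ hx)
    exact ⟨normalizer (W : Set G), m.toMin.normalizer_ne_top hWb (m.toMin.isPGroup_ne_top hWp), hTW,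
      fun a ha ha1 => centralizer_le m hqp (hAT ha) ha1 ((hθW a ha ha1).trans le_normalizer) hTW,
      Or.inr ⟨W, hWb, hWp, le_normalizer, le_rfl⟩⟩

end CfsgLib.Techniques.AbSub.Odd
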