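import Cfsg.Agent.Techniques.AbSub.OddStruct

/-!
# All elements of order prime to `p` of a local maximal subgroup lie in its `p'`-core
-/

set_option autoImplicit false

universe u

namespace CfsgLib.Techniques.AbSub.Odd

open Subgroup CfsgLib.ConjFunctor
open scoped CfsgLib.ConjFunctor commutatorElement Pointwise

variable {p : ℕ} [hp : Fact p.Prime] {G : Type u} [Group G] [Finite G]
variable {M : Subgroup G}

theorem le_locD_of {A : Subgroup G} (hAM : A ≤ M) (hn : M ≤ normalizer (A : Set G))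
    (hc : (Nat.card A).Coprime p) : A ≤ locD p M := by
  haveI : (A.subgroupOf M).Normal := (normal_subgroupOf_iff_le_normalizer hAM).mpr hn
  have h : A.subgroupOf M ≤ Cfsg.pPrimeCore p M := CfsgLib.PLocal.le_pPrimeCore
    (by rwa [Nat.card_congr (subgroupOfEquivOfLe hAM).toEquiv])
  exact fun a ha => ⟨⟨a, hAM ha⟩, h ha, rfl⟩

theorem cj_locD_le (g : G) : g *• locD p M ≤ locD p (g *• M) := by
  refine le_locD_of (cj_mono g (map_subtype_le _)) ?_ (by rw [card_cj]; exact coprime_locD)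
  rintro _ ⟨m, hm, rfl⟩
  refine mem_normalizer_fintype ?_
  rintro _ ⟨d, hd, rfl⟩
  refine ⟨m * d * m⁻¹, (mem_normalizer_iff.mp (le_normalizer_locD hm) d).mp hd, ?_⟩
  simp [mul_assoc]

/-- A `p'`-element of `M` normalising a Sylow `p`-subgroup of `M` is trivial. -/
theorem Loc.eq_one_of_normalizes (l : Loc p M) (m : OMin p G) {P2 : Subgroup G}
    (hP : IsSylowIn p P2 M) {u : G} (hu : u ∈ M) (hun : u ∈ normalizer (P2 : Set G))
    (hc : (orderOf u).Coprime p) : u = 1 := by
  haveI := m.toMin.sol M l.coatom.1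
  refine l.eq_one_of_central_mod m (isPGroup_locO (p := p) (M := M)) le_normalizer_locO hu hc fun n hn => ?_
  have hab := ab_subgroup m.toMin.ab M
  let S : Sylow p M := (hP.2.1.comap_subtype (K := M)).toSylow hP.2.2
  have hSdef : ∀ s : M, s ∈ (S : Subgroup M) ↔ (s : G) ∈ P2 := fun s => Iff.rfl
  set π := QuotientGroup.mk' (Cfsg.pCore p M) with hπ
  set F := Cfsg.pPrimeCore p (M ⧸ Cfsg.pCore p M) with hF
  set K := ppCore p M with hK
  set u' : M := ⟨u, hu⟩
  have hu' : π u' ∈ F := mem_ppCore hab (by rw [← Subgroup.orderOf_coe]; exact hc)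
  have hFc := CfsgLib.PLocal.coprime_card_pPrimeCore p (M ⧸ Cfsg.pCore p M)
  have hq := ab_quotient hab _ (Or.inl (CfsgLib.PLocal.isPGroup_pCore p M))
  have hKc : ∀ k ∈ K, π k * π u' = π u' * π k := fun k hk => hq.comm hFc hk hu'
  have hSc : ∀ s ∈ (S : Subgroup M), π s * π u' = π u' * π s := by
    intro s hs
    refine commutatorElement_eq_one_iff_mul_comm.mp (eq_one_of_mem_of_mem (S.isPGroup'.map π) hFc ?_ ?_)
    · rw [← map_commutatorElement]
      refine mem_map_of_mem π ?_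
      rw [commutatorElement_def, mul_assoc, mul_assoc, ← mul_assoc u']
      refine mul_mem hs ?_
      show (u : G) * (s : G)⁻¹ * u⁻¹ ∈ P2
      exact (mem_normalizer_iff.mp hun _).mp (inv_mem hs)
    · rw [commutatorElement_def]
      exact mul_mem ((inferInstance : F.Normal).conj_mem _ hu' _) (inv_mem hu')
  have hnc : π ⟨n, hn⟩ * π u' = π u' * π ⟨n, hn⟩ := by
    have htop : (S : Subgroup M).map (QuotientGroup.mk' K) = ⊤ :=
      ((S.mapSurjective (QuotientGroup.mk'_surjective K)).is_maximal'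
        ((isPGroup_quotient_ppCore hab).to_subgroup ⊤) le_top).symm
    obtain ⟨s, hs, he⟩ := htop.ge (mem_top (QuotientGroup.mk' K ⟨n, hn⟩))
    have hk : (⟨n, hn⟩ : M) * s⁻¹ ∈ K := by
      rw [← QuotientGroup.eq_one_iff]
      show QuotientGroup.mk' K _ = 1
      rw [map_mul, map_inv, he, mul_inv_cancel]
    have h1 := hKc _ hk
    have h2 := hSc s hs
    calc π ⟨n, hn⟩ * π u' = π ((⟨n, hn⟩ : M) * s⁻¹) * (π s * π u') := by
          rw [← mul_assoc, ← map_mul π ((⟨n, hn⟩ : M) * s⁻¹) s, inv_mul_cancel_right]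
      _ = (π ((⟨n, hn⟩ : M) * s⁻¹) * π u') * π s := by rw [h2, mul_assoc]
      _ = π u' * π ⟨n, hn⟩ := by rw [h1, mul_assoc, ← map_mul, inv_mul_cancel_right]
  refine ⟨⁅(⟨n, hn⟩ : M), u'⁆, (QuotientGroup.eq_one_iff _).mp ?_, rfl⟩
  show π _ = 1
  rw [map_commutatorElement]
  exact commutatorElement_eq_one_iff_mul_comm.mpr hnc

theorem Loc.sylowIn_ne_bot (l : Loc p M) (m : OMin p G) {P2 : Subgroup G} (hP : IsSylowIn p P2 M) :
    P2 ≠ ⊥ := by
  intro h
  obtain ⟨⟨d, hd⟩, hd1⟩ := exists_ne_one_of_ne_bot (l.locD_ne_bot m)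
  refine hd1 (Subtype.ext (l.eq_one_of_fix m hP hd (mem_centralizer_iff.mpr fun y hy => ?_)))
  rw [SetLike.mem_coe, h, mem_bot] at hy
  rw [hy, one_mul, mul_one]
where
  exists_ne_one_of_ne_bot {A : Subgroup G} (h : A ≠ ⊥) : ∃ a : A, a ≠ 1 := by
    by_contra! hh
    exact h ((eq_bot_iff_forall A).mpr fun a ha => congrArg Subtype.val (hh ⟨a, ha⟩))

/-- Another conjugate shares the Sylow `p`-subgroup. -/
theorem Loc.exists_partner (l : Loc p M) (m : OMin p G) {P2 : Subgroup G} (hP : IsSylowIn p P2 M) :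
    ∃ g ∈ normalizer (P2 : Set G), g ∉ M := by
  obtain ⟨P3, hP3⟩ := hP.2.1.exists_le_sylow
  by_cases heq : P2 = (P3 : Subgroup G)
  · obtain ⟨-, u, hu, hu1, huc⟩ := m.zj_facts P3 (heq ▸ l.sylowIn_ne_bot m hP)
    rw [← heq] at hu
    exact ⟨u, hu, fun h => hu1 (l.eq_one_of_normalizes m hP h hu huc)⟩
  · have h1 := lt_inf_normalizer P3.isPGroup' (lt_of_le_of_ne hP3 heq)
    obtain ⟨g, hg, hg2⟩ := SetLike.exists_of_lt h1
    refine ⟨g, hg.2, fun hgM => hg2 ?_⟩
    have hle : P2 ⊔ zpowers g ≤ (P3 : Subgroup G) := sup_le hP3 (zpowers_le.mpr hg.1)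
    rw [← hP.eq_of_le (A := P2 ⊔ zpowers g) le_sup_left (sup_le hP.1 (zpowers_le.mpr hgM))
      (P3.isPGroup'.to_le hle)]
    exact mem_sup_right (mem_zpowers g)

theorem Loc.commute_locO_locD {o d : G} (ho : o ∈ locO p M) (hd : d ∈ locD p M) : o * d = d * o := by
  refine commutatorElement_eq_one_iff_mul_comm.mp (eq_one_of_mem_of_mem isPGroup_locO coprime_locD
    (A := locO p M) (B := locD p M) ?_ ?_)
  · rw [commutatorElement_def, mul_assoc, mul_assoc, ← mul_assoc d]
    exact mul_mem ho ((mem_normalizer_iff.mp (le_normalizer_locO (map_subtype_le _ hd)) _).mp (inv_mem ho))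
  · rw [commutatorElement_def]
    exact mul_mem ((mem_normalizer_iff.mp (le_normalizer_locD (map_subtype_le _ ho)) _).mp hd) (inv_mem hd)

/-- The elements of order `p` of `O_p(M)` form one subgroup of order `p`. -/
theorem Loc.order_p_mem_zpowers (l : Loc p M) (m : OMin p G) {P2 : Subgroup G} (hP : IsSylowIn p P2 M)
    {g : G} (hg : g ∈ normalizer (P2 : Set G)) (hgM : g ∉ M) {z b : G} (hz : z ∈ locO p M)
    (hzo : orderOf z = p) (hb : b ∈ locO p M) (hbo : orderOf b = p) (hzb : z * b = b * z) :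
    b ∈ zpowers z := by
  by_contra hbz
  set A := Subgroup.closure ({z, b} : Set G) with hA
  have hAO : A ≤ locO p M := (Subgroup.closure_le _).mpr (by rintro y (rfl | rfl) <;> assumption)
  have hAc : ∀ x ∈ ({z, b} : Set G), ∀ y ∈ ({z, b} : Set G), x * y = y * x := by
    rintro x (rfl | rfl) y (rfl | rfl)
    exacts [rfl, hzb, hzb.symm, rfl]
  haveI := Subgroup.isMulCommutative_closure hAc
  have hexp : ∀ a : A, a ^ p = 1 := by
    rintro ⟨a, ha⟩
    refine Subtype.ext ?_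
    show a ^ p = 1
    induction ha using Subgroup.closure_induction with
    | mem y hy => rcases hy with rfl | rfl
                  · rw [← hzo, pow_orderOf_eq_one]
                  · rw [← hbo, pow_orderOf_eq_one]
    | one => exact one_pow p
    | mul x y hx hy ihx ihy =>
      rw [(show Commute x y from congrArg Subtype.val (mul_comm' (⟨x, hx⟩ : A) ⟨y, hy⟩)).mul_pow, ihx, ihy, one_mul]
    | inv x _ ih => rw [inv_pow, ih, inv_one]
  have hnc : ¬ IsCyclic A := by
    intro hc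
    have h1 : Nat.card A ∣ p := by
      rw [← hc.exponent_eq_card]; exact Monoid.exponent_dvd_of_forall_pow_eq_one hexp
    have h2 : zpowers z = A := eq_of_le_of_card_ge (zpowers_le.mpr (subset_closure (Or.inl rfl)))
      (by rw [Nat.card_zpowers, hzo]; exact Nat.le_of_dvd hp.out.pos h1)
    exact hbz (h2 ▸ subset_closure (Or.inr rfl))
  set A' := g *• A with hA'
  have hA'P : A' ≤ P2 :=
    (cj_mono g (hAO.trans (locO_le_sylowIn hP))).trans (cj_eq_of_mem_normalizer hg).le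
  haveI : IsMulCommutative A' := ⟨⟨by
    rintro ⟨_, x, hx, rfl⟩ ⟨_, y, hy, rfl⟩
    refine Subtype.ext ?_
    show MulAut.conj g x * MulAut.conj g y = MulAut.conj g y * MulAut.conj g x
    rw [← map_mul, ← map_mul,
      show x * y = y * x from congrArg Subtype.val (mul_comm' (⟨x, hx⟩ : A) ⟨y, hy⟩)]⟩⟩
  have hA'c : ¬ IsCyclic A' := fun h => hnc
    ((A.equivMapOfInjective (MulAut.conj g).toMonoidHom (MulAut.conj g).injective).isCyclic.mpr h)
  refine l.locD_ne_bot m (le_bot_iff.mp (CfsgLib.Coprime.le_of_forall_inf_centralizer_le hA'c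
    ((hA'P.trans hP.1).trans le_normalizer_locD) ?_ fun a ha ha1 => ?_))
  · obtain ⟨k, hk⟩ := IsPGroup.iff_card.mp (hP.2.1.to_le hA'P)
    rw [hk]
    exact coprime_locD.symm.pow_left k
  rintro d ⟨hd, hda⟩
  rw [mem_bot]
  by_contra hd1
  obtain ⟨y, hy, hye⟩ := id ha
  obtain ⟨⟨e0, he0⟩, he01⟩ := Loc.sylowIn_ne_bot.exists_ne_one_of_ne_bot (l.locD_ne_bot m)
  have hne : M ≠ g *• M := fun h => hgM (by
    rw [← l.normalizer_eq m]; exact mem_normalizer_of_cj_le h.ge)
  have hP' : IsSylowIn p P2 (g *• M) := by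
    have := hP.cj g; rwa [cj_eq_of_mem_normalizer hg] at this
  refine disjoint_bad l (l.cj g) m hne hP hP' (hA'P ha) ha1 hd hd1
    (mem_centralizer_singleton_iff.mp hda).symm (cj_locD_le g (conj_mem_cj g he0))
    (fun h => he01 (Subtype.ext (_root_.conj_eq_one_iff.mp h))) ?_
  rw [← hye]
  show g * y * g⁻¹ * (g * e0 * g⁻¹) = g * e0 * g⁻¹ * (g * y * g⁻¹)
  calc g * y * g⁻¹ * (g * e0 * g⁻¹) = g * (y * e0) * g⁻¹ := by group
    _ = g * (e0 * y) * g⁻¹ := by rw [Loc.commute_locO_locD (hAO hy) he0]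
    _ = g * e0 * g⁻¹ * (g * y * g⁻¹) := by group

/-- An element of order prime to `p` of `M` centralises `O_p(M)`. -/
theorem Loc.centralizes_locO (l : Loc p M) (m : OMin p G) {x : G} (hx : x ∈ M)
    (hc : (orderOf x).Coprime p) : x ∈ centralizer (locO p M : Set G) := by
  have hp2 : p ≠ 2 := by have := m.five; omega
  set O := locO p M with hO
  by_cases hOb : O = ⊥
  · refine mem_centralizer_iff.mpr fun y hy => ?_
    rw [SetLike.mem_coe, hOb, mem_bot] at hy
    rw [hy, one_mul, mul_one]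
  obtain ⟨P2, -, hP⟩ := exists_isSylowIn_ge (p := p) (bot_le : (⊥ : Subgroup G) ≤ M) IsPGroup.of_bot
  obtain ⟨g, hg, hgM⟩ := l.exists_partner m hP
  haveI : Nontrivial O := (nontrivial_iff_ne_bot _).mpr hOb
  have hOp : IsPGroup p O := isPGroup_locO
  haveI := hOp.center_nontrivial
  obtain ⟨n, hn0, hn⟩ := ((hOp.to_subgroup (center O))).nontrivial_iff_card.mp inferInstance
  obtain ⟨z', hz'⟩ := exists_prime_orderOf_dvd_card' (G := center O) p
    (hn ▸ dvd_pow_self p (Nat.pos_iff_ne_zero.mp hn0))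
  set z : G := ((z' : O) : G) with hz
  have hzo : orderOf z = p := by rw [hz, Subgroup.orderOf_coe, Subgroup.orderOf_coe, hz']
  have hzO : z ∈ O := (z' : O).2
  have hzc : ∀ b ∈ O, z * b = b * z := fun b hb =>
    (congrArg Subtype.val (mem_center_iff.mp z'.2 ⟨b, hb⟩)).symm
  have huniq : ∀ b ∈ O, orderOf b = p → b ∈ zpowers z := fun b hb hbo =>
    l.order_p_mem_zpowers m hP hg hgM hzO hzo hb hbo (hzc b hb)
  have hact : ∀ a ∈ M, ∃ i : ℕ, a * z * a⁻¹ = z ^ i := fun a ha => by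
    obtain ⟨i, hi⟩ := (isOfFinOrder_of_finite z).mem_powers_iff_mem_zpowers.mpr
      (huniq _ ((mem_normalizer_iff.mp (le_normalizer_locO ha) z).mp hzO) (by rw [orderOf_conj', hzo]))
    exact ⟨i, hi.symm⟩
  have hM : M ⊓ centralizer ({z} : Set G) = M := by
    refine eq_of_forall_sylow inf_le_left fun r hr hrM => ?_
    haveI := Fact.mk hr
    by_cases hrp : r = p
    · subst hrp
      refine ⟨P2, le_inf hP.1 fun n hn => mem_centralizer_singleton_iff.mpr ?_, hP.2.2⟩
      obtain ⟨i, hi⟩ := hact n (hP.1 hn)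
      obtain ⟨k, hk⟩ := hP.2.1 ⟨n, hn⟩
      have hpow : ∀ t : ℕ, n ^ t * z * (n ^ t)⁻¹ = z ^ i ^ t := by
        intro t
        induction t with
        | zero => simp
        | succ t ih =>
          calc n ^ (t + 1) * z * (n ^ (t + 1))⁻¹ = n * (n ^ t * z * (n ^ t)⁻¹) * n⁻¹ := by
                rw [pow_succ']; group
            _ = (n * z * n⁻¹) ^ i ^ t := by rw [ih, conj_pow]
            _ = z ^ i ^ (t + 1) := by rw [hi, ← pow_mul, pow_succ']
      have h1 := hpow (r ^ k)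
      rw [show n ^ r ^ k = 1 from congrArg Subtype.val hk, one_mul, inv_one, mul_one] at h1
      have h2 : i ^ r ^ k ≡ 1 [MOD r] := by
        have := pow_eq_pow_iff_modEq.mp (h1.symm.trans (pow_one z).symm)
        rwa [hzo] at this
      have h3 : (i : ZMod r) = 1 := by
        have := (ZMod.natCast_eq_natCast_iff _ _ _).mpr h2
        rwa [Nat.cast_pow, ZMod.pow_card_pow, Nat.cast_one] at this
      have h4 : z ^ i = z := by
        nth_rw 2 [← pow_one z]
        refine pow_eq_pow_iff_modEq.mpr ?_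
        rw [hzo]
        exact (ZMod.natCast_eq_natCast_iff _ _ _).mp (by rw [h3, Nat.cast_one])
      exact mul_inv_eq_iff_eq_mul.mp (hi.trans h4)
    · obtain ⟨R, -, hR⟩ := exists_isSylowIn_ge (p := r) (bot_le : (⊥ : Subgroup G) ≤ M) IsPGroup.of_bot
      refine ⟨R, le_inf hR.1 ?_, hR.2.2⟩
      obtain ⟨u, hu⟩ := exists_prime_orderOf_dvd_card' (G := R) r (by
        by_contra hd
        refine hR.2.2 ?_
        have h5 : Nat.card R * R.relIndex M = Nat.card M := CfsgLib.PLocal.card_mul_relIndex hR.1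
        exact ((Fact.out : r.Prime).dvd_mul.mp (h5 ▸ hrM)).resolve_left hd)
      have huo : orderOf (u : G) = r := by rw [Subgroup.orderOf_coe, hu]
      have hu1 : (u : G) ≠ 1 := fun h => by rw [h, orderOf_one] at huo; exact hr.ne_one huo.symm
      have huc : (orderOf (u : G)).Coprime p := huo ▸ (Nat.coprime_primes hr hp.out).mpr hrp
      obtain ⟨R', hR'⟩ := hR.2.1.exists_le_sylow
      have hR'c := comm_q m hrp R'.isPGroup'
      have hR'M : (R' : Subgroup G) ≤ M := fun y hy => l.cent_le m (hR.1 u.2) hu1 huc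
        (mem_centralizer_singleton_iff.mpr
          (congrArg Subtype.val (hR'c.is_comm.comm ⟨y, hy⟩ ⟨u, hR' u.2⟩)))
      have heq : (R' : Subgroup G) = R := hR.eq_of_le hR' hR'M R'.isPGroup'
      have hNM : normalizer ((R' : Subgroup G) : Set G) ≤ M := fun y hy =>
        l.mem_of_conj_mem m (hR.1 u.2) hu1 huc (hR'M ((mem_normalizer_iff.mp hy _).mp (hR' u.2)))
      rw [← heq]
      refine ((m.toMin.sylow_le_commutator R' hR'c).trans (commutator_mono hNM hNM)).trans ?_
      rw [commutator_le]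
      intro a ha b hb
      obtain ⟨i, hi⟩ := hact a⁻¹ (inv_mem ha)
      obtain ⟨j, hj⟩ := hact b⁻¹ (inv_mem hb)
      have e1 : (a⁻¹ * b⁻¹) * z * (a⁻¹ * b⁻¹)⁻¹ = (b⁻¹ * a⁻¹) * z * (b⁻¹ * a⁻¹)⁻¹ := by
        calc (a⁻¹ * b⁻¹) * z * (a⁻¹ * b⁻¹)⁻¹ = a⁻¹ * (b⁻¹ * z * b⁻¹⁻¹) * a⁻¹⁻¹ := by group
          _ = z ^ (i * j) := by rw [hj, ← conj_pow, hi, ← pow_mul]
          _ = z ^ (j * i) := by rw [mul_comm]
          _ = b⁻¹ * (a⁻¹ * z * a⁻¹⁻¹) * b⁻¹⁻¹ := by rw [hi, ← conj_pow, hj, ← pow_mul]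
          _ = (b⁻¹ * a⁻¹) * z * (b⁻¹ * a⁻¹)⁻¹ := by group
      rw [mem_centralizer_singleton_iff, commutatorElement_def]
      calc a * b * a⁻¹ * b⁻¹ * z
          = a * b * ((a⁻¹ * b⁻¹) * z * (a⁻¹ * b⁻¹)⁻¹) * (a⁻¹ * b⁻¹) := by group
        _ = a * b * ((b⁻¹ * a⁻¹) * z * (b⁻¹ * a⁻¹)⁻¹) * (a⁻¹ * b⁻¹) := by rw [e1]
        _ = z * (a * b * a⁻¹ * b⁻¹) := by group
  have hxN : x ∈ normalizer (O : Set G) := le_normalizer_locO hx
  let φ : normalizer (O : Set G) →* MulAut O := O.normalizerMonoidHom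
  have hφ := Cfsg.Agent.S0120.result hp2 hOp (φ ⟨x, hxN⟩)
    (hc.coprime_dvd_left ((orderOf_map_dvd φ _).trans (Subgroup.orderOf_mk _ _).dvd))
    (fun b hb => Subtype.ext (by
      show x * (b : G) * x⁻¹ = b
      rcases eq_or_ne b 1 with rfl | hb1
      · simp
      have hbo : orderOf (b : G) = p := by rw [Subgroup.orderOf_coe]; exact orderOf_eq_prime hb hb1
      obtain ⟨i, hi⟩ := mem_zpowers_iff.mp (huniq b b.2 hbo)
      rw [mul_inv_eq_iff_eq_mul, ← hi]
      exact ((show Commute x z from mem_centralizer_singleton_iff.mp (hM.ge hx).2).zpow_right i).eq))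
  refine mem_centralizer_iff.mpr fun b hb => ?_
  have h6 : x * b * x⁻¹ = b := congrArg Subtype.val (congrArg (fun f : MulAut O => f ⟨b, hb⟩) hφ)
  exact (mul_inv_eq_iff_eq_mul.mp h6).symm

/-- All elements of order prime to `p` of `M` lie in `O_{p'}(M)`. -/
theorem Loc.mem_locD (l : Loc p M) (m : OMin p G) {x : G} (hx : x ∈ M)
    (hc : (orderOf x).Coprime p) : x ∈ locD p M := by
  haveI := m.toMin.sol M l.coatom.1
  have hab := ab_subgroup m.toMin.ab M
  set Sx : Set G := {y | y ∈ M ∧ (orderOf y).Coprime p} with hSx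
  have hcomm : ∀ a ∈ Sx, ∀ b ∈ Sx, a * b = b * a := by
    rintro a ⟨ha, hac⟩ b ⟨hb, hbc⟩
    have hcO : ⁅a, b⁆ ∈ locO p M := by
      refine ⟨⁅(⟨a, ha⟩ : M), (⟨b, hb⟩ : M)⁆, (QuotientGroup.eq_one_iff _).mp ?_, rfl⟩
      show QuotientGroup.mk' (Cfsg.pCore p M) _ = 1
      rw [map_commutatorElement]
      refine commutatorElement_eq_one_iff_mul_comm.mpr ((ab_quotient hab _
        (Or.inl (CfsgLib.PLocal.isPGroup_pCore p M))).comm (CfsgLib.PLocal.coprime_card_pPrimeCore p _) ?_ ?_)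
      · exact mem_ppCore hab (by rwa [← Subgroup.orderOf_coe])
      · exact mem_ppCore hab (by rwa [← Subgroup.orderOf_coe])
    set c := ⁅a, b⁆ with hc'
    have hcb : Commute c b := mem_centralizer_iff.mp (l.centralizes_locO m hb hbc) c hcO
    have hcb1 : a * b * a⁻¹ = c * b := by rw [hc', commutatorElement_def]; group
    have h1 : c ^ orderOf b = 1 := by
      have := congrArg (· ^ orderOf b) hcb1
      simp only [conj_pow, hcb.mul_pow, pow_orderOf_eq_one, mul_one, mul_inv_cancel] at this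
      exact this.symm
    obtain ⟨k, hk⟩ := (isPGroup_locO (p := p) (M := M)) ⟨c, hcO⟩
    exact commutatorElement_eq_one_iff_mul_comm.mp (orderOf_eq_one_iff.mp
      (Nat.eq_one_of_dvd_coprimes (hbc.pow_right k) (orderOf_dvd_of_pow_eq_one h1)
        (orderOf_dvd_of_pow_eq_one (congrArg Subtype.val hk))))
  haveI := Subgroup.isMulCommutative_closure hcomm
  refine le_locD_of (A := Subgroup.closure Sx) ((Subgroup.closure_le _).mpr fun y hy => hy.1) ?_ ?_
    (subset_closure ⟨hx, hc⟩)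
  · intro a ha
    refine mem_normalizer_of_cj_le ?_
    rw [MonoidHom.map_closure, Subgroup.closure_le]
    rintro _ ⟨y, ⟨hy, hyc⟩, rfl⟩
    exact subset_closure ⟨M.mul_mem (M.mul_mem ha hy) (M.inv_mem ha), by
      show (orderOf (a * y * a⁻¹)).Coprime p
      rwa [orderOf_conj']⟩
  · refine (hp.out.coprime_iff_not_dvd.mpr fun hd => ?_).symm
    obtain ⟨y, hy⟩ := exists_prime_orderOf_dvd_card' (G := Subgroup.closure Sx) p hd
    have hall : ∀ w ∈ Subgroup.closure Sx, (orderOf w).Coprime p := by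
      intro w hw
      induction hw using Subgroup.closure_induction with
      | mem v hv => exact hv.2
      | one => rw [orderOf_one]; exact Nat.coprime_one_left p
      | mul v w hv hw ihv ihw =>
        have hvw : Commute v w := congrArg Subtype.val
          (mul_comm' (⟨v, hv⟩ : Subgroup.closure Sx) ⟨w, hw⟩)
        exact (ihv.mul_left ihw).coprime_dvd_left hvw.orderOf_mul_dvd_mul_orderOf
      | inv v _ ih => rwa [orderOf_inv]
    exact hp.out.ne_one (Nat.eq_one_of_dvd_coprimes (hall y y.2) (by rw [Subgroup.orderOf_coe, hy]) dvd_rfl)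

end CfsgLib.Techniques.AbSub.Odd
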