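import Cfsg.Agent.Techniques.AbSub.OddEmb
import Cfsg.Agent.S0120

/-!
# The maximal subgroups are split extensions of abelian groups by `p`-groups
-/

set_option autoImplicit false

universe u

namespace CfsgLib.Techniques.AbSub.Odd

open Subgroup CfsgLib.ConjFunctor
open scoped CfsgLib.ConjFunctor commutatorElement Pointwise

variable {p : ℕ} [hp : Fact p.Prime] {G : Type u} [Group G] [Finite G]
variable {M N : Subgroup G}

theorem Loc.cent_le (l : Loc p M) (m : OMin p G) {x : G} (hx : x ∈ M) (hx1 : x ≠ 1)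
    (hc : (orderOf x).Coprime p) : centralizer ({x} : Set G) ≤ M :=
  l.uniq x hx hx1 hc _ (m.toMin.centralizer_ne_top hx1) le_rfl

theorem Loc.normalizer_eq (l : Loc p M) (m : OMin p G) : normalizer (M : Set G) = M := by
  refine (l.coatom.le_iff.mp le_normalizer).resolve_left ?_
  refine m.toMin.normalizer_ne_top ?_ l.coatom.1
  obtain ⟨x, hx, hx1, -⟩ := l.ex
  exact fun h => hx1 (mem_bot.mp (h ▸ hx))

omit hp [Finite G] in
theorem orderOf_conj' (g x : G) : orderOf (g * x * g⁻¹) = orderOf x := by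
  rw [show g * x * g⁻¹ = MulAut.conj g x from rfl, MulEquiv.orderOf_eq]

theorem Loc.mem_of_conj_mem (l : Loc p M) (m : OMin p G) {x g : G} (hx : x ∈ M) (hx1 : x ≠ 1)
    (hc : (orderOf x).Coprime p) (hg : g * x * g⁻¹ ∈ M) : g ∈ M := by
  have hXt : g *• M ≠ (⊤ : Subgroup G) := fun h => l.coatom.1 (by
    rw [← cj_one M, ← inv_mul_cancel g, ← cj_cj, h]
    exact map_top_of_surjective _ (MulAut.conj g⁻¹).surjective)
  have hle : g *• M ≤ M := l.uniq _ hg (fun h => hx1 (_root_.conj_eq_one_iff.mp h))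
    (by rwa [orderOf_conj']) _ hXt fun c hc' => by
      have h := conj_mem_centralizer (h := g⁻¹) hc'
      rw [show g⁻¹ * (g * x * g⁻¹) * g⁻¹⁻¹ = x by group, inv_inv] at h
      exact mem_cj.mpr (l.cent_le m hx hx1 hc h)
  rw [← l.normalizer_eq m]
  exact mem_normalizer_of_cj_le hle

theorem Loc.eq_of_mem (l : Loc p M) (l' : Loc p N) (m : OMin p G) {x : G} (hx : x ∈ M) (hx' : x ∈ N)
    (hx1 : x ≠ 1) (hc : (orderOf x).Coprime p) : M = N := by
  have h := l.uniq x hx hx1 hc N l'.coatom.1 (l'.cent_le m hx' hx1 hc)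
  exact ((l'.coatom.le_iff.mp h).resolve_left l.coatom.1)

omit [Finite G] hp in
theorem isCoatom_cj {g : G} (h : IsCoatom M) : IsCoatom (g *• M) :=
  isCoatom_map_equiv _ h
where
  isCoatom_map_equiv (e : G ≃* G) (h : IsCoatom M) : IsCoatom (M.map e.toMonoidHom) :=
    ⟨fun he => h.1 (by
      rw [← comap_map_eq_self_of_injective (f := e.toMonoidHom) e.injective M, show M.map e.toMonoidHom = ⊤ from he, comap_top]),
    fun X hX => by
      have h1 : M < X.comap e.toMonoidHom := by
        rw [← comap_map_eq_self_of_injective (f := e.toMonoidHom) e.injective M]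
        exact (comap_lt_comap_of_surjective (f := e.toMonoidHom) e.surjective).mpr hX
      rw [← map_comap_eq_self_of_surjective (f := e.toMonoidHom) e.surjective X, h.2 _ h1, map_top_of_surjective _ e.surjective]⟩

theorem Loc.cj (l : Loc p M) (g : G) : Loc p (g *• M) := by
  refine ⟨isCoatom_cj l.coatom, fun x hx hx1 hc X hX hCX => ?_, ?_⟩
  · have hx' : g⁻¹ * x * g ∈ M := mem_cj.mp hx
    have hXt : g⁻¹ *• X ≠ (⊤ : Subgroup G) := fun h => hX (by
      rw [← cj_one X, ← mul_inv_cancel g, ← cj_cj, h]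
      exact map_top_of_surjective _ (MulAut.conj g).surjective)
    have h := l.uniq _ hx' (fun h => hx1 (by
      rwa [show g⁻¹ * x * g = g⁻¹ * x * g⁻¹⁻¹ by rw [inv_inv], _root_.conj_eq_one_iff] at h))
      (by rw [show g⁻¹ * x * g = g⁻¹ * x * g⁻¹⁻¹ by rw [inv_inv], orderOf_conj']; exact hc) _ hXt
      (fun c hc' => by
        have h := conj_mem_centralizer (h := g) hc'
        rw [show g * (g⁻¹ * x * g) * g⁻¹ = x by group] at h
        rw [mem_cj, inv_inv]
        exact hCX h)
    intro y hy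
    refine mem_cj.mpr (h (mem_cj.mpr ?_))
    rwa [show (g⁻¹)⁻¹ * (g⁻¹ * y * g) * g⁻¹ = y by group]
  · obtain ⟨x, hx, hx1, hc⟩ := l.ex
    exact ⟨g * x * g⁻¹, conj_mem_cj g hx, fun h => hx1 (_root_.conj_eq_one_iff.mp h), by rwa [orderOf_conj']⟩

/-- `O_{p'}(M)` inside `G`. -/
def locD (p : ℕ) (M : Subgroup G) : Subgroup G := (Cfsg.pPrimeCore p M).map M.subtype

/-- `O_p(M)` inside `G`. -/
def locO (p : ℕ) (M : Subgroup G) : Subgroup G := (Cfsg.pCore p M).map M.subtype

omit hp [Finite G] in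
theorem le_normalizer_locD : M ≤ normalizer (locD p M : Set G) :=
  (normal_subgroupOf_iff_le_normalizer (map_subtype_le _)).mp (by
    rw [subgroupOf, comap_map_eq_self_of_injective M.subtype_injective]; infer_instance)

omit hp [Finite G] in
theorem le_normalizer_locO : M ≤ normalizer (locO p M : Set G) :=
  (normal_subgroupOf_iff_le_normalizer (map_subtype_le _)).mp (by
    rw [subgroupOf, comap_map_eq_self_of_injective M.subtype_injective]; infer_instance)

omit hp in
theorem coprime_locD : (Nat.card (locD p M)).Coprime p := by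
  rw [locD, Subgroup.card_map_of_injective M.subtype_injective]
  exact CfsgLib.PLocal.coprime_card_pPrimeCore p M

omit hp in
theorem coprime_of_mem {A : Subgroup G} (hA : (Nat.card A).Coprime p) {x : G} (hx : x ∈ A) :
    (orderOf x).Coprime p :=
  hA.coprime_dvd_left (by
    have h := orderOf_dvd_natCard (⟨x, hx⟩ : A)
    rwa [Subgroup.orderOf_mk] at h)

theorem eq_one_of_mem_of_mem {A B : Subgroup G} (hA : IsPGroup p A) (hB : (Nat.card B).Coprime p)
    {x : G} (hxA : x ∈ A) (hxB : x ∈ B) : x = 1 := by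
  have := CfsgLib.PLocal.disjoint_of_isPGroup_of_coprime hA hB
  exact mem_bot.mp (this ▸ ⟨hxA, hxB⟩)

omit hp [Finite G] in
theorem isPGroup_locO : IsPGroup p (locO p M) := (CfsgLib.PLocal.isPGroup_pCore p M).map _

theorem locO_le_sylowIn {P2 : Subgroup G} (h : IsSylowIn p P2 M) : locO p M ≤ P2 := by
  rintro _ ⟨x, hx, rfl⟩
  let P : Sylow p M := (h.2.1.comap_subtype (K := M)).toSylow h.2.2
  exact (CfsgLib.PLocal.pCore_le_sylow P hx : _)

theorem Loc.comm_locD (m : OMin p G) {x y : G} (hxM : x ∈ M) (hx : (orderOf x).Coprime p)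
    (hy : y ∈ locD p M) : x * y = y * x :=
  (mem_centralizer_iff.mp (mem_centralizer m.toMin.ab coprime_locD hx (le_normalizer_locD hxM)) y hy).symm

/-- An element of order prime to `p` central modulo a normal `p`-subgroup is trivial. -/
theorem Loc.eq_one_of_central_mod (l : Loc p M) (m : OMin p G) {O : Subgroup G} (hO : IsPGroup p O)
    (hMO : M ≤ normalizer (O : Set G)) {x : G} (hx : x ∈ M) (hc : (orderOf x).Coprime p)
    (hcen : ∀ n ∈ M, ⁅n, x⁆ ∈ O) : x = 1 := by
  by_contra hx1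
  obtain ⟨r, hr, hrd⟩ := Nat.exists_prime_and_dvd (mt orderOf_eq_one_iff.mp hx1 : orderOf x ≠ 1)
  haveI := Fact.mk hr
  have hrp : r ≠ p := fun h => hr.ne_one (Nat.eq_one_of_dvd_coprimes hc hrd (dvd_of_eq h))
  have hpow : ∀ n ∈ M, ∀ i : ℕ, ⁅n, x ^ i⁆ ∈ O := by
    intro n hn i
    induction i with
    | zero => simp
    | succ i ih =>
      have h1 : x ^ i * ⁅n, x⁆ * (x ^ i)⁻¹ ∈ O :=
        (mem_normalizer_iff.mp (hMO (pow_mem hx i)) _).mp (hcen n hn)
      have := O.mul_mem ih h1
      rw [commutatorElement_def, commutatorElement_def] at this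
      rw [commutatorElement_def, pow_succ]
      rw [show n * (x ^ i * x) * n⁻¹ * (x ^ i * x)⁻¹ =
        n * x ^ i * n⁻¹ * (x ^ i)⁻¹ * (x ^ i * (n * x * n⁻¹ * x⁻¹) * (x ^ i)⁻¹) by group]
      exact this
  set u := x ^ (orderOf x / r) with hu
  have huo : orderOf u = r := orderOf_pow_orderOf_div (orderOf_pos x).ne' hrd
  have huc : (orderOf u).Coprime p := huo ▸ (Nat.coprime_primes hr hp.out).mpr hrp
  have hu1 : u ≠ 1 := fun h => by rw [h, orderOf_one] at huo; exact hr.ne_one huo.symm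
  have huM : u ∈ M := pow_mem hx _
  obtain ⟨R, hR⟩ := (IsPGroup.of_card_dvd_pow (p := r) (n := 1)
    (by rw [Nat.card_zpowers, huo, pow_one]) : IsPGroup r (zpowers u)).exists_le_sylow
  have hRc := comm_q m hrp R.isPGroup'
  have hRM : (R : Subgroup G) ≤ M := fun y hy => l.cent_le m huM hu1 huc
    (mem_centralizer_singleton_iff.mpr (congrArg Subtype.val
      (hRc.is_comm.comm ⟨y, hy⟩ ⟨u, hR (mem_zpowers u)⟩)))
  refine m.toMin.transfer_false R hRc (hR (mem_zpowers u)) hu1 fun k g hg => ?_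
  by_cases hk : u ^ k = 1
  · rw [hk]; group
  have hgM : g⁻¹ ∈ M := l.mem_of_conj_mem m (pow_mem huM k) hk
    (huc.coprime_dvd_left (orderOf_pow_dvd k)) (by rw [inv_inv]; exact hRM hg)
  have h1 : ⁅g⁻¹, u ^ k⁆ ∈ O := by
    rw [hu, ← pow_mul]; exact hpow _ hgM _
  have h2 : ⁅g⁻¹, u ^ k⁆ ∈ (R : Subgroup G) := by
    rw [commutatorElement_def, inv_inv]
    exact mul_mem hg (inv_mem (pow_mem (hR (mem_zpowers u)) k))
  have h3 := eq_one_of_mem_of_mem hO (coprime_q hrp R.isPGroup') h1 h2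
  rw [commutatorElement_def, inv_inv, mul_inv_eq_one] at h3
  exact h3

theorem Loc.locD_ne_bot (l : Loc p M) (m : OMin p G) : locD p M ≠ ⊥ := by
  intro hD
  rw [locD, map_eq_bot_iff_of_injective _ M.subtype_injective] at hD
  have hp2 : p ≠ 2 := by have := m.five; omega
  haveI := m.toMin.sol M l.coatom.1
  obtain ⟨x, hx, hx1, hxc⟩ := l.ex
  let P0 : Sylow p M := default
  have hP0 : (P0 : Subgroup M) ≠ ⊥ := by
    intro hb
    have h : Cfsg.pCore p M = ⊥ := le_bot_iff.mp (hb ▸ CfsgLib.PLocal.pCore_le_sylow P0)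
    have h2 := CfsgLib.PLocal.centralizer_pCore_le (p := p) (G := M)
      CfsgLib.PLocal.isPSolvable_of_isSolvable hD
    have h3 : (⟨x, hx⟩ : M) ∈ centralizer ((Cfsg.pCore p M) : Set M) := by
      rw [h, mem_centralizer_iff]
      intro y hy
      rw [mem_bot.mp hy, one_mul, mul_one]
    have h4 : (⟨x, hx⟩ : M) ∈ Cfsg.pCore p M := h2 h3
    rw [h, mem_bot] at h4
    exact hx1 (congrArg Subtype.val h4)
  set Z := Cfsg.centerThompsonAOf (P0 : Subgroup M) with hZ
  have hZn : Z.Normal := CfsgLib.OddOrder.ZJ.centerThompsonAOf_normal (G := M) hp2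
    (quadraticStable_of_slFree hp2 (slFree_of_odd hp2 (m.odd.of_dvd_nat (card_subgroup_dvd_card M))))
    (CfsgLib.PLocal.centralizer_pCore_le CfsgLib.PLocal.isPSolvable_of_isSolvable hD) P0
  set P := (P0 : Subgroup M).map M.subtype with hP
  have hPM : P ≤ M := map_subtype_le _
  have hPp : IsPGroup p P := P0.isPGroup'.map _
  set Z' := Z.map M.subtype with hZ'
  have hZP : Z ≤ (P0 : Subgroup M) := by
    rw [hZ, ← inducedFunctor_zjFun]; exact inducedFunctor_le _
  have hZne : Z' ≠ ⊥ := by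
    rw [hZ', Ne, map_eq_bot_iff_of_injective _ M.subtype_injective, hZ, ← inducedFunctor_zjFun]
    exact functor_ne_bot (isConjugacyFunctor_induced (isCharPFunctor_zjFun (p := p))) P0.isPGroup' hP0
  have hMN : M ≤ normalizer (Z' : Set G) :=
    (normal_subgroupOf_iff_le_normalizer (map_subtype_le _)).mp (by
      rw [subgroupOf, comap_map_eq_self_of_injective M.subtype_injective]; exact hZn)
  have hNM : normalizer (Z' : Set G) = M :=
    (l.coatom.le_iff.mp hMN).resolve_left
      (m.toMin.normalizer_ne_top hZne (m.toMin.isPGroup_ne_top ((P0.isPGroup'.to_le hZP).map M.subtype)))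
  have hZP' : Z' = Cfsg.centerThompsonAOf P := by
    rw [hZ', hZ, ← inducedFunctor_zjFun, ← inducedFunctor_zjFun, hP,
      inducedFunctor_map isCharPFunctor_zjFun M.subtype P0.isPGroup' M.subtype_injective.injOn]
  have hPS : IsSylowIn p P M := ⟨hPM, hPp, by
    rw [hP, Subgroup.relIndex, subgroupOf, comap_map_eq_self_of_injective M.subtype_injective]
    exact P0.not_dvd_index⟩
  obtain ⟨PG, hPG⟩ := hPp.exists_le_sylow
  have heq : P = (PG : Subgroup G) := by
    by_contra hne
    have h1 := lt_inf_normalizer PG.isPGroup' (lt_of_le_of_ne hPG hne)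
    have hNP : normalizer (P : Set G) ≤ M := by
      rw [← hNM, hZP', ← inducedFunctor_zjFun]
      exact normalizer_le_normalizer_functor (isConjugacyFunctor_induced (isCharPFunctor_zjFun (p := p))) hPp
    exact h1.ne (hPS.eq_of_le (le_inf hPG le_normalizer) (inf_le_right.trans hNP)
      (PG.isPGroup'.to_le inf_le_left)).symm
  obtain ⟨hnorm, -⟩ := m.zj_facts PG (fun h => hP0 (by
    rw [← heq, hP, map_eq_bot_iff_of_injective _ M.subtype_injective] at h; exact h))
  rw [← heq, ← hZP', hNM] at hnorm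
  refine hx1 (l.eq_one_of_central_mod m hPp hnorm hx hxc fun n hn => ?_)
  -- `M / P` is an abelian `p'`-group
  set PM := (P0 : Subgroup M)
  haveI : PM.Normal := by
    have := (normal_subgroupOf_iff_le_normalizer hPM).mpr hnorm
    rwa [hP, subgroupOf, comap_map_eq_self_of_injective M.subtype_injective] at this
  have hab := ab_quotient (ab_subgroup m.toMin.ab M) PM (Or.inl P0.isPGroup')
  have hcop : (Nat.card (⊤ : Subgroup (M ⧸ PM))).Coprime p := by
    rw [Subgroup.card_top, ← Subgroup.index_eq_card]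
    exact (hp.out.coprime_iff_not_dvd.mpr P0.not_dvd_index).symm
  have h1 : QuotientGroup.mk' PM ⁅(⟨n, hn⟩ : M), (⟨x, hx⟩ : M)⁆ = 1 := by
    rw [map_commutatorElement]
    exact commutatorElement_eq_one_iff_mul_comm.mpr (hab.comm hcop (mem_top _) (mem_top _))
  exact ⟨_, (QuotientGroup.eq_one_iff _).mp h1, rfl⟩

/-- A non-cyclic subgroup of order prime to `p` of `M` in a proper subgroup puts the latter inside `M`. -/
theorem Loc.le_of_noncyclic (l : Loc p M) (m : OMin p G) {Y : Subgroup G} (hY : Y ≠ ⊤) {A : Subgroup G}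
    (hAY : A ≤ Y) (hAM : A ≤ M) (hAc : (Nat.card A).Coprime p) (hA : ¬ IsCyclic A) : Y ≤ M := by
  haveI := m.toMin.sol Y hY
  obtain ⟨d, hd, hd1⟩ : ∃ d ∈ A, d ≠ 1 := by
    by_contra! h
    refine hA ?_
    rw [(Subgroup.eq_bot_iff_forall A).mpr h]
    exact isCyclic_of_subsingleton
  obtain ⟨H, hH, hHc, hAH⟩ := exists_hall_ge (p := p) hAY hAc
  set H' := H.map Y.subtype with hH'
  have hH'c : (Nat.card H').Coprime p := by
    rwa [hH', Subgroup.card_map_of_injective Y.subtype_injective]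
  haveI := m.toMin.ab H' hH'c
  have hH'M : H' ≤ M := fun h hh => l.cent_le m (hAM hd) hd1 (coprime_of_mem hAc hd)
    (mem_centralizer_singleton_iff.mpr (m.toMin.ab.comm hH'c hh (hAH hd)))
  have hH'n : ¬ IsCyclic H' := fun h =>
    hA (isCyclic_of_injective (Subgroup.inclusion hAH) (Subgroup.inclusion_injective hAH))
  set U := Cfsg.pCore p Y with hU
  have hUM : U.map Y.subtype ≤ M := by
    refine CfsgLib.Coprime.le_of_forall_inf_centralizer_le (A := H') hH'n ?_ ?_ fun b hb hb1 => ?_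
    · intro b hb
      refine mem_normalizer_fintype ?_
      rintro _ ⟨x, hx, rfl⟩
      exact ⟨_, (inferInstance : U.Normal).conj_mem x hx ⟨b, map_subtype_le _ hb⟩, rfl⟩
    · obtain ⟨k, hk⟩ := IsPGroup.iff_card.mp ((CfsgLib.PLocal.isPGroup_pCore p Y).map Y.subtype)
      rw [hk]
      exact hH'c.pow_right k
    · exact inf_le_right.trans (l.cent_le m (hH'M hb) hb1 (coprime_of_mem hH'c hb))
  set π := QuotientGroup.mk' U with hπ
  set K := ppCore p Y with hK
  have hKle : K ≤ U ⊔ H := by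
    have h1 : Cfsg.pPrimeCore p (Y ⧸ U) ≤ H.map π := CfsgLib.Solvable.le_isPiHall_of_normal
      (CfsgLib.Solvable.isPiHall_map (QuotientGroup.mk'_surjective U) hH)
      (isPiSubgroup_pcompl_iff.mpr (CfsgLib.PLocal.coprime_card_pPrimeCore p _))
    refine (comap_mono (f := π) h1).trans ?_
    rw [comap_map_eq, QuotientGroup.ker_mk', sup_comm]
  have hHK : H ≤ K := fun h hh => mem_ppCore (ab_subgroup m.toMin.ab Y) (coprime_of_mem hHc hh)
  have hFr := CfsgLib.Solvable.frattini_argument_hall (π := pcompl p) (L := K) (H := H) inferInstance hHK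
    (CfsgLib.Solvable.isPiHall_subgroupOf hH hHK)
  have hdH : (⟨d, hAY hd⟩ : Y) ∈ H := by
    obtain ⟨z, hz, he⟩ := hAH hd
    exact (Subtype.ext he : z = ⟨d, hAY hd⟩) ▸ hz
  have hle : K ⊔ normalizer (H : Set Y) ≤ M.subgroupOf Y := by
    refine sup_le (hKle.trans (sup_le (fun y hy => hUM (mem_map_of_mem _ hy))
      fun y hy => hH'M (mem_map_of_mem _ hy))) fun n hn => ?_
    exact l.mem_of_conj_mem m (hAM hd) hd1 (coprime_of_mem hAc hd)
      (hH'M (mem_map_of_mem Y.subtype ((mem_normalizer_iff.mp hn ⟨d, hAY hd⟩).mp hdH)))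
  intro y hy
  exact hle (hFr.ge (mem_top (⟨y, hy⟩ : Y)))

theorem eq_of_forall_sylow {H : Subgroup G} (hHM : H ≤ M)
    (h : ∀ r : ℕ, r.Prime → r ∣ Nat.card M → ∃ R : Subgroup G, R ≤ H ∧ ¬ r ∣ R.relIndex M) : H = M := by
  refine le_antisymm hHM (relIndex_eq_one.mp ?_)
  by_contra hne
  obtain ⟨r, hr, hd⟩ := Nat.exists_prime_and_dvd hne
  obtain ⟨R, hR, hRn⟩ := h r hr (hd.trans (relIndex_dvd_card _ _))
  exact hRn (hd.trans (relIndex_dvd_of_le_left M hR))

/-- An element of `O_{p'}(M)` centralising a Sylow `p`-subgroup of `M` is trivial. -/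
theorem Loc.eq_one_of_fix (l : Loc p M) (m : OMin p G) {P2 : Subgroup G} (hP : IsSylowIn p P2 M) {d : G}
    (hd : d ∈ locD p M) (hfix : d ∈ centralizer (P2 : Set G)) : d = 1 := by
  have hdM : d ∈ M := map_subtype_le _ hd
  refine l.eq_one_of_central_mod m (O := ⊥) IsPGroup.of_bot (by rw [normalizer_eq_top]; exact le_top) hdM
    (coprime_of_mem coprime_locD hd) fun n hn => ?_
  have hC : M ⊓ centralizer ({d} : Set G) = M := by
    refine eq_of_forall_sylow inf_le_left fun r hr _ => ?_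
    haveI := Fact.mk hr
    by_cases hrp : r = p
    · subst hrp
      exact ⟨P2, le_inf hP.1 fun y hy => mem_centralizer_singleton_iff.mpr
        (mem_centralizer_iff.mp hfix y hy), hP.2.2⟩
    · obtain ⟨R, -, hR⟩ := exists_isSylowIn_ge (p := r) (bot_le : (⊥ : Subgroup G) ≤ M) IsPGroup.of_bot
      refine ⟨R, le_inf hR.1 fun y hy => mem_centralizer_singleton_iff.mpr ?_, hR.2.2⟩
      obtain ⟨k, hk⟩ := hR.2.1 ⟨y, hy⟩
      exact Loc.comm_locD m (hR.1 hy) (coprime_orderOf hrp (congrArg Subtype.val hk)) hd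
  rw [mem_bot, commutatorElement_eq_one_iff_mul_comm]
  exact mem_centralizer_singleton_iff.mp (hC.ge hn).2

theorem locD_inf_noncyclic (l : Loc p M) (m : OMin p G) {P2 : Subgroup G} (hP : IsSylowIn p P2 M)
    {z : G} (hz : ∀ n ∈ P2, n * z = z * n) {d : G} (hd : d ∈ locD p M) (hd1 : d ≠ 1)
    (hdz : d * z = z * d) : ¬ IsCyclic (locD p M ⊓ centralizer ({z} : Set G) : Subgroup G) := by
  intro hc
  set A := locD p M ⊓ centralizer ({z} : Set G)
  have hA : (Nat.card A).Coprime p := coprime_locD.coprime_dvd_left (card_dvd_of_le inf_le_left)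
  refine hd1 (l.eq_one_of_fix m hP hd (mem_centralizer_iff.mpr fun n hn => ?_))
  obtain ⟨k, hk⟩ := hP.2.1 ⟨n, hn⟩
  have hnA : n ∈ normalizer (A : Set G) := by
    refine mem_normalizer_fintype fun y hy => ⟨(mem_normalizer_iff.mp (le_normalizer_locD (hP.1 hn)) y).mp hy.1, ?_⟩
    have h := conj_mem_centralizer (h := n) hy.2
    rwa [show n * z * n⁻¹ = z by rw [hz n hn, mul_inv_cancel_right]] at h
  exact (mem_centralizer_iff.mp (mem_centralizer_of_card_lt (m.card_lt_of_isCyclic hA hc)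
    (congrArg Subtype.val hk) hnA) d ⟨hd, mem_centralizer_singleton_iff.mpr hdz⟩).symm

/-- Two maximal subgroups with a common Sylow `p`-subgroup have no bad element in common. -/
theorem disjoint_bad (l : Loc p M) (l' : Loc p N) (m : OMin p G) (hne : M ≠ N) {P2 : Subgroup G}
    (hP : IsSylowIn p P2 M) (hP' : IsSylowIn p P2 N) {a : G} (ha : a ∈ P2) (ha1 : a ≠ 1)
    {d : G} (hd : d ∈ locD p M) (hd1 : d ≠ 1) (had : a * d = d * a)
    {e : G} (he : e ∈ locD p N) (he1 : e ≠ 1) (hae : a * e = e * a) : False := by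
  set Y := centralizer ({a} : Set G) with hY
  have hYt : Y ≠ ⊤ := m.toMin.centralizer_ne_top ha1
  haveI := m.toMin.sol Y hYt
  have hdY : d ∈ Y := mem_centralizer_singleton_iff.mpr had.symm
  have heY : e ∈ Y := mem_centralizer_singleton_iff.mpr hae.symm
  have hdc := coprime_of_mem coprime_locD hd
  have hec := coprime_of_mem coprime_locD he
  have hdM : d ∈ M := map_subtype_le _ hd
  have heN : e ∈ N := map_subtype_le _ he
  have hdN : d ∉ N := fun h => hne (l.eq_of_mem l' m hdM h hd1 hdc)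
  obtain ⟨H, hH, hHc, hdH⟩ := exists_hall_ge (p := p) (zpowers_le.mpr hdY) (by rwa [Nat.card_zpowers])
  obtain ⟨H', hH', hH'c, heH⟩ := exists_hall_ge (p := p) (zpowers_le.mpr heY) (by rwa [Nat.card_zpowers])
  have hHM : H.map Y.subtype ≤ M := fun h hh => l.cent_le m hdM hd1 hdc (mem_centralizer_singleton_iff.mpr
    (m.toMin.ab.comm (by rwa [Subgroup.card_map_of_injective Y.subtype_injective]) hh (hdH (mem_zpowers d))))
  have hH'N : H'.map Y.subtype ≤ N := fun h hh => l'.cent_le m heN he1 hec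
    (mem_centralizer_singleton_iff.mpr (m.toMin.ab.comm
      (by rwa [Subgroup.card_map_of_injective Y.subtype_injective]) hh (heH (mem_zpowers e))))
  have hcyc : IsCyclic (H.map Y.subtype) := by
    by_contra hnc
    have hYM : Y ≤ M := l.le_of_noncyclic m hYt (map_subtype_le _) hHM
      (by rwa [Subgroup.card_map_of_injective Y.subtype_injective]) hnc
    exact hne (l.eq_of_mem l' m (hYM heY) heN he1 hec)
  have hcard : Nat.card H < p := by
    rw [← Subgroup.card_map_of_injective Y.subtype_injective]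
    exact m.card_lt_of_isCyclic (by rwa [Subgroup.card_map_of_injective Y.subtype_injective]) hcyc
  set U := Cfsg.pCore p Y with hU
  set π := QuotientGroup.mk' U with hπ
  set F := Cfsg.pPrimeCore p (Y ⧸ U) with hF
  have hFle : F ≤ H.map π := CfsgLib.Solvable.le_isPiHall_of_normal
    (CfsgLib.Solvable.isPiHall_map (QuotientGroup.mk'_surjective U) hH)
    (isPiSubgroup_pcompl_iff.mpr (CfsgLib.PLocal.coprime_card_pPrimeCore p _))
  have hFlt : Nat.card F < p :=
    lt_of_le_of_lt ((card_le_of_le hFle).trans (Nat.le_of_dvd Nat.card_pos (card_map_dvd H π))) hcard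
  -- `p`-elements of `C(a)` lie in its core
  have hpU : ∀ y : Y, ∀ k : ℕ, y ^ p ^ k = 1 → y ∈ U := by
    intro y k hk
    have h1 : (π y) ^ p ^ k = 1 := by rw [← map_pow, hk, map_one]
    have h2 : π y ∈ F := Cfsg.Agent.S3754.centralizer_pPrimeCore_le
      CfsgLib.PLocal.isPSolvable_of_isSolvable (CfsgLib.PLocal.pCore_quotient_pCore_eq_bot p Y)
      (mem_centralizer_of_card_lt hFlt h1 (by rw [normalizer_eq_top]; exact mem_top _))
    exact (QuotientGroup.eq_one_iff _).mp (orderOf_eq_one_iff.mp (Nat.eq_one_of_dvd_coprimes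
      ((coprime_of_mem (CfsgLib.PLocal.coprime_card_pPrimeCore p _) h2).pow_right k)
      dvd_rfl (orderOf_dvd_of_pow_eq_one h1)))
  have hUp : IsPGroup p (U.map Y.subtype) := (CfsgLib.PLocal.isPGroup_pCore p Y).map _
  have key : ∀ (L : Subgroup G) (f : G), IsSylowIn p P2 L → f ∈ locD p L → (hfY : f ∈ Y) →
      ∀ n ∈ P2, n * a = a * n → n * f = f * n := by
    intro L f hPL hf hfY n hn hna
    obtain ⟨k, hk⟩ := hPL.2.1 ⟨n, hn⟩
    have hnU := hpU ⟨n, mem_centralizer_singleton_iff.mpr hna⟩ k (Subtype.ext (congrArg Subtype.val hk :))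
    have h1 : ⁅n, f⁆ ∈ locD p L := by
      rw [commutatorElement_def]
      exact mul_mem ((mem_normalizer_iff.mp (le_normalizer_locD (hPL.1 hn)) f).mp hf) (inv_mem hf)
    have h2 : ⁅n, f⁆ ∈ U.map Y.subtype := by
      refine ⟨⁅(⟨n, mem_centralizer_singleton_iff.mpr hna⟩ : Y), (⟨f, hfY⟩ : Y)⁆, ?_, rfl⟩
      rw [commutatorElement_def, mul_assoc, mul_assoc, ← mul_assoc (⟨f, hfY⟩ : Y)]
      exact mul_mem hnU ((inferInstance : U.Normal).conj_mem _ (inv_mem hnU) _)
    exact commutatorElement_eq_one_iff_mul_comm.mp (eq_one_of_mem_of_mem hUp coprime_locD h2 h1)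
  -- a central element of `P2`
  haveI : Nontrivial P2 := (nontrivial_iff_ne_bot _).mpr fun h => ha1 (mem_bot.mp (h ▸ ha))
  haveI := hP.2.1.center_nontrivial
  obtain ⟨⟨⟨z, hz⟩, hzc⟩, hz1⟩ := exists_ne (1 : center P2)
  have hzcomm : ∀ n ∈ P2, n * z = z * n := fun n hn =>
    congrArg Subtype.val (mem_center_iff.mp hzc ⟨n, hn⟩)
  have hzne : z ≠ 1 := fun h => hz1 (Subtype.ext (Subtype.ext h))
  have hzd : d * z = z * d := (key M d hP hd hdY z hz (hzcomm a ha).symm).symm
  have hze : e * z = z * e := (key N e hP' he heY z hz (hzcomm a ha).symm).symm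
  have hW := m.toMin.centralizer_ne_top hzne
  have hN : centralizer ({z} : Set G) ≤ N := l'.le_of_noncyclic m hW inf_le_right
    (inf_le_left.trans (map_subtype_le _)) (coprime_locD.coprime_dvd_left (card_dvd_of_le inf_le_left))
    (locD_inf_noncyclic l' m hP' hzcomm he he1 hze)
  exact hdN (hN (mem_centralizer_singleton_iff.mpr hzd))

end CfsgLib.Techniques.AbSub.Odd
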